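import Mathlib
import Cfsg.Agent.Lib.C7O.Ax
import Cfsg.Agent.Lib.PDApp.Tight2
import Cfsg.Agent.Lib.PDApp.Final
import Cfsg.Agent.Lib.BCor.Str
import Cfsg.Agent.Lib.BenderRed.Final

/-!
The stabiliser of a decomposition `O₃ ⊗ O₄⁻` is maximal in `Ω₁₂⁻(q)`.
-/

set_option autoImplicit false
set_option linter.unusedSectionVars false

namespace CfsgLib.C7O

open Module CfsgLib.ClMax CfsgLib.ClMax.Ten CfsgLib.OrthE CfsgLib.OMax QuadraticMap

theorem solvable_of_se {G : Type*} [Group G] [Finite G] (h2 : Bender.Rank2 G) {H : Subgroup G}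
    (hH : Cfsg.IsStronglyEmbedded H) : Group.IsSolvable H := by
  obtain ⟨S, L, h⟩ := BCor.exists_str_quot BenderRed.benderSimple hH h2
  have := h.isSolvable
  have : Group.IsSolvable ((Cfsg.pPrimeCore 2 G).subgroupOf H) := FT.odd_subgroup_solvable
    ((Core.odd_card_oddCore G).of_dvd_nat (Subgroup.card_comap_dvd_of_injective _ _ H.subtype_injective))
  refine Group.isSolvable_of_ker_le_range ((Cfsg.pPrimeCore 2 G).subgroupOf H).subtype
    ((QuotientGroup.mk' (Cfsg.pPrimeCore 2 G)).subgroupMap H) fun d hd => ?_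
  rw [Subgroup.range_subtype]
  exact (QuotientGroup.eq_one_iff (d : G)).1 (congrArg Subtype.val hd)

theorem solvable_of_th {G : Type*} [Group G] [Finite G] {H Q : Subgroup G} (h : PDApp.TH H Q)
    {a b : G} (ha : a ∈ PDApp.Iq Q) (hb : b ∈ PDApp.Iq Q) (hab : a ≠ b) (hc : Commute a b) :
    Group.IsSolvable Q := by
  have k : ∀ {a : G}, orderOf a = 2 → a ≠ 1 := by rintro _ h rfl; simp at h
  have := solvable_of_se ⟨⟨a, Subgroup.subset_normalClosure ha.1⟩,
    ⟨b, Subgroup.subset_normalClosure hb.1⟩, fun e => k ha.2 (congrArg Subtype.val e),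
    fun e => k hb.2 (congrArg Subtype.val e), fun e => hab (congrArg Subtype.val e),
    Subtype.ext (StrEmb.mul_self_of_orderOf ha.2), Subtype.ext (StrEmb.mul_self_of_orderOf hb.2),
    Subtype.ext hc.eq⟩ (h.se (h.mc PDApp.pdc))
  exact Group.isSolvable_of_isSolvable_injective (f := (Subgroup.inclusion
    Subgroup.le_normalClosure).codRestrict (H.subgroupOf (Subgroup.normalClosure Q))
      fun x => h.le x.2) fun x y e => Subtype.ext (congrArg (·.1.1) e)

variable {F U W V : Type*} [Field F] [AddCommGroup U] [Module F U] [AddCommGroup W]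
  [Module F W] [AddCommGroup V] [Module F V] {τ : U →ₗ[F] W →ₗ[F] V}
  {P₁ : QuadraticForm F U} {P₂ : QuadraticForm F W} {Q : QuadraticForm F V}
  {h : IsTensorProduct τ} [FiniteDimensional F U] [FiniteDimensional F W]

variable (τ) in
/-- The elements of determinant one of the left factor. -/
def SLl : Subgroup (V ≃ₗ[F] V) where
  carrier := {x | ∃ α : U ≃ₗ[F] U, LinearEquiv.det α = 1 ∧ ∀ u z, x (τ u z) = τ (α u) z}
  mul_mem' := by
    rintro _ _ ⟨α, h1, h2⟩ ⟨β, h3, h4⟩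
    exact ⟨α * β, by simp [h1, h3], by simp [h2, h4]⟩
  one_mem' := ⟨1, by simp, by simp⟩
  inv_mem' := by
    rintro x ⟨α, h1, h2⟩
    exact ⟨α⁻¹, by simp [h1], fun u z => x.injective (by simp [h2])⟩

theorem O2.le_Kron {X : Subgroup (V ≃ₗ[F] V)} (H : O2 P₁ P₂ Q h X) [Finite F]
    (h3 : finrank F U = 3) (h4 : finrank F W = 4) : X ≤ Kron τ := by
  by_contra hX
  have : Nontrivial W := nontrivial_of_finrank_pos (R := F) (by omega)
  have := finiteDimensional h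
  have := finite_equiv (F := F) (V := V)
  obtain ⟨t, ht, ht'⟩ := H.exists_t
  have hE : ∀ {k}, k ∈ E P₁ → (H.flip.rhom k).1 ∈ SLl τ := fun {k} hk =>
    ⟨k.1, Units.ext ((LinearEquiv.coe_det _).trans (det_E H.n₁ H.ha ht ht' hk)), H.lhom_apply k⟩
  have hI : ∀ {w} {a : X}, Ax τ P₁ w a.1 → a.1 ∈ SLl τ → a ∈ PDApp.Iq ((SLl τ).subgroupOf X) :=
    fun {w a} ha h1 => ⟨h1, StrEmb.orderOf_eq_two (Subtype.ext (ha.sq h)) fun e => by
      obtain ⟨_, _, -, h5, h6⟩ := ha.ex H.toTenO H.ha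
      obtain ⟨z, hz⟩ := exists_ne (0 : W)
      have := ha.neg h5 z
      rw [e] at this
      exact ne_zero h (ne_zero_of_Q h6.1) hz ((smul_eq_zero.1 ((two_smul F _).trans
        (add_eq_zero_iff_eq_neg.2 this))).resolve_left H.two)⟩
  obtain ⟨k, hk, v, hv⟩ := H.exists_ax h3
  obtain ⟨w, k', hk', h5, h6⟩ := hv.ex H.toTenO H.ha
  have ha := hI (a := ⟨_, H.left hk⟩) hv (hE hk)
  have T : PDApp.TH ((Kron τ).subgroupOf X) ((SLl τ).subgroupOf X) := by
    refine ⟨fun x ⟨α, _, e⟩ => ⟨α, 1, e⟩, fun g ⟨α, β, e⟩ => Tech.mem_normalizer_of_forall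
      fun x ⟨γ, h7, h8⟩ => ⟨α * γ * α⁻¹, by simp [h7], fun u z => ?_⟩,
      fun e => hX (Subgroup.subgroupOf_eq_top.1 e), ⟨_, ha⟩, fun a ⟨⟨α, h7, h8⟩, h9⟩ => ?_⟩
    · obtain ⟨u, rfl⟩ := α.surjective u
      obtain ⟨z, rfl⟩ := β.surjective z
      replace e : ∀ u z, g.1 (τ u z) = τ (α u) (β z) := e
      replace h8 : ∀ u z, x.1 (τ u z) = τ (γ u) z := h8
      have : g.1.symm (τ (α u) (β z)) = τ u z := by rw [← e, LinearEquiv.symm_apply_apply]
      simp [h8, e, this]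
    · obtain ⟨v, hv⟩ := ax_of_det H.toTenO h3 (H.hX a.2) ((LinearEquiv.coe_det _).symm.trans
        (congrArg Units.val h7)) h8 (congrArg Subtype.val (StrEmb.mul_self_of_orderOf h9))
        fun e => by simp [show a = 1 from Subtype.ext e] at h9
      exact ⟨hv.kron, fun g hg => inv_mem_iff.1 (H.rig4 h3 h4 (inv_mem g.2) hv a.2 hg)⟩
  have := solvable_of_th T ha (hI (a := ⟨_, mul_mem (H.left hk) (H.left hk')⟩) h6
    (mul_mem (hE hk) (hE hk'))) (fun e => hv.ne h6 h H.two h5 (congrArg Subtype.val e))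
    (Subtype.ext (hv.comm h6 h h5).eq)
  obtain ⟨z, hz⟩ := exists_ne (0 : W)
  have := Group.isSolvable_of_isSolvable_injective (f := ((((O Q).subtype.comp
    (H.flip.rhom.comp (E P₁).subtype)).codRestrict X fun x => H.left x.2).codRestrict
      ((SLl τ).subgroupOf X) fun x => hE x.2)) fun x y e => Subtype.ext (O_ext fun u =>
        left_inj h hz (by
          rw [← H.lhom_apply, ← H.lhom_apply]; exact LinearEquiv.congr_fun (congrArg (·.1.1) e) _))
  have : Nontrivial (E P₁) := ⟨⟨k, hk⟩, 1, fun e => by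
    have := ha.2
    simp [show k = 1 from congrArg Subtype.val e] at this⟩
  have := E_normal (Q := P₁)
  exact (Group.IsSolvable.commutator_lt_top_of_nontrivial (E P₁)).ne (Group.isPerfect_def.1
    (Subgroup.isPerfect_iff.2 (le_antisymm (Subgroup.commutator_le_left _ _)
      (E_perf H.n₁ H.ha ht ht'))))

theorem an_of (hP : ∀ S : Submodule F U, (∀ v ∈ S, P₁ v = 0) → finrank F S ≠ 2) : An P₁ :=
  fun u d h2 h1 h3 h5 => by
    by_contra h6
    refine hP (Submodule.span F {u, d}) (fun v hv => ?_) ?_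
    · obtain ⟨a, b, rfl⟩ := Submodule.mem_span_pair.1 hv
      simp [Q_add, Q_smul, h2, h3, h5]
    · have := finrank_span_eq_card ((LinearIndependent.pair_iff' h1).2 fun a e =>
        h6 (Submodule.mem_span_singleton.2 ⟨a, e⟩))
      rwa [Matrix.range_cons_cons_empty] at this

theorem eich_not_mem [Finite F] (H : TenO P₁ P₂ Q h) (ha : 3 ≤ finrank F U)
    (hb : 3 ≤ finrank F W) :
    ∃ x a, Q x = 0 ∧ polar Q x a = 0 ∧ (eich Q x a).1 ∉ Kron τ := by
  obtain ⟨u, u', hu⟩ := H.n₁.exists_hyp_of_three ha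
  obtain ⟨y, y', hy⟩ := H.n₂.exists_hyp_of_three hb
  obtain ⟨d, h1, h2, h3⟩ := hu.exists_nonsingular H.n₁ ha
  have h5 : Q (τ u y) = 0 := by simp [H.Q_tau, hu.he]
  have h0 : polar Q (τ u y) (τ d y) = 0 := by simp [H.eq, hy.he]
  refine ⟨_, _, h5, h0, fun hK => ?_⟩
  obtain ⟨β, hβ⟩ := right_of_fix h (M := F × F) (by simp; omega) hK
    ((Q.polarBilin (τ u y)).prod (Q.polarBilin (τ d y))) fun x hx => by
      have h6 : polar Q _ x = 0 := congrArg Prod.fst hx
      have h7 : polar Q _ x = 0 := congrArg Prod.snd hx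
      rw [eich_ap h5 h0, h6, h7]; simp
  have h6 := congrArg (cL h (polarBilin P₁ d)) (hβ u' y')
  rw [eich_ap h5 h0] at h6
  simp [H.eq, h1, h2, h3, hu.hef, hy.hef, H.two, hy.e_ne] at h6

theorem o2_of [Finite F] (H : TenO P₁ P₂ Q h) (ha : 3 ≤ finrank F U) (hb : 3 ≤ finrank F W)
    (a₁ : An P₁) (a₂ : An P₂) (hq : 5 ≤ Nat.card F) {X : Subgroup (O Q)}
    (hX : ∀ g ∈ commutator (O Q), g.1 ∈ Kron τ → g ∈ X) (hE : ¬ E Q ≤ X) :
    O2 P₁ P₂ Q h (X.map (O Q).subtype) :=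
  have h5 : 5 ≤ finrank F V := by rw [finrank_eq h]; nlinarith
  ⟨⟨H, ha, hb, a₁, a₂, hq, Subgroup.map_subtype_le _,
    fun hβ => ⟨_, hX _ (H.rhom_mem h5 hβ) ⟨1, _, H.rhom_apply _⟩, rfl⟩,
    fun hα => ⟨_, hX _ (H.flip.rhom_mem h5 hα) ⟨_, 1, H.lhom_apply _⟩, rfl⟩⟩, by
    rwa [Subgroup.subgroupOf, Subgroup.comap_map_eq_self_of_injective Subtype.val_injective]⟩

open Cfsg Cfsg.Geo in
/-- The stabiliser of a decomposition `O₃ ⊗ O₄⁻` is maximal in `Ω`, `q ≥ 5` odd. -/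
theorem isMaximalIn_omega_34 [Fintype F] (hodd : Odd (Fintype.card F)) (hq : 5 ≤ Fintype.card F)
    {ι : Type} [Fintype ι] [DecidableEq ι] {Q : QuadraticForm F (ι → F)} (hQ : Nondeg Q)
    {e : ι ≃ Fin 3 × Fin 4} {P : GL ι F} {f₁ : (Fin 3 → F) → (Fin 3 → F) → F}
    {f₂ : (Fin 4 → F) → (Fin 4 → F) → F} (hf₁ : IsSymmetricForm f₁) (hf₂ : IsSymmetricForm f₂)
    (h4 : ¬ IsPlusTypeOn (fun v => f₂ v v) ⊤) (hT : IsTensorFormStructure id (polar Q) f₁ f₂ e P) :
    IsMaximalIn (omegaGL ⇑Q) (tensorProductSubgroup 3 4 e P ⊓ omegaGL ⇑Q) := by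
  have h2 := two_ne_zero_of_odd hodd
  obtain ⟨c, hc, hτ⟩ := NonMax.tau_form (σ := RingHom.id F) (Asch.isSesq0_of_bilin hf₁.bilinear)
    (Asch.isSesq0_of_bilin hf₂.bilinear) hT
  have hc' : c / (2 * 2) ≠ 0 := div_ne_zero hc (mul_ne_zero h2 h2)
  have hp : ∀ x y, polar ((c / (2 * 2)) • NonMax.diagQF hf₁.bilinear) x y =
      c / (2 * 2) * polar (NonMax.diagQF hf₁.bilinear) x y := fun x y => by
    simp only [polar, smul_apply, smul_eq_mul]; ring
  have H : TenO ((c / (2 * 2)) • NonMax.diagQF hf₁.bilinear) (NonMax.diagQF hf₂.bilinear) Q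
      (isTensorProduct_tauOf e P) :=
    ⟨h2, fun x hx => (nondeg_iff _).2 (NonMax.diagQF_nd h2 hf₁) x fun y =>
        (mul_eq_zero.1 ((hp x y).symm.trans (hx y))).resolve_left hc',
      (nondeg_iff _).2 (NonMax.diagQF_nd h2 hf₂), hQ, fun u w u' w' => by
        rw [hp, NonMax.polar_diagQF hf₁, NonMax.polar_diagQF hf₂]
        refine (hτ u w u' w').trans ?_
        field_simp⟩
  refine isMaximalIn_omega hQ (by simp [Fintype.card_congr e]) _ (fun g => g.1 ∈ Kron (tauOf e P))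
    (fun g k hk => by rw [tensorProductSubgroup_eq, ← hk]; rfl)
    (eich_not_mem H (by simp) (by simp)) fun X _ hX g hg hg' => ?_
  by_contra hE
  exact hg' ((o2_of H (by simp) (by simp) (an_of_three H.n₁ (by simp)) (an_of fun S hS h7 =>
    h4 ⟨S, le_top, hS, by simp [h7]⟩) (by rwa [Nat.card_eq_fintype_card]) hX hE).le_Kron (by simp)
    (by simp) ⟨g, hg, rfl⟩)

end CfsgLib.C7O
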