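import Mathlib
import Cfsg.Agent.Lib.C7O.Wr2
import Cfsg.Agent.Lib.C7O.Dh
import Cfsg.Agent.Lib.C7O.T34
import Cfsg.Agent.Lib.C7.Adj

/-!
The stabiliser of a tensor square of a three-dimensional orthogonal space is maximal in `Ω₉(q)`.
-/

set_option autoImplicit false
set_option linter.unusedSectionVars false

namespace CfsgLib.C7O

open Module CfsgLib.ClMax CfsgLib.ClMax.Ten CfsgLib.OrthE CfsgLib.OMax QuadraticMap

variable {F U W V : Type*} [Field F] [AddCommGroup U] [Module F U] [AddCommGroup W]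
  [Module F W] [AddCommGroup V] [Module F V] {τ : U →ₗ[F] W →ₗ[F] V}
  {P₁ : QuadraticForm F U} {P₂ : QuadraticForm F W} {Q : QuadraticForm F V}
  {h : IsTensorProduct τ} [FiniteDimensional F U] [FiniteDimensional F W]

variable (τ P₁ P₂) in
/-- The involutions with an axis in the two slots. -/
def RR (X : Subgroup (V ≃ₗ[F] V)) : Bool → X → Prop
  | true, x => ∃ v, Ax τ P₁ v x.1
  | false, x => ∃ w, Ax τ.flip P₂ w x.1

namespace O2

variable {X : Subgroup (V ≃ₗ[F] V)} (H : O2 P₁ P₂ Q h X) [Finite F] (h3 : finrank F U = 3)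
  (h3' : finrank F W = 3)
include H h3 h3'

theorem conj_ax {v : U} {x g : X} (hx : Ax τ P₁ v x.1) :
    (g.1 ∈ Kron τ → ∃ w, Ax τ P₁ w (g * x * g⁻¹ : X).1) ∧
      (Sw τ g.1 → ∃ w, Ax τ.flip P₂ w (g * x * g⁻¹ : X).1) :=
  have : Nontrivial W := nontrivial_of_finrank_pos (R := F) (by omega)
  have : Nontrivial U := nontrivial_of_finrank_pos (R := F) (by omega)
  ⟨fun ⟨_, _, e⟩ => ⟨_, hx.conj H.toTenO (H.hX (g * x * g⁻¹).2) e⟩,
    fun ⟨_, _, e⟩ => ⟨_, hx.conj H.flip (H.hX (g * x * g⁻¹).2) e⟩⟩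

theorem ex_ax {v : U} {x : X} (hx : Ax τ P₁ v x.1) :
    ∃ e : X, (∃ w, Ax τ P₁ w e.1) ∧ e ≠ x ∧ Commute e x :=
  have : Nontrivial W := nontrivial_of_finrank_pos (R := F) (by omega)
  let ⟨w, _, hk, h1, h2⟩ := hx.ex H.toTenO H.ha
  ⟨⟨_, mul_mem x.2 (H.left hk)⟩, ⟨w, h2⟩, fun e => (hx.ne h2 h H.two h1).symm
    (congrArg Subtype.val e), Subtype.ext (hx.comm h2 h h1).symm.eq⟩

theorem rr_mul {i : Bool} {x y : X} (hx : RR τ P₁ P₂ X i x) (hy : RR τ P₁ P₂ X i y) (hne : x ≠ y)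
    (hc : Commute x y) : RR τ P₁ P₂ X i (x * y) := by
  have : Nontrivial W := nontrivial_of_finrank_pos (R := F) (by omega)
  have : Nontrivial U := nontrivial_of_finrank_pos (R := F) (by omega)
  cases i <;> obtain ⟨_, hx⟩ := hx <;> obtain ⟨_, hy⟩ := hy
  · exact hx.mul H.flip h3' hy (H.hX (x * y).2) (fun e => hne (Subtype.ext e))
      (congrArg Subtype.val hc.eq)
  · exact hx.mul H.toTenO h3 hy (H.hX (x * y).2) (fun e => hne (Subtype.ext e))
      (congrArg Subtype.val hc.eq)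

theorem rr_rig {i : Bool} {x g : X} (hx : RR τ P₁ P₂ X i x) (hg : (g * x * g⁻¹ : X).1 ∈ Wr2 τ) :
    g.1 ∈ Wr2 τ := by
  cases i <;> obtain ⟨_, hx⟩ := hx
  · exact Wr2_flip.1 (H.sym.rigW h3' h3 g.2 hx x.2 (Wr2_flip.2 hg))
  · exact H.rigW h3 h3' g.2 hx x.2 hg

theorem dh : C7.DH ((Wr2 τ).subgroupOf X) (RR τ P₁ P₂ X) := by
  have : Nontrivial W := nontrivial_of_finrank_pos (R := F) (by omega)
  have : Nontrivial U := nontrivial_of_finrank_pos (R := F) (by omega)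
  have sq : ∀ {i x}, RR τ P₁ P₂ X i x → x * x = 1 := fun {i x} hx => by
    cases i <;> obtain ⟨_, hx⟩ := hx
    exacts [Subtype.ext (hx.sq (Ten.flip h)), Subtype.ext (hx.sq h)]
  have cm : ∀ {i j x y}, i ≠ j → RR τ P₁ P₂ X i x → RR τ P₁ P₂ X j y → Commute x y :=
    fun {i j x y} hij hx hy => by
      cases i <;> cases j <;> obtain ⟨_, hx⟩ := hx <;> obtain ⟨_, hy⟩ := hy
      exacts [absurd rfl hij, Subtype.ext (hy.comm_rt h hx.rt).symm.eq,
        Subtype.ext (hx.comm_rt h hy.rt).eq, absurd rfl hij]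
  have mem : ∀ {i x}, RR τ P₁ P₂ X i x → x ∈ (Wr2 τ).subgroupOf X := fun {i x} hx => by
    cases i <;> obtain ⟨_, hx⟩ := hx
    exacts [Wr2_flip.1 (.inl hx.kron), .inl hx.kron]
  refine ⟨mem, sq, fun {i x g} hx hg => ?_, fun {i x y} hx hy => ?_, H.rr_rig h3 h3', cm,
    fun {i x y k} hx hy hne hc _ h1 h2 => ?_, fun {i j l l' x y a b} hij hx hy ha hb e => ?_,
    fun {i x} hx => ?_⟩
  · cases i <;> obtain ⟨_, hx⟩ := hx
    · exact (Wr2_flip.2 hg).elim (fun h1 => ⟨false, (H.sym.conj_ax h3' h3 hx).1 h1⟩)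
        fun h1 => ⟨true, (H.sym.conj_ax h3' h3 hx).2 h1⟩
    · exact hg.elim (fun h1 => ⟨true, (H.conj_ax h3 h3' hx).1 h1⟩)
        fun h1 => ⟨false, (H.conj_ax h3 h3' hx).2 h1⟩
  · nth_rw 2 [← inv_eq_of_mul_eq_one_right (sq hy)]
    cases i <;> obtain ⟨_, hx⟩ := hx <;> obtain ⟨_, hy⟩ := hy
    exacts [(H.sym.conj_ax h3' h3 hx).1 hy.kron, (H.conj_ax h3 h3' hx).1 hy.kron]
  · have h4 := H.rr_mul h3 h3' hx hy hne hc
    have h5 : k * x = x * k⁻¹ := by rw [← h1, ← mul_assoc, ← mul_assoc, sq hx, one_mul]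
    have h6 : k⁻¹ * y = y * k := by rw [← h2, mul_assoc, sq hy, mul_one]
    refine H.rr_rig h3 h3' h4 ?_
    rw [← mul_assoc, h5, mul_assoc x, h6, ← mul_assoc, mul_inv_cancel_right]
    exact mem h4
  · have ha' : (∃ v, Ax τ P₁ v a.1) ∨ ∃ w, Ax τ.flip P₂ w a.1 := by
      cases l
      exacts [.inr ha, .inl ha]
    have e' := congrArg Subtype.val (e.trans (cm hij hx hy).eq)
    replace e := congrArg Subtype.val e
    cases i <;> cases j <;> cases l' <;> obtain ⟨_, hx⟩ := hx <;> obtain ⟨_, hy⟩ := hy <;>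
      obtain ⟨_, hb⟩ := hb <;> try exact absurd rfl hij
    exacts [.inl (Subtype.ext (hy.uniq h H.two H.ha hx ha' hb e')),
      .inr (Subtype.ext (hx.uniq (Ten.flip h) H.two H.hb hy ha'.symm hb e)),
      .inr (Subtype.ext (hx.uniq h H.two H.ha hy ha' hb e)),
      .inl (Subtype.ext (hy.uniq (Ten.flip h) H.two H.hb hx ha'.symm hb e'))]
  · cases i <;> obtain ⟨_, hx⟩ := hx
    exacts [H.sym.ex_ax h3' h3 hx, H.ex_ax h3 h3' hx]

theorem le_Wr2 : X ≤ Wr2 τ := fun g hg => by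
  by_contra hgW
  have : Nontrivial W := nontrivial_of_finrank_pos (R := F) (by omega)
  have : Nontrivial U := nontrivial_of_finrank_pos (R := F) (by omega)
  have := finiteDimensional h
  have := finite_equiv (F := F) (V := V)
  have hp : Fact (ringChar F).Prime := ⟨CharP.char_is_prime F _⟩
  have ho : Odd (ringChar F) := hp.1.odd_of_ne_two fun e => H.two (by
    have := CharP.cast_eq_zero F (ringChar F)
    rw [e] at this; exact_mod_cast this)
  have D := H.dh h3 h3'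
  have disj : ∀ {i j x}, RR τ P₁ P₂ X i x → RR τ P₁ P₂ X j x → i = j := fun {i j x} hi hj => by
    cases i <;> cases j <;> obtain ⟨_, hi⟩ := hi <;> obtain ⟨_, hj⟩ := hj
    exacts [rfl, absurd hi.rt (hj.not_rt h H.two H.ha), absurd hj.rt (hi.not_rt h H.two H.ha), rfl]
  obtain ⟨k, hk, v, hv⟩ := H.exists_ax h3
  obtain ⟨k', hk', w, hw⟩ := H.sym.exists_ax h3'
  obtain ⟨c, hc, l, l', r, r', hl, hr, hr', hz⟩ := dh_final D (H.rr_mul h3 h3')
    (x := ⟨_, H.left hk⟩) (x' := ⟨_, H.sym.left hk'⟩) (i := true) (j := false) ⟨v, hv⟩ ⟨w, hw⟩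
    (fun k hk e => Nat.not_odd_iff_even.1 fun ho => absurd (disj (i := true) (j := false)
      (e ▸ (H.conj_ax h3 h3' hv).1 (kron_of_odd h H.ha hk ho
        (congrArg Subtype.val (pow_orderOf_eq_one k)))) ⟨w, hw⟩) (by decide))
    (g := ⟨g, hg⟩) hgW
  have h1 : r * r' * (r * r') = 1 := by
    rw [(D.comm hl hr hr').symm.mul_mul_mul_comm, D.sq hr, D.sq hr', one_mul]
  have h2 : c * (r * r') * c⁻¹ * (c * (r * r') * c⁻¹) = 1 := by rw [conj_mul, h1]; simp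
  have h4 : ∀ {k : X}, Commute (c * (r * r') * c⁻¹) k → Commute (r * r') (c⁻¹ * k * c) :=
    fun h4 => by simpa [mul_assoc] using h4.conj c⁻¹
  rcases hz with hz | hz
  · obtain ⟨t, ht, u, hu, h5⟩ := H.exists_comm h3 (c * (r * r') * c⁻¹).2 hz (congrArg Subtype.val h2)
    exact hc (inv_mem_iff.1 (D.rig (i := true) (x := ⟨t, ht⟩) ⟨u, hu⟩ (by
      simpa using dh_cent D disj hl hr hr' (h4 (k := ⟨t, ht⟩) (Subtype.ext h5.symm.eq)))))
  refine H.no_swap h3 (p := ringChar F) (g := c.1) (c * (r * r') * c⁻¹).2 hz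
    (congrArg Subtype.val h2) fun k hk h5 h6 => ?_
  have h7 := h4 (k := ⟨k, hk⟩) (Subtype.ext h5.eq)
  have h8 : (c⁻¹ * ⟨k, hk⟩ * c : X).1 ^ ringChar F = 1 := by
    simpa [h6] using conj_pow (a := c.1⁻¹) (b := k) (i := ringChar F)
  have h9 := kron_of_odd h H.ha (dh_cent D disj hl hr hr' h7) ho h8
  change Rt τ (c⁻¹ * ⟨k, hk⟩ * c : X).1
  generalize (c⁻¹ * ⟨k, hk⟩ * c : X) = m at h7 h8 h9 ⊢
  have key : ∀ {a b : X} {v w}, Ax τ P₁ v a.1 → Ax τ.flip P₂ w b.1 → Commute (a * b) m →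
      Rt τ m.1 := fun {a b v w} ha hb h11 => by
    obtain ⟨_, h12⟩ := (H.conj_ax h3 h3' (g := m) ha).1 h9
    obtain ⟨_, h13⟩ := (H.sym.conj_ax h3' h3 (g := m) hb).1 (Kron_flip (τ := τ) ▸ h9)
    have h14 : m * a * m⁻¹ * (m * b * m⁻¹) = a * b := by
      rw [conj_mul, ← h11.eq, mul_inv_cancel_right]
    have h15 := Subtype.ext (ha.uniq h H.two H.ha hb (.inl ⟨_, h12⟩) h13 (congrArg Subtype.val h14))
    rw [h15, mul_left_inj, mul_inv_eq_iff_eq_mul] at h14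
    exact H.right_of_pow h3 ha m.2 (congrArg Subtype.val h14).symm h8
  cases l <;> cases l' <;> obtain ⟨_, hr₁⟩ := id hr <;> obtain ⟨_, hr₂⟩ := id hr'
  exacts [absurd rfl hl, key hr₂ hr₁ ((D.comm hl hr hr').eq ▸ h7), key hr₁ hr₂ h7, absurd rfl hl]

end O2

theorem exists_of_nm {τ τ' : U →ₗ[F] U →ₗ[F] V} (h : IsTensorProduct τ) (h' : IsTensorProduct τ')
    [Nontrivial U] {s s' : End F U →ₐ[F] End F V} (e : ∀ a u z, s a (τ u z) = τ (a u) z)
    (e' : ∀ a u z, s' a (τ' u z) = τ' (a u) z) {g : V ≃ₗ[F] V} (hg : C7.Nm g s s') :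
    ∃ α β : U ≃ₗ[F] U, ∀ u z, g (τ u z) = τ' (α u) (β z) := by
  obtain ⟨u₀, hu⟩ := exists_ne (0 : U)
  have : Nontrivial V := ⟨_, _, ne_zero h hu hu⟩
  obtain ⟨α, hα⟩ := hg.nma
  obtain ⟨φ, hφ⟩ := Projective.exists_dual_eq_one F hu
  have h1 : ∀ u z, g (τ u z) = τ' (α u) ((cL h' (φ ∘ₗ α.symm) ∘ₗ (g : End F V) ∘ₗ τ u₀) z) :=
    fun u z => by
      have h1 := hα.apply u φ (τ u₀ z)
      rw [show C7.r s u φ (τ u₀ z) = τ u z from (e _ _ _).trans (by simp [hφ])] at h1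
      exact h1.trans (LinearMap.congr_fun (ext h' (f := C7.r s' (α u) (φ ∘ₗ α.symm))
        (g := τ' (α u) ∘ₗ cL h' (φ ∘ₗ α.symm)) fun a b => (e' _ _ _).trans (by simp)) _)
  exact ⟨α, LinearEquiv.ofInjectiveEndo (cL h' (φ ∘ₗ α.symm) ∘ₗ (g : End F V) ∘ₗ τ u₀)
    fun a b e => right_inj h hu (g.injective (by rw [h1, h1, e])), h1⟩

theorem mem_Wr_two {τ : U →ₗ[F] U →ₗ[F] V} (h : IsTensorProduct τ)
    {s : Fin 2 → End F U →ₐ[F] End F V} (T : C7.TP s) (e₀ : ∀ a u z, s 0 a (τ u z) = τ (a u) z)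
    (e₁ : ∀ a u z, s 1 a (τ u z) = τ u (a z)) {g : V ≃ₗ[F] V} : g ∈ T.Wr ↔ g ∈ Wr2 τ := by
  have := T.ntU
  refine ⟨fun hg => ?_, fun hg => T.mem_Wr.2 ?_⟩
  · obtain ⟨j, hj⟩ := T.mem_Wr.1 hg 0
    fin_cases j
    exacts [.inl (exists_of_nm h h e₀ e₀ hj),
      .inr (exists_of_nm h (Ten.flip h) e₀ (fun a u z => e₁ a z u) hj)]
  · obtain ⟨α, β, e⟩ | ⟨α, β, e⟩ := hg
    · exact Fin.forall_fin_two.2 ⟨⟨0, fun a => ⟨α.conj a, ext h fun u z => by simp [e, e₀]⟩⟩,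
        1, fun a => ⟨β.conj a, ext h fun u z => by simp [e, e₁]⟩⟩
    · exact Fin.forall_fin_two.2 ⟨⟨1, fun a => ⟨α.conj a, ext h fun u z => by simp [e, e₀, e₁]⟩⟩,
        0, fun a => ⟨β.conj a, ext h fun u z => by simp [e, e₀, e₁]⟩⟩

open Cfsg Cfsg.Geo in
/-- The stabiliser of a tensor square of `O₃` is maximal in `Ω₉(q)`, `q ≥ 5` odd. -/
theorem isMaximalIn_omega_33 [Fintype F] (hodd : Odd (Fintype.card F)) (hq : 5 ≤ Fintype.card F)
    {ι : Type} [Fintype ι] [DecidableEq ι] {Q : QuadraticForm F (ι → F)} (hQ : Nondeg Q)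
    {e : ι ≃ (Fin 2 → Fin 3)} {P : GL ι F} {f₁ : (Fin 3 → F) → (Fin 3 → F) → F}
    (hf₁ : IsSymmetricForm f₁) (hT : IsTensorPowerFormStructure id (polar Q) f₁ e P) :
    IsMaximalIn (omegaGL ⇑Q) (tensorWreathSubgroup 3 2 e P ⊓ omegaGL ⇑Q) := by
  have h2 := two_ne_zero_of_odd hodd
  obtain ⟨c, hc, hτ⟩ := C7.form_pvc (σ := RingHom.id F) (Asch.isSesq0_of_bilin hf₁.bilinear) hT
  have h := isTensorProduct_tauOf (e.trans (finTwoArrowEquiv _)) P
  have hpv : ∀ u w, C7.pvc e P ![u, w] = tauOf (e.trans (finTwoArrowEquiv _)) P u w := fun u w => by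
    rw [tauOf_apply]
    exact congrArg (Matrix.mulVec _) (funext fun i => by simp)
  generalize tauOf (e.trans (finTwoArrowEquiv _)) P = τ at h hpv
  have hc' : c / (2 * 2) ≠ 0 := div_ne_zero hc (mul_ne_zero h2 h2)
  have hp : ∀ x y, polar ((c / (2 * 2)) • NonMax.diagQF hf₁.bilinear) x y =
      c / (2 * 2) * polar (NonMax.diagQF hf₁.bilinear) x y := fun x y => by
    simp only [polar, smul_apply, smul_eq_mul]; ring
  have H : TenO ((c / (2 * 2)) • NonMax.diagQF hf₁.bilinear) (NonMax.diagQF hf₁.bilinear) Q h :=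
    ⟨h2, fun x hx => (nondeg_iff _).2 (NonMax.diagQF_nd h2 hf₁) x fun y =>
        (mul_eq_zero.1 ((hp x y).symm.trans (hx y))).resolve_left hc',
      (nondeg_iff _).2 (NonMax.diagQF_nd h2 hf₁), hQ, fun u w u' w' => by
        rw [hp, NonMax.polar_diagQF hf₁, NonMax.polar_diagQF hf₁, ← hpv, ← hpv, hτ]
        simp; field_simp⟩
  have hW := fun g => mem_Wr_two h (C7.tp_sl e P (by omega)) (g := g)
    (fun a u z => by rw [← hpv, ← hpv, (C7.pv_sl e P).act]; congr 1; ext1 i; fin_cases i <;> simp)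
    fun a u z => by rw [← hpv, ← hpv, (C7.pv_sl e P).act]; congr 1; ext1 i; fin_cases i <;> simp
  refine isMaximalIn_omega hQ (by simp [Fintype.card_congr e]) _ (fun g => g.1 ∈ Wr2 τ)
    (fun g k hk => by rw [C7.mem_Wr_sl e P (by omega) (by omega), hW, hk]) ?_
    fun X _ hX g hg hg' => ?_
  · obtain ⟨x, a, h3, h4, h5⟩ := eich_not_mem H (by simp) (by simp)
    have hp : Fact (ringChar F).Prime := ⟨CharP.char_is_prime F _⟩
    refine ⟨x, a, h3, h4, fun h6 => h5 (kron_of_odd h (by simp) h6 (hp.1.odd_of_ne_two fun e =>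
      h2 ?_) (by rw [← Subgroup.coe_pow, eich_pow h3 h4]; simp [eich_zero_right]))⟩
    have := CharP.cast_eq_zero F (ringChar F)
    rw [e] at this; exact_mod_cast this
  by_contra hE
  exact hg' ((o2_of H (by simp) (by simp) (an_of_three H.n₁ (by simp)) (an_of_three H.n₂ (by simp))
    (by rwa [Nat.card_eq_fintype_card]) (fun g h1 h2 => hX g h1 (.inl h2)) hE).le_Wr2 (by simp)
    (by simp) ⟨g, hg, rfl⟩)

end CfsgLib.C7O
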