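import Mathlib
import Cfsg.Agent.Lib.C7O.T33

/-!
Tensor powers of an orthogonal space: splitting off one factor.
-/

set_option autoImplicit false
set_option linter.unusedSectionVars false

namespace CfsgLib.C7O

open Module CfsgLib.ClMax CfsgLib.ClMax.Ten CfsgLib.OrthE CfsgLib.OMax QuadraticMap CfsgLib.C7

variable {F U W V : Type*} [Field F] [AddCommGroup U] [Module F U] [AddCommGroup W]
  [Module F W] [AddCommGroup V] [Module F V] {P : QuadraticForm F U} {Q : QuadraticForm F V}
  {R : QuadraticForm F W} {τ : W →ₗ[F] U →ₗ[F] V} {h : IsTensorProduct τ}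

theorem sq_mem_comm [Finite F] [FiniteDimensional F V] (hQ : Nondeg Q) (h2 : (2 : F) ≠ 0)
    (h3 : 3 ≤ finrank F V) (g : O Q) : g * g ∈ commutator (O Q) := by
  obtain ⟨e, f, hu⟩ := hQ.exists_hyp_of_three h3
  let H : Subgroup (O Q) := (MonoidHom.ker (powMonoidHom 2)).comap Abelianization.of
  have hH : ∀ g, g ∈ H ↔ g * g ∈ commutator (O Q) := fun g => by
    rw [← Abelianization.ker_of, MonoidHom.mem_ker, map_mul, ← pow_two]; rfl
  have : H = ⊤ := eq_top_of_refl_of_siegel hQ H
    (fun v _ => (hH _).2 (by rw [refl_mul_self]; exact one_mem _))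
    fun u v _ _ _ => (hH _).2 (by
      rw [← hu.E_eq_commutator_of_three hQ h3 ⟨-1, by simp, fun e => h2 (by linear_combination -e)⟩]
      exact mul_mem (eich_mem_E _ _) (eich_mem_E _ _))
  exact (hH g).1 (this ▸ Subgroup.mem_top g)

theorem odd_char (h2 : (2 : F) ≠ 0) (p : ℕ) [hp : Fact p.Prime] [CharP F p] : Odd p :=
  hp.1.odd_of_ne_two fun e => h2 (by subst e; exact_mod_cast CharP.cast_eq_zero F 2)

theorem mem_comm_of_odd [Finite F] [FiniteDimensional F V] (hQ : Nondeg Q) (h2 : (2 : F) ≠ 0)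
    (h3 : 3 ≤ finrank F V) {g : O Q} {n : ℕ} (hn : Odd n) (e : g ^ n = 1) :
    g ∈ commutator (O Q) := by
  obtain ⟨m, rfl⟩ := hn
  have := sq_mem_comm hQ h2 h3 (g ^ (m + 1))
  rwa [← pow_add, show m + 1 + (m + 1) = 2 * m + 1 + 1 by omega, pow_succ, e, one_mul] at this

/-- The endomorphisms of the left factor. -/
noncomputable def lf (h : IsTensorProduct τ) : End F W →ₐ[F] End F V where
  toFun m := h.map h m LinearMap.id
  map_one' := ext h fun _ _ => by simp
  map_mul' _ _ := ext h fun _ _ => by simp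
  map_zero' := ext h fun _ _ => by simp
  map_add' _ _ := ext h fun _ _ => by simp
  commutes' _ := ext h fun _ _ => by simp

@[simp] theorem lf_apply (m : End F W) (w : W) (u : U) : lf h m (τ w u) = τ (m w) u := by
  simp [lf]

variable [FiniteDimensional F U]

theorem gen_E [Finite F] (hP : Nondeg P) (h2 : (2 : F) ≠ 0) (h3 : 3 ≤ finrank F U)
    (A : Subalgebra F (End F U))
    (hA : ∀ x c, P x = 0 → polar P x c = 0 → ((eich P x c).1 : End F U) ∈ A) (a : End F U) :
    a ∈ A := by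
  have k1 : ∀ x, P x = 0 → (polarBilin P x).smulRight x ∈ A := fun x hx => by
    by_cases h0 : x = 0
    · simp [h0]
    obtain ⟨y, hy⟩ := hP.exists_hyp hx h0
    obtain ⟨d, h4, -, h5⟩ := hy.exists_nonsingular hP h3
    convert A.smul_mem (sub_mem (add_mem (hA x d hx (pc h4)) (hA x (-d) hx (by simp [pc h4])))
      (A.smul_mem (one_mem A) 2)) (-(2 * P d)⁻¹) using 1
    ext v
    simp [eich_ap hx (pc h4), eich_ap hx (show polar P x (-d) = 0 by simp [pc h4]), Q_neg]
    match_scalars <;> field_simp <;> ring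
  have k2 : ∀ x, P x = 0 → ∀ w, (polarBilin P w).smulRight x ∈ A := fun x hx w => by
    by_cases h0 : x = 0
    · simp [h0]
    refine sing_span hP hx h0 (A.toSubmodule.comap ((LinearMap.smulRightₗ.flip x) ∘ₗ
      polarBilin P)).toAddSubgroup (fun t => ?_) (fun y hy hxy => ?_) w
    · exact Submodule.smul_mem _ _ (k1 x hx)
    · refine (A.toSubmodule.smul_mem_iff hxy).1 (Subalgebra.mem_toSubmodule A |>.2 ?_)
      convert mul_mem (k1 x hx) (k1 y hy) using 1
      ext v; simp [smul_smul, mul_comm]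
  obtain ⟨x, y, hx⟩ := hP.exists_hyp_of_three h3
  refine mem_of_rankOne (A := A.toSubmodule) (fun u φ => ?_) a
  obtain ⟨w, rfl⟩ := exists_polar_dual hP φ
  exact sing_induction hx (A.toSubmodule.comap
    (LinearMap.smulRightₗ (polarBilin P w))).toAddSubgroup (fun v hv => k2 v hv w) u

theorem cm_of_eich [Finite F] (hP : Nondeg P) (h2 : (2 : F) ≠ 0) (h3 : 3 ≤ finrank F U)
    {s : End F U →ₐ[F] End F V} {E : End F V}
    (hE : ∀ x c, P x = 0 → polar P x c = 0 → s (eich P x c).1 * E = E * s (eich P x c).1) :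
    E ∈ Cm s := mem_Cm.2 fun a => by
  simpa [Subalgebra.mem_centralizer_iff, eq_comm] using gen_E hP h2 h3
    ((Subalgebra.centralizer F {E}).comap s)
    (fun x c h1 h4 => by simpa [Subalgebra.mem_centralizer_iff] using (hE x c h1 h4).symm) a

/-- A factor split off as the right factor of a tensor product. -/
structure Sl (s : End F U →ₐ[F] End F V) (P : QuadraticForm F U) (Q : QuadraticForm F V)
    (h : IsTensorProduct τ) (R : QuadraticForm F W) : Prop extends TenO R P Q h where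
  act : ∀ a w u, s a (τ w u) = τ w (a u)

namespace Sl

variable {s : End F U →ₐ[F] End F V} (S : Sl s P Q h R)
include S

theorem r_tau (u : U) (φ : Dual F U) (v : V) : r s u φ v = τ (cR h φ v) u :=
  LinearMap.congr_fun (ext h (f := r s u φ) (g := τ.flip u ∘ₗ cR h φ) fun a b => by
    simp [r_def, S.act]) v

theorem tau_mem (w : W) (u : U) : τ w u ∈ L s u := fun ψ h0 _ => by simp [S.r_tau, h0]

theorem mem_L {u : U} (hu : u ≠ 0) {v : V} (hv : v ∈ L s u) : ∃ w, v = τ w u :=
  let ⟨_, hθ⟩ := exists_dual_one_of_ne (F := F) hu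
  ⟨_, (r_eq_of_mem_L hθ hv).symm.trans (S.r_tau _ _ _)⟩

theorem lf_mem (m : End F W) : lf h m ∈ Cm s :=
  mem_Cm.2 fun a => ext h fun w u => by simp [S.act]

theorem eq_lf [Nontrivial U] {E : End F V} (hE : E ∈ Cm s) : ∃ m, E = lf h m := by
  obtain ⟨u, hu⟩ := exists_ne (0 : U)
  obtain ⟨θ, hθ⟩ := exists_dual_one_of_ne (F := F) hu
  refine ⟨cR h θ ∘ₗ E ∘ₗ τ.flip u, ext h fun w z => ?_⟩
  have := Cm_r_apply hE z θ (τ w u)
  simpa [S.r_tau, hθ] using this

theorem rhom_eq (β : O P) : ((S.rhom β).1 : End F V) = s β.1 := ext h fun w u => by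
  simp [S.rhom_apply, S.act]

theorem lhom_eq (α : O R) : ((S.flip.rhom α).1 : End F V) = lf h α.1 := ext h fun w u => by
  simp [S.lhom_apply]

theorem cP_iff {x : U} (hx : x ≠ 0) {v : V} : cP h P x v = 0 ↔ r s x (polarBilin P x) v = 0 :=
  ⟨fun e => by rw [S.r_tau]; exact (congrArg (τ · x) e).trans (by simp),
    fun e => left_inj h hx (by rw [map_zero, LinearMap.zero_apply, ← e, S.r_tau]; rfl)⟩

theorem eq_lhom [Nontrivial U] [FiniteDimensional F W] {β : V ≃ₗ[F] V} (hβ : β ∈ O Q)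
    (hC : (β : End F V) ∈ Cm s) : ∃ α : O R, β = (S.flip.rhom α).1 := by
  obtain ⟨m, hm⟩ := S.eq_lf hC
  obtain ⟨u, hu⟩ := S.n₂.exists_nonsingular
  have e : ∀ w z, β (τ w z) = τ (m w) z := fun w z => (LinearMap.congr_fun hm _).trans (lf_apply ..)
  exact ⟨⟨LinearEquiv.ofInjectiveEndo m fun a b e' => left_inj h (ne_zero_of_Q hu)
    (β.injective (by rw [e, e, e'])), fun w => show R (m w) = R w by
      simpa [e, S.Q_tau, S.two, hu] using hβ (τ w u)⟩, equiv_ext h fun w z => by
    rw [e, S.lhom_apply]; rfl⟩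

theorem nm_of {W' : Type*} [AddCommGroup W'] [Module F W'] {τ' : W' →ₗ[F] U →ₗ[F] V}
    {h' : IsTensorProduct τ'} {R' : QuadraticForm F W'} {s' : End F U →ₐ[F] End F V}
    (S' : Sl s' P Q h' R') {g : V ≃ₗ[F] V} {α : W → W'} {β : U ≃ₗ[F] U}
    (e : ∀ w u, g (τ w u) = τ' (α w) (β u)) : Nm g s s' :=
  fun a => ⟨β.conj a, ext h fun w u => by simp [S.act, S'.act, e]⟩

theorem mem_Kron [Nontrivial U] [Nontrivial V] [FiniteDimensional F W] {g : V ≃ₗ[F] V}
    (hg : Nm g s s) : g ∈ Kron τ := by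
  obtain ⟨α, hα⟩ := hg.nma
  obtain ⟨β, hβ, e, -⟩ := hα.exists_Cm
  obtain ⟨m, rfl⟩ := S.eq_lf hβ
  exact Kron_flip (τ := τ) ▸ mem_Kron_of (Ten.flip h) α fun w => ⟨m w, fun u => by
    simpa [S.act] using LinearMap.congr_fun e (τ w u)⟩

end Sl

variable {T : Type*} {s : T → End F U →ₐ[F] End F V}

/-- A tensor power of an orthogonal space. -/
structure OT (s : T → End F U →ₐ[F] End F V) (P : QuadraticForm F U) (Q : QuadraticForm F V) :
    Prop extends TP s where
  h2 : (2 : F) ≠ 0
  nP : Nondeg P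
  nQ : Nondeg Q
  h3 : 3 ≤ finrank F U
  adj : ∀ i (a a' : End F U), (∀ u w, polar P (a u) w = polar P u (a' w)) →
    ∀ v w, polar Q (s i a v) w = polar Q v (s i a' w)

/-- Restriction of a factor to an invariant subspace. -/
def resA (s : End F U →ₐ[F] End F V) (W : Submodule F V) (h : ∀ a, ∀ v ∈ W, s a v ∈ W) :
    End F U →ₐ[F] End F W where
  toFun a := (s a).restrict (h a)
  map_one' := by ext; simp
  map_mul' _ _ := by ext; simp
  map_zero' := by ext; simp
  map_add' _ _ := by ext; simp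
  commutes' _ := by ext; simp

namespace OT

variable (H : OT s P Q)
include H

theorem adj_r (i : T) (x y : U) (v w : V) :
    polar Q (r (s i) x (polarBilin P y) v) w = polar Q v (r (s i) y (polarBilin P x) w) :=
  H.adj i _ _ (fun a b => by simp [polar_comm P a, mul_comm]) v w

variable [FiniteDimensional F V]

theorem split (i : T) : ∃ (W : Submodule F V) (τ : W →ₗ[F] U →ₗ[F] V) (h : IsTensorProduct τ)
    (R : QuadraticForm F W) (s' : {l // l ≠ i} → End F U →ₐ[F] End F W), Sl (s i) P Q h R ∧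
      OT s' P R ∧ ∀ l a, s l.1 a = lf h (s' l a) := by
  have := H.ntU
  have := H.nt
  obtain ⟨v, hv⟩ := H.nP.exists_nonsingular
  have h0 := ne_zero_of_Q hv
  have h1 := polar_self_ne H.h2 hv
  let τ : L (s i) v →ₗ[F] U →ₗ[F] V := ((r (s i)).flip (polarBilin P v)).flip ∘ₗ (L (s i) v).subtype
  have hτ : ∀ w u, τ w u = r (s i) u (polarBilin P v) w := fun _ _ => rfl
  have hv' : ∀ w : L (s i) v, τ w v = polar P v v • w.1 := fun w => by
    have := r_eq_of_mem_L (φ := (polar P v v)⁻¹ • polarBilin P v) (by simp [h1, -polar_self]) w.2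
    rw [map_smul, LinearMap.smul_apply, inv_smul_eq_iff₀ h1] at this
    exact this
  have h : IsTensorProduct τ := by
    have hs : Function.Surjective (TensorProduct.lift τ) := fun x =>
      ⟨∑ j, (⟨_, r_mem_L v ((polar P v v)⁻¹ • (finBasis F U).coord j) x⟩ : L (s i) v) ⊗ₜ
        finBasis F U j, by
        simpa [hτ, smul_smul, h1, -polar_self] using LinearMap.congr_fun (sum_r (s i)) x⟩
    exact ⟨(LinearMap.injective_iff_surjective_of_finrank_eq_finrank (by
      rw [Module.finrank_tensorProduct, mul_comm, finrank_L_mul h0])).2 hs, hs⟩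
  let R : QuadraticForm F (L (s i) v) := polar P v v • Q.comp (L (s i) v).subtype
  have hR : ∀ a b, polar R a b = polar P v v * polar Q a.1 b.1 := fun a b => by
    simp only [R, polar, smul_apply, comp_apply, smul_eq_mul, Submodule.subtype_apply,
      Submodule.coe_add]; ring
  have e : ∀ w u w' u', polar Q (τ w u) (τ w' u') = polar R w w' * polar P u u' :=
    fun w u w' u' => by
      rw [hτ, hτ, H.adj_r, r_r, ← hτ, hv', hR]
      simp [-polar_self]; ring
  have hRn : Nondeg R := fun w hw => left_inj h h0 (by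
    rw [map_zero, LinearMap.zero_apply]
    refine H.nQ _ fun y => ?_
    induction y using h.inductionOn with
    | zero => simp
    | tmul a b => simp [e, hw]
    | add a b ha hb => simp [ha, hb])
  have S : Sl (s i) P Q h R := ⟨⟨H.h2, hRn, H.nP, H.nQ, e⟩, fun a w u =>
    LinearMap.congr_fun (s_mul_r (s i) a u _) w.1⟩
  let s' : {l // l ≠ i} → End F U →ₐ[F] End F (L (s i) v) := fun l =>
    resA (s l.1) _ fun a _ => Cm_mem_L (H.comm l.2.symm a)
  have e' : ∀ l a, s l.1 a = lf h (s' l a) := fun l a => ext h fun w u => by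
    rw [lf_apply, hτ, hτ, Cm_r_apply (H.comm l.2.symm a)]; rfl
  have inj : Function.Injective (lf h) := fun a b e => LinearMap.ext fun w =>
    left_inj h h0 (by simpa using LinearMap.congr_fun e (τ w v))
  refine ⟨_, τ, h, R, s', S, ⟨⟨fun {l m} hlm a => mem_Cm.2 fun b => inj ?_, fun A hA => ?_, H.two,
    ?_⟩, H.h2, H.nP, hRn, H.h3, fun l a a' ha w w' => ?_⟩, e'⟩
  · rw [map_mul, map_mul, ← e', ← e', mem_Cm.1 (H.comm (Subtype.coe_ne_coe.2 hlm) a)]
  · refine eq_top_iff.2 fun m _ => ?_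
    obtain ⟨m', h4, h5⟩ := H.mem_of_Cm (A := A.map (lf h))
      (fun l hl a => ⟨_, hA ⟨l, hl⟩ a, (e' ⟨l, hl⟩ a).symm⟩)
      (by rintro _ ⟨m, -, rfl⟩; exact S.lf_mem m) (S.lf_mem m)
    exact inj h5 ▸ h4
  · refine nontrivial_of_finrank_pos (R := F) (Nat.pos_of_ne_zero fun h4 => ?_)
    have := finrank_L_mul (s := s i) h0
    rw [h4, mul_zero] at this
    exact finrank_pos.ne this
  · rw [hR, hR]; exact congrArg _ (H.adj l a a' ha _ _)

end OT

end CfsgLib.C7O
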