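import Mathlib
import Cfsg.Agent.Lib.C7O.Ot

/-!
Tensor powers of an orthogonal space: conjugation by the root elements of a factor.
-/

set_option autoImplicit false
set_option linter.unusedSectionVars false

namespace CfsgLib.C7O

open Module CfsgLib.ClMax CfsgLib.ClMax.Ten CfsgLib.OrthE CfsgLib.OMax QuadraticMap CfsgLib.C7

variable {F U V : Type*} [Field F] [AddCommGroup U] [Module F U] [AddCommGroup V] [Module F V]
  {P : QuadraticForm F U} {Q : QuadraticForm F V}

section Ring

variable {A : Type*} [Ring A] [Algebra F A] {N M G : A}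

theorem conj_exp (t : F) : (1 + t • N + (t * t) • M) * G * (1 + (-t) • N + (-t * -t) • M) =
    G + t • (N * G - G * N) + (t * t) • (M * G + G * M - N * G * N) +
      (t * t * t) • (N * G * M - M * G * N) + (t * t * t * t) • (M * G * M) := by
  simp only [add_mul, mul_add, one_mul, mul_one, smul_mul_assoc, mul_smul_comm]
  module

theorem comm_of_cubic (h2 : (2 : F) ≠ 0) (h1 : N * N = (2 : F) • M) (h3 : N * M = 0)
    (h4 : M * N = 0) (h5 : M * M = 0) (hq : M = 0 ∨ ∃ t : F, t ≠ 0 ∧ t * t ≠ 1)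
    {B : Subalgebra F A} (red : ∀ G ∈ B, G * G = 0 → G = 0) (hB : ∀ t : F, ∀ G ∈ B,
      (1 + t • N + (t * t) • M) * G * (1 + (-t) • N + (-t * -t) • M) ∈ B) (hG : G ∈ B) :
    N * G = G * N := by
  have k : ∀ G ∈ B, N * G - G * N ∈ B ∧ M * G + G * M - N * G * N ∈ B ∧
      N * G * M - M * G * N ∈ B ∧ M * G * M ∈ B := fun G hG => by
    have e := fun t => hB t G hG
    simp only [conj_exp] at e
    have e1 : ∀ t : F, t ≠ 0 → M * G + G * M - N * G * N + (t * t) • (M * G * M) ∈ B ∧
        N * G - G * N + (t * t) • (N * G * M - M * G * N) ∈ B := fun t ht => by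
      constructor
      · convert B.smul_mem (sub_mem (add_mem (e t) (e (-t))) (B.smul_mem hG 2)) (2 * t * t)⁻¹ using 1
        match_scalars <;> field_simp <;> ring
      · convert B.smul_mem (sub_mem (e t) (e (-t))) (2 * t)⁻¹ using 1
        match_scalars <;> field_simp <;> ring
    suffices N * G * M - M * G * N ∈ B ∧ M * G * M ∈ B from
      ⟨by simpa using sub_mem (e1 1 one_ne_zero).2 (B.smul_mem this.1 (1 * 1)),
        by simpa using sub_mem (e1 1 one_ne_zero).1 (B.smul_mem this.2 (1 * 1)), this⟩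
    rcases hq with rfl | ⟨t, ht, ht'⟩
    · simp
    have h6 := sub_ne_zero.2 ht'
    constructor
    · convert B.smul_mem (sub_mem (e1 t ht).2 (e1 1 one_ne_zero).2) (t * t - 1)⁻¹ using 1
      rw [eq_inv_smul_iff₀ h6]; module
    · convert B.smul_mem (sub_mem (e1 t ht).1 (e1 1 one_ne_zero).1) (t * t - 1)⁻¹ using 1
      rw [eq_inv_smul_iff₀ h6]; module
  have h1' : ∀ E, N * (N * E) = (2 : F) • (M * E) := fun E => by
    rw [← mul_assoc, h1, smul_mul_assoc]
  have h3' : ∀ E, N * (M * E) = 0 := fun E => by rw [← mul_assoc, h3, zero_mul]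
  have h4' : ∀ E, M * (N * E) = 0 := fun E => by rw [← mul_assoc, h4, zero_mul]
  have h5' : ∀ E, M * (M * E) = 0 := fun E => by rw [← mul_assoc, h5, zero_mul]
  have d4 : ∀ G ∈ B, ∀ E, M * (G * (M * E)) = 0 := fun G hG E => by
    rw [← mul_assoc, ← mul_assoc, red _ (k G hG).2.2.2 (by simp [mul_assoc, h5']), zero_mul]
  have d3 : ∀ G ∈ B, ∀ E, M * (G * (N * E)) = N * (G * (M * E)) := fun G hG E => by
    rw [← mul_assoc, ← mul_assoc, ← sub_eq_zero.1 (red _ (k G hG).2.2.1 (by
      simp [mul_assoc, mul_sub, sub_mul, h1', h3', h4', h5', d4 G hG])), mul_assoc, mul_assoc]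
  have d2 : ∀ G ∈ B, ∀ E, N * (G * (N * E)) = M * (G * E) + G * (M * E) := fun G hG E => by
    rw [← mul_assoc, ← mul_assoc, ← sub_eq_zero.1 (red _ (k G hG).2.1 (by
      have e1 := d4 _ (mul_mem hG hG) 1
      have e2 := d4 _ hG 1
      have e3 := d3 _ hG 1
      simp only [mul_assoc, mul_one] at e1 e2 e3
      simp only [mul_assoc, mul_sub, sub_mul, mul_add, add_mul, h1', h3', h4', h5', d4 G hG, e1, e2,
        d3 G hG, ← e3, mul_zero, mul_smul_comm]
      module)), add_mul, mul_assoc, mul_assoc]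
  refine sub_eq_zero.1 (red _ (k G hG).1 ?_)
  have e1 := d2 _ (mul_mem hG hG) 1
  have e2 := d2 _ hG 1
  simp only [mul_assoc, mul_one] at e1 e2
  simp only [mul_assoc, mul_sub, sub_mul, mul_add, h1', d2 G hG, e1, e2, mul_smul_comm]
  module

end Ring

variable [FiniteDimensional F U]

section One

variable {s : End F U →ₐ[F] End F V} {x c : U} {E G : End F V}

variable (s P) in
/-- The map `x x^*` of a factor. -/
noncomputable abbrev ee (x : U) : End F V := r s x (polarBilin P x)

variable (s P) in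
/-- The map `x c^* - c x^*` of a factor. -/
noncomputable abbrev nn (x c : U) : End F V := r s x (polarBilin P c) - r s c (polarBilin P x)

theorem s_eich (hx : P x = 0) (hc : polar P x c = 0) (t : F) :
    s (eich P x (t • c)).1 = 1 + t • nn P s x c + (t * t) • (-P c • ee P s x) := by
  rw [show ((eich P x (t • c)).1 : End F U) = 1 + t • ((polarBilin P c).smulRight x -
    (polarBilin P x).smulRight c) + (t * t) • (-P c • (polarBilin P x).smulRight x) by
      ext v
      simp [eich_ap hx (show polar P x (t • c) = 0 by simp [hc]), Q_smul]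
      module]
  simp only [map_add, map_smul, map_sub, map_one, nn, r_def]

theorem nn_sq (hx : P x = 0) (hc : polar P x c = 0) :
    nn P s x c * nn P s x c = (2 : F) • (-P c • ee P s x) := by
  simp [mul_sub, sub_mul, hx, hc, pc hc, smul_smul]

theorem co_mul (a b : End F U) (φ : Dual F U) (z : U) :
    co s (s a * E * s b) φ z = co s E (φ ∘ₗ a) (b z) := by
  simp only [co_def, ← r_mul_s, ← s_mul_r, mul_assoc]

theorem cm_of_co [Finite F] (hP : Nondeg P) (h2 : (2 : F) ≠ 0) (h3 : 3 ≤ finrank F U)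
    [FiniteDimensional F V]
    (h : ∀ x u, P x = 0 → x ≠ 0 → polar P x u = 0 → co s E (polarBilin P x) u = 0) : E ∈ Cm s := by
  obtain ⟨u, _, hu⟩ := hP.exists_hyp_of_three h3
  refine Cm_of_co hu.e_ne fun u φ h0 => (forall_dual_apply_eq_zero_iff F _).1 fun θ => ?_
  obtain ⟨w, rfl⟩ := exists_polar_dual hP φ
  have hB := (nondeg_iff P).1 hP
  let a : End F U := (LinearMap.BilinForm.toDual _ hB).symm ∘ₗ (co s E).compr₂ θ ∘ₗ polarBilin P
  have ha : ∀ x u, polar P (a x) u = θ (co s E (polarBilin P x) u) := fun x u =>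
    LinearMap.BilinForm.apply_toDual_symm_apply (hB := hB) _ _
  obtain ⟨c, hc⟩ := scalar_of_sing hP h2 h3 (e := a) fun x hx => by
    by_cases h4 : x = 0
    · simp [h4]
    exact mem_span_of_orth hP fun u hu => by rw [ha, h x u hx h4 hu, map_zero]
  rw [← ha, hc, polar_smul_left, show polar P w u = 0 from h0, smul_zero]

theorem exists_tsp_ne [Finite F] (hP : Nondeg P) (h2 : (2 : F) ≠ 0) (h5 : 5 ≤ finrank F U)
    [FiniteDimensional F V] (hE : E ∉ Cm s) :
    ∃ y c, TSP P y c ∧ nn P s y c * E * nn P s y c ≠ 0 := by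
  by_contra! h
  have k : ∀ {y c}, TSP P y c → co s E (polarBilin P y) c = 0 ∧ co s E (polarBilin P y) y = 0 :=
    fun {y c} T => by
      obtain ⟨y', c', h1, h3, h4, h6⟩ := T.dual hP
      have e := fun z => co_mul (s := s) (E := E) ((polarBilin P c).smulRight y -
        (polarBilin P y).smulRight c) ((polarBilin P c).smulRight y - (polarBilin P y).smulRight c)
        (polarBilin P c') z
      rw [map_sub, ← r_def, ← r_def, h y c T, show polarBilin P c' ∘ₗ _ = -polarBilin P y by
        ext v; simp [h6, polar_comm P c', h4]] at e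
      exact ⟨by simpa [h1, h3, co_def] using (e y').symm, by simpa [h4, h6, co_def] using e c'⟩
  refine hE (cm_of_co hP h2 (by omega) fun x u hx h0 hu => ?_)
  have k2 : ∀ p, P p = 0 → polar P x p = 0 → co s E (polarBilin P x) p = 0 := fun p h1 h3 => by
    by_cases h4 : p ∈ Submodule.span F {x}
    · obtain ⟨a, rfl⟩ := Submodule.mem_span_singleton.1 h4
      obtain ⟨c, T⟩ := exists_tsp hP h5 hx h0
      rw [map_smul, (k T).2, smul_zero]
    · exact (k ⟨hx, h1, h3, h0, h4⟩).1
  obtain ⟨p, q, h1, h3, h4, h6, rfl⟩ := sing_add_sing_orth hP h5 hx h0 hu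
  rw [map_add, k2 p h1 h4, k2 q h3 h6, add_zero]

theorem span_three (hP : Nondeg P) (h2 : (2 : F) ≠ 0) (h3 : finrank F U = 3) {x y d : U}
    (h : Hyp P x y) (h1 : polar P d x = 0) (h4 : polar P d y = 0) (hd : P d ≠ 0) (u : U) :
    ∃ a b c : F, u = a • x + b • y + c • d := by
  have h5 := polar_self_ne h2 hd
  obtain ⟨a, ha⟩ := Submodule.mem_span_singleton.1 (mem_of_three hP h2 h3 h.e_ne h.hee hd (pc h1)
    (w := u - polar P x u • y - (polar P d u / polar P d d) • d) (by simp [h.hef, pc h1])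
    (by simp [h4, h5, -polar_self]))
  exact ⟨a, polar P x u, polar P d u / polar P d d, by rw [ha]; abel⟩

theorem exists_d2 [Finite F] (hP : Nondeg P) (h2 : (2 : F) ≠ 0) (h3 : finrank F U = 3) {t : F}
    (ht : t ≠ 0) (ht' : t * t ≠ 1) [FiniteDimensional F V]
    (h : ∀ y, P y = 0 → ee P s y * E * ee P s y = 0) (hE : E ∉ Cm s) :
    ∃ x d, P x = 0 ∧ x ≠ 0 ∧ polar P x d = 0 ∧ P d ≠ 0 ∧ co s E (polarBilin P x) d ≠ 0 ∧
      -P d • ee P s x * E + E * (-P d • ee P s x) - nn P s x d * E * nn P s x d =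
        nn P s x d * ((2 : F)⁻¹ • co s E (polarBilin P x) d) := by
  obtain ⟨b, hb⟩ : ∃ b : U →ₗ[F] U →ₗ[F] End F V, ∀ u w, co s E (polarBilin P u) w = b u w :=
    ⟨co s E ∘ₗ polarBilin P, fun _ _ => rfl⟩
  have h0 : ∀ y, P y = 0 → b y y = 0 := fun y hy => by
    by_cases h4 : y = 0
    · simp [h4]
    exact hb y y ▸ r_mul_eq_zero h4 (fun e => h4 (hP y (LinearMap.congr_fun e))) (co_mem _ _ _)
      ((r_co _ _ _ _ _).symm.trans (h y hy))
  obtain ⟨x, d, hx, h4, h5, h6⟩ : ∃ x d, P x = 0 ∧ x ≠ 0 ∧ polar P x d = 0 ∧ b x d ≠ 0 := by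
    by_contra! h4
    exact hE (cm_of_co hP h2 h3.ge fun x u h5 h6 h7 => hb x u ▸ h4 x u h5 h6 h7)
  obtain ⟨y, hy⟩ := hP.exists_hyp hx h4
  replace h6 : b x (pr P x y d) ≠ 0 := by simpa [pr_def, pc h5, h0 x hx] using h6
  have h7 := hy.pr_e d
  have h8 := hy.pr_f d
  generalize pr P x y d = d at h6 h7 h8
  have hd : P d ≠ 0 := fun hd => by
    obtain ⟨a, rfl⟩ := Submodule.mem_span_singleton.1 (an_of_three hP h3 x d hx h4 hd (pc h7))
    simp [h0 x hx] at h6
  have k : ∀ a : F, b (y - a • d - (a * a * P d) • x) (y - a • d - (a * a * P d) • x) = 0 :=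
    fun a => h0 _ (by
      rw [← Q_smul, ← hy.eich_apply_f (by simp [h7]) (by simp [h8]), O_map, hy.hf])
  have e1 := k 1
  have e2 := k (-1)
  have e3 := k t
  have e4 := k (-t)
  simp only [map_sub, map_smul, LinearMap.sub_apply, LinearMap.smul_apply, h0 x hx,
    h0 y hy.hf] at e1 e2 e3 e4
  have e5 : b d d = P d • (b x y + b y x) :=
    smul_right_injective _ h2 (by linear_combination (norm := module) e1 + e2)
  have e6 : b d x = -b x d := smul_right_injective _ (mul_ne_zero (mul_ne_zero h2 ht)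
    (mul_ne_zero (sub_ne_zero.2 ht') hd)) (by
      linear_combination (norm := module) e3 - e4 - t • (e1 - e2))
  refine ⟨x, d, hx, h4, pc h7, hd, hb x d ▸ h6, ?_⟩
  refine (eq_sum_co (s := s) _).trans (Eq.trans (Finset.sum_congr rfl fun i _ =>
    Finset.sum_congr rfl fun j _ => congrArg _ ?_) (eq_sum_co (s := s) _).symm)
  obtain ⟨u, hu⟩ := exists_polar_dual hP ((finBasis F U).coord i)
  rw [← hu]
  generalize finBasis F U j = z
  refine r_mul_cancel h4 (φ := polarBilin P x) (fun e => h4 (hP x (LinearMap.congr_fun e)))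
    (co_mem _ _ _) (co_mem _ _ _) ?_
  have hC := Cm_r (co_mem (s := s) E (polarBilin P x) d)
  obtain ⟨a₁, a₂, a₃, rfl⟩ := span_three hP h2 h3 hy h7 h8 hd u
  obtain ⟨c₁, c₂, c₃, rfl⟩ := span_three hP h2 h3 hy h7 h8 hd z
  rw [← r_co, ← r_co]
  simp only [mul_sub, sub_mul, mul_add, add_mul, mul_assoc, smul_mul_assoc, mul_smul_comm, hC,
    r_mul, r_mul']
  simp only [← mul_assoc, r_co, hb]
  simp only [map_add, map_smul, LinearMap.add_apply, LinearMap.smul_apply, polarBilin_apply_apply,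
    hy.hee, hy.hef, hy.hfe, h7, h8, pc h7, pc h8, polar_self', h0 x hx, e5, e6, mul_add,
    mul_smul_comm, mul_neg, mul_zero, smul_eq_mul]
  match_scalars <;> field_simp <;> ring

end One

end CfsgLib.C7O
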