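import Mathlib
import Cfsg.Agent.Lib.C7O.Ot

/-!
Overgroups of the group `Ω` of the right factor of a tensor product: the stabiliser of `U ⊗ x`.
-/

set_option autoImplicit false
set_option linter.unusedSectionVars false

namespace CfsgLib.C7O

open Module CfsgLib.ClMax CfsgLib.ClMax.Ten CfsgLib.OrthE CfsgLib.OMax QuadraticMap

variable {F U W U' W' V : Type*} [Field F] [AddCommGroup U] [Module F U] [AddCommGroup W]
  [Module F W] [AddCommGroup U'] [Module F U'] [AddCommGroup W'] [Module F W'] [AddCommGroup V]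
  [Module F V] {τ : U →ₗ[F] W →ₗ[F] V} {τ' : U' →ₗ[F] W' →ₗ[F] V}

/-- An overgroup of the group `Ω` of the right factor. -/
structure OB (P₁ : QuadraticForm F U) (P₂ : QuadraticForm F W) (Q : QuadraticForm F V)
    (h : IsTensorProduct τ) (X : Subgroup (V ≃ₗ[F] V)) : Prop extends TenO P₁ P₂ Q h where
  ha : 3 ≤ finrank F U
  hb : 3 ≤ finrank F W
  hX : X ≤ O Q
  right : ∀ {β}, β ∈ E P₂ → (toTenO.rhom β).1 ∈ X

/-- An overgroup without skew maps. -/
structure OZ (P₁ : QuadraticForm F U) (P₂ : QuadraticForm F W) (Q : QuadraticForm F V)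
    (h : IsTensorProduct τ) (X : Subgroup (V ≃ₗ[F] V)) : Prop extends OB P₁ P₂ Q h X where
  hZ : ∀ x (hx : P₂ x = 0), x ≠ 0 → ∀ m ∈ ZO h X hx, m = 0

/-- An overgroup whose unipotent radicals lie in the right factor. -/
structure OQ (P₁ : QuadraticForm F U) (P₂ : QuadraticForm F W) (Q : QuadraticForm F V)
    (h : IsTensorProduct τ) (X : Subgroup (V ≃ₗ[F] V)) : Prop extends OZ P₁ P₂ Q h X where
  eq_eich : ∀ {x}, P₂ x = 0 → x ≠ 0 → ∀ {t}, RX h P₂ X x t →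
    ∃ c, polar P₂ x c = 0 ∧ t = (toTenO.rhom (eich P₂ x c)).1

variable {P₁ : QuadraticForm F U} {P₂ : QuadraticForm F W} {P₁' : QuadraticForm F U'}
  {P₂' : QuadraticForm F W'} {Q : QuadraticForm F V} {h : IsTensorProduct τ}
  {h' : IsTensorProduct τ'} {X : Subgroup (V ≃ₗ[F] V)} [FiniteDimensional F U]
  [FiniteDimensional F W] [FiniteDimensional F U'] [FiniteDimensional F W'] [Finite F]

namespace OB

variable (H : OB P₁ P₂ Q h X)
include H

theorem pol {g : V ≃ₗ[F] V} (hg : g ∈ X) (x y : V) : polar Q (g x) (g y) = polar Q x y :=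
  O_polar ⟨g, H.hX hg⟩ x y

theorem cP_map (H' : OB P₁' P₂' Q h' X) {x : W} {x₁ : W'} {g : V ≃ₗ[F] V} (hg : g ∈ X) {u : U}
    {u₁ : U'} (e : g (τ u x) = τ' u₁ x₁) (v : V) :
    polar P₁' u₁ (cP h' P₂' x₁ (g v)) = polar P₁ u (cP h P₂ x v) := by
  rw [← H'.B_tau, ← e, H.pol hg, H.B_tau]

theorem cP_sub {x : W} {t : V ≃ₗ[F] V} (ht : RX h P₂ X x t) (v : V) : cP h P₂ x (t v - v) = 0 :=
  polar_ext H.n₁ fun u => by simp [H.cP_map H ht.mem (ht.fix u)]

theorem rx_conj (H' : OB P₁' P₂' Q h' X) {x : W} {x₁ : W'} {g t : V ≃ₗ[F] V}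
    (ht : RX h P₂ X x t) (hg : g ∈ X) {α : U ≃ₗ[F] U'} (e : ∀ u, g (τ u x) = τ' (α u) x₁) :
    RX h' P₂' X x₁ (g * t * g⁻¹) := by
  refine ⟨X.mul_mem (X.mul_mem hg ht.mem) (X.inv_mem hg), fun u => ?_, fun v hv => ?_⟩
  · obtain ⟨u, rfl⟩ := α.surjective u
    simp [← e, ht.fix]
  · obtain ⟨v, rfl⟩ := g.surjective v
    obtain ⟨u, hu⟩ := ht.sub v (polar_ext H.n₁ fun u => by rw [← H.cP_map H' hg (e u), hv]; simp)
    exact ⟨α u, by simp [hu, e]⟩

theorem rx_eich {x c : W} (hx : P₂ x = 0) (hc : polar P₂ x c = 0) :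
    RX h P₂ X x (H.rhom (eich P₂ x c)).1 :=
  ⟨H.right (eich_mem_E _ _), fun u => by rw [H.rhom_apply, eich_apply_self],
    fun v hv => ⟨cP h P₂ c v, by simp [H.rhom_eich hx hc, hv]⟩⟩

theorem rx_pol {x : W} {t : V ≃ₗ[F] V} (ht : RX h P₂ X x t) {v : V} {p : U}
    (e : t v = v + τ p x) (a : V) : polar Q (t a - a) v = -polar Q a (τ p x) := by
  have h1 := H.pol ht.mem a v
  have h2 : polar Q (τ p x) (t a - a) = 0 := by rw [H.B_tau, H.cP_sub ht, polar_zero_right]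
  rw [e, polar_add_right] at h1
  rw [polar_comm, polar_sub_left] at h2
  rw [polar_sub_left]
  linear_combination h1 - h2

end OB

namespace OZ

variable (H : OZ P₁ P₂ Q h X)
include H

theorem eq_of_fix {x : W} (hx : P₂ x = 0) (hx0 : x ≠ 0) {g k : V ≃ₗ[F] V} (hg : g ∈ X)
    (hk : k ∈ X) (hf : ∀ v, cP h P₂ x v = 0 → g v = k v) : g = k := by
  obtain ⟨x', hx'⟩ := H.n₂.exists_hyp hx hx0
  have hg' := X.mul_mem (X.inv_mem hk) hg
  have hf' : ∀ v, cP h P₂ x v = 0 → (k⁻¹ * g) v = v := fun v hv => by simp [hf v hv]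
  rw [← mul_inv_cancel_left k g]
  generalize k⁻¹ * g = g at hg' hf'
  let m : End F U := cP h P₂ x' ∘ₗ ((g : V →ₗ[F] V) - LinearMap.id) ∘ₗ τ.flip x'
  have hm : ∀ u, g (τ u x') = τ u x' + τ (m u) x := fun u => by
    obtain ⟨y, hy⟩ := H.exists_eq_tau hx0 (v := g (τ u x') - τ u x') fun u' c hc => by
      rw [polar_sub_right, ← hf' (τ u' c) (by simp [hc]), H.pol hg', hf' (τ u' c) (by simp [hc]),
        sub_self]
    have : m u = y := by
      change cP h P₂ x' (g (τ u x') - τ u x') = y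
      rw [hy]; simp [hx'.hfe]
    rw [this, ← hy]; abel
  have e : ∀ v, g v = v + τ (m (cP h P₂ x v)) x := fun v => by
    have := hf' (v - τ (cP h P₂ x v) x') (by simp [hx'.hef])
    rw [map_sub, hm] at this
    linear_combination (norm := module) this
  have := H.hZ x hx hx0 m (uIn_of_apply hg' e)
  exact LinearEquiv.ext fun v => by simp [e, this]

theorem rx_comm {x : W} (hx : P₂ x = 0) (hx0 : x ≠ 0) {t t' : V ≃ₗ[F] V} (ht : RX h P₂ X x t)
    (ht' : RX h P₂ X x t') (a b : V) :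
    polar Q (t a - a) (t' b - b) = polar Q (t' a - a) (t b - b) := by
  have h1 := H.eq_of_fix hx hx0 (X.mul_mem ht.mem ht'.mem) (X.mul_mem ht'.mem ht.mem)
    fun v hv => by
      obtain ⟨p, hp⟩ := ht.sub v hv
      obtain ⟨p', hp'⟩ := ht'.sub v hv
      simp only [LinearEquiv.mul_apply, hp, hp', map_add, ht.fix, ht'.fix]
      abel
  obtain ⟨p, hp⟩ := ht.sub _ (H.cP_sub ht' b)
  obtain ⟨p', hp'⟩ := ht'.sub _ (H.cP_sub ht b)
  have h2 : t (t' b) = t' (t b) := LinearEquiv.congr_fun h1 b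
  rw [H.rx_pol ht hp, H.rx_pol ht' hp']
  rw [map_sub] at hp hp'
  rw [show τ p x = τ p' x by linear_combination (norm := module) h2 - hp + hp']

theorem comm_big (h5 : 5 ≤ finrank F W) {x x' y : W} (hx : Hyp P₂ x x') (h1 : polar P₂ y x = 0)
    (h2 : polar P₂ y x' = 0) (h3 : P₂ y = 0) {t t' : V ≃ₗ[F] V} (ht : RX h P₂ X x t)
    (ht' : RX h P₂ X x t') (p r : U) :
    polar P₁ (cP h P₂ y (t (τ p x') - τ p x')) (cP h P₂ y (t' (τ r x') - τ r x')) =
      polar P₁ (cP h P₂ y (t' (τ p x') - τ p x')) (cP h P₂ y (t (τ r x') - τ r x')) := by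
  have h4 := finrank_perp_pair H.n₂ x x'
  obtain ⟨d, hd, h5, h6⟩ := exists_nonsing_orth H.n₂
    (nd_perp H.n₂ (nd_pair hx.he hx.hf hx.hef)) (by omega) y
  obtain ⟨h7, h8⟩ := mem_perp_pair.1 hd
  have k : ∀ d, polar P₂ x d = 0 → polar P₂ x' d = 0 →
      polar Q (t (τ p x') - τ p x') ((H.rhom (eich P₂ y d)).1 (t' (τ r x') - τ r x')) =
      polar Q ((H.rhom (eich P₂ y d)).1 (t' (τ p x') - τ p x')) (t (τ r x') - τ r x') :=
    fun d h7 h8 => by
      have e1 : (eich P₂ y d).1 x' = x' := eich_apply_of_orth (pc h2) h8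
      have := H.rx_comm hx.he hx.e_ne ht (H.rx_conj H.toOB ht' (H.right (eich_mem_E y d)) (α := 1)
        (x₁ := x) fun u => by rw [H.rhom_apply, eich_apply_of_orth (pc h1) h7]; rfl)
        (τ p x') (τ r x')
      simpa only [LinearEquiv.mul_apply, ← Subgroup.coe_inv, ← map_inv, inv_inv, H.rhom_apply,
        O_inv_apply_eq _ e1, map_sub, e1] using this
  have e1 := k d h7 h8
  have e2 := k (-d) (by simp [h7]) (by simp [h8])
  have e3 := k 0 (by simp) (by simp)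
  rw [H.rhom_eich h3 h6, H.rhom_eich h3 h6] at e1
  rw [H.rhom_eich h3 (by simp [h6]), H.rhom_eich h3 (by simp [h6])] at e2
  simp only [eich_zero_right, map_one, O_one_apply] at e3
  generalize t (τ p x') - τ p x' = a, t (τ r x') - τ r x' = b,
    t' (τ p x') - τ p x' = a', t' (τ r x') - τ r x' = b' at *
  have e4 := H.B_tau (cP h P₂ y b') y a
  have e5 := H.B_tau (cP h P₂ y a') y b
  simp only [map_sub, map_smul, map_neg, polar_add_left, polar_add_right, polar_sub_left,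
    polar_sub_right, polar_smul_left, polar_smul_right, polar_neg_left, polar_neg_right,
    LinearMap.sub_apply, LinearMap.smul_apply, LinearMap.neg_apply, smul_eq_mul, Q_neg] at e1 e2
  rw [polar_comm, ← e4, ← e5, polar_comm]
  exact mul_left_cancel₀ (mul_ne_zero H.two h5) (by linear_combination 2 * e3 - e1 - e2)

theorem comm_three (h3 : finrank F W = 3) {x x' y : W} (hx : Hyp P₂ x x') (h1 : polar P₂ y x = 0)
    (hy : P₂ y ≠ 0) {t t' : V ≃ₗ[F] V} (ht : RX h P₂ X x t) (ht' : RX h P₂ X x t') (a b : V) :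
    polar P₁ (cP h P₂ y (t a - a)) (cP h P₂ y (t' b - b)) =
      polar P₁ (cP h P₂ y (t' a - a)) (cP h P₂ y (t b - b)) := by
  have h4 := polar_self_ne H.two hy
  have k : ∀ v, cP h P₂ x v = 0 → ∃ u, v = τ ((polar P₂ y y)⁻¹ • cP h P₂ y v) y + τ u x :=
    fun v hv => by
      obtain ⟨u, hu⟩ := H.exists_eq_tau hx.e_ne (v := v - τ ((polar P₂ y y)⁻¹ • cP h P₂ y v) y)
        fun u c hc => by
          obtain ⟨s, hs⟩ := Submodule.mem_span_singleton.1 (mem_of_three H.n₂ H.two h3 hx.e_ne hx.hee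
            hy (pc h1) (w := c - (polar P₂ y c / polar P₂ y y) • y) (by simp [hc, pc h1])
            (by simp [h4, -polar_self]))
          rw [← sub_add_cancel c ((polar P₂ y c / polar P₂ y y) • y), ← hs]
          simp [H.B_tau, hv, pc h1, -polar_self]
          field_simp; ring
      exact ⟨u, sub_eq_iff_eq_add'.1 hu⟩
  have k2 : ∀ v w, cP h P₂ x v = 0 → cP h P₂ x w = 0 →
      polar P₁ (cP h P₂ y v) (cP h P₂ y w) = polar P₂ y y * polar Q v w := fun v w hv hw => by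
    obtain ⟨u, hu⟩ := k v hv
    conv_rhs => rw [hu]
    simp [H.B_tau, hw, h4, -polar_self]
  rw [k2 _ _ (H.cP_sub ht a) (H.cP_sub ht' b), k2 _ _ (H.cP_sub ht' a) (H.cP_sub ht b),
    H.rx_comm hx.he hx.e_ne ht ht']

theorem oq (hk : finrank F W = 3 ∨ 5 ≤ finrank F W)
    (cl : ∀ G : Set (End F U), (∀ a ∈ G, ∀ b ∈ G, a * b = b * a) → (∀ a ∈ G, ∀ g ∈ X,
      ∀ α : U ≃ₗ[F] U, (∀ u w, g (τ u w) = τ (α u) w) → α.conj a ∈ G) →
        ∀ a ∈ G, ∃ c : F, ∀ u, a u = c • u) : OQ P₁ P₂ Q h X := ⟨H, fun {x} hx hx0 t ht => by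
  obtain ⟨x', hx'⟩ := H.n₂.exists_hyp hx hx0
  have D0 : ∀ {t}, RX h P₂ X x t → ∀ v a, polar Q (t v - v) (τ a x) = 0 := fun ht v a => by
    rw [polar_comm, H.B_tau, H.cP_sub ht, polar_zero_right]
  have k0 : ∀ y, polar P₂ y x = 0 → polar P₂ y x' = 0 → (∀ {t t'}, RX h P₂ X x t → RX h P₂ X x t' →
      ∀ p r, polar P₁ (cP h P₂ y (t (τ p x') - τ p x')) (cP h P₂ y (t' (τ r x') - τ r x')) =
        polar P₁ (cP h P₂ y (t' (τ p x') - τ p x')) (cP h P₂ y (t (τ r x') - τ r x'))) →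
      ∃ s : F, ∀ u, cP h P₂ y (t (τ u x') - τ u x') = s • u := fun y h1 h2 hc => by
    have sa : ∀ {t}, RX h P₂ X x t → ∀ p r, polar P₁ (cP h P₂ y (t (τ p x') - τ p x')) r =
        polar P₁ p (cP h P₂ y (t (τ r x') - τ r x')) := fun ht p r => by
      have := H.rx_comm hx hx0 ht (H.rx_eich hx (pc h1)) (τ p x') (τ r x')
      have e : ∀ a, (H.rhom (eich P₂ x y)).1 (τ a x') - τ a x' = -τ a y - P₂ y • τ a x :=
        fun a => by rw [H.rhom_apply, hx'.eich_apply_f h1 h2, map_sub, map_sub, map_smul]; abel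
      rw [e, e, polar_sub_right, polar_smul_right, D0 ht, polar_sub_left _ (-_), polar_smul_left,
        pc (D0 ht _ _), polar_neg_left, polar_neg_right, polar_comm, H.B_tau, H.B_tau, polar_comm,
        sub_left_inj, neg_inj] at this
      exact this
    refine cl {a | ∃ t, RX h P₂ X x t ∧ a = cP h P₂ y ∘ₗ ((t : End F V) - 1) ∘ₗ τ.flip x'} ?_ ?_ _
      ⟨t, ht, rfl⟩
    · rintro _ ⟨t, ht, rfl⟩ _ ⟨t', ht', rfl⟩
      exact LinearMap.ext fun r => polar_ext H.n₁ fun p =>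
        (sa ht p _).symm.trans ((hc ht ht' p r).trans (sa ht' p _))
    · rintro _ ⟨t, ht, rfl⟩ g hg α e
      refine ⟨_, H.rx_conj H.toOB ht hg (e · x), LinearMap.ext fun u => ?_⟩
      obtain ⟨u, rfl⟩ := α.surjective u
      have e1 : ∀ v, cP h P₂ y (g v) = α (cP h P₂ y v) := LinearMap.congr_fun
        (ext h (f := cP h P₂ y ∘ₗ (g : End F V)) (g := (α : End F U) ∘ₗ cP h P₂ y)
          fun a b => by simp [e])
      simp [← e, e1]
  have k1 : ∀ y, polar P₂ y x = 0 → polar P₂ y x' = 0 →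
      ∃ s : F, ∀ u, cP h P₂ y (t (τ u x') - τ u x') = s • u := fun y h1 h2 => by
    rcases hk with hk | hk
    · by_cases hy : P₂ y = 0
      · obtain ⟨s, rfl⟩ := Submodule.mem_span_singleton.1 (an_of_three H.n₂ hk x y hx hx0 hy (pc h1))
        exact ⟨0, fun u => by rw [map_smul, LinearMap.smul_apply, H.cP_sub ht]; simp⟩
      · exact k0 y h1 h2 fun h4 h5 _ _ => H.comm_three hk hx' h1 hy h4 h5 _ _
    let A : AddSubgroup W :=
      { carrier := {y | ∃ s : F, ∀ u, cP h P₂ y (t (τ u x') - τ u x') = s • u}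
        add_mem' := by
          rintro a b ⟨s, hs⟩ ⟨s', hs'⟩
          exact ⟨s + s', fun u => by rw [map_add, LinearMap.add_apply, hs, hs', add_smul]⟩
        zero_mem' := ⟨0, by simp⟩
        neg_mem' := by
          rintro a ⟨s, hs⟩
          exact ⟨-s, fun u => by rw [map_neg, LinearMap.neg_apply, hs, neg_smul]⟩ }
    exact sing_induction_W hx' H.n₂ hk A (fun y h1 h2 h3 => k0 y h1 h2 (H.comm_big hk hx' h1 h2 h3))
      h1 h2
  obtain ⟨u₀, u₁, hu⟩ := H.n₁.exists_hyp_of_three H.ha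
  obtain ⟨c, hc⟩ := exists_polar_dual H.n₂
    (-polarBilin P₁ u₀ ∘ₗ (cP h P₂).flip (t (τ u₁ x') - τ u₁ x'))
  have hc : ∀ y, polar P₂ c y = -polar P₁ u₀ (cP h P₂ y (t (τ u₁ x') - τ u₁ x')) :=
    fun y => LinearMap.congr_fun hc y
  have hcx : polar P₂ x c = 0 := by rw [polar_comm, hc, H.cP_sub ht]; simp
  have k2 : ∀ y, polar P₂ x y = 0 → ∀ u,
      cP h P₂ y (t (τ u x') - τ u x') = -polar P₂ c y • u := fun y hy u => by
    obtain ⟨s, hs⟩ := k1 _ (hx'.pr_e y) (hx'.pr_f y)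
    simp only [pr_def, pc hy, zero_smul, sub_zero, map_sub (cP h P₂), map_smul,
      LinearMap.sub_apply, LinearMap.smul_apply, H.cP_sub ht, smul_zero] at hs
    rw [hc, hs, hs]; simp [hu.hef]
  refine ⟨c, hcx, H.eq_of_fix hx hx0 ht.mem (H.right (eich_mem_E _ _)) fun v hv => ?_⟩
  obtain ⟨p, hp⟩ := ht.sub v hv
  rw [hp, H.rhom_eich hx hcx, hv, show p = cP h P₂ c v from polar_ext H.n₁ fun u => ?_]
  · simp
  obtain ⟨z, hz⟩ := H.exists_eq_tau hx0 (v := t (τ u x') - τ u x' + τ u c) fun u' y hy => by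
    rw [polar_add_right, H.B_tau, k2 y hy, H.eq, polar_comm P₂ y c]; simp [mul_comm]
  have h1 := H.rx_pol ht hp (τ u x')
  rw [eq_sub_of_add_eq hz, polar_sub_left, H.B_tau, H.B_tau, hv, H.eq, hx'.hfe] at h1
  simpa using h1.symm⟩

end OZ

namespace OQ

variable (H : OQ P₁ P₂ Q h X) (H' : OQ P₁' P₂' Q h' X)
include H H'

theorem exists_rel {x : W} {x₁ : W'} (hx : P₂ x = 0) (hx0 : x ≠ 0) (hx₁ : P₂' x₁ = 0)
    (hx1 : x₁ ≠ 0) {g : V ≃ₗ[F] V} (hg : g ∈ X) {α : U ≃ₗ[F] U'}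
    (e : ∀ u, g (τ u x) = τ' (α u) x₁) :
    ∃ μ : F, μ ≠ 0 ∧ (∀ u u', polar P₁' (α u) (α u') = μ * polar P₁ u u') ∧
      ∀ c, polar P₂ x c = 0 → ∃ c₁, polar P₂' x₁ c₁ = 0 ∧
        ∀ u, ∃ u', g (τ u c) = τ' (α u) c₁ + τ' u' x₁ := by
  obtain ⟨x', hx'⟩ := H.n₂.exists_hyp hx hx0
  have k : ∀ c, polar P₂ x c = 0 → ∃ c₁, polar P₂' x₁ c₁ = 0 ∧
      ∀ u, ∃ u', g (τ u c) = τ' (cP h' P₂' x₁ (g (τ u x'))) c₁ + τ' u' x₁ := fun c hc => by
    obtain ⟨c₁, h1, h2⟩ := H'.eq_eich hx₁ hx1 (H.rx_conj H'.toOB (H.rx_eich hx hc) hg e)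
    refine ⟨c₁, h1, fun u => ?_⟩
    have h3 := LinearEquiv.congr_fun h2 (g (τ u x'))
    rw [H'.rhom_eich hx₁ h1, LinearEquiv.mul_apply, LinearEquiv.mul_apply, inv_apply_apply,
      H.rhom_eich hx hc, map_sub, map_add, e, cP_apply h P₂ x, hx'.hef, one_smul] at h3
    generalize α _ = a, cP h' P₂' c₁ _ - _ = b at h3
    exact ⟨a - b, by rw [map_sub, LinearMap.sub_apply]; linear_combination (norm := module) -h3⟩
  obtain ⟨d, h1, -, h2⟩ := hx'.exists_nonsingular H.n₂ H.hb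
  obtain ⟨d₁, h3, h4⟩ := k d (pc h1)
  have h5 : ∀ u u', polar P₁' (cP h' P₂' x₁ (g (τ u x'))) (cP h' P₂' x₁ (g (τ u' x'))) *
      polar P₂' d₁ d₁ = polar P₁ u u' * polar P₂ d d := fun u u' => by
    obtain ⟨a, ha⟩ := h4 u
    obtain ⟨a', ha'⟩ := h4 u'
    rw [← H.eq u, ← H.pol hg, ha, ha']
    simp [H'.eq, h3, pc h3, pself hx₁, -polar_self]
  have h6 := polar_self_ne H.two h2
  obtain ⟨u₀, u₁, hu⟩ := H.n₁.exists_hyp_of_three H.ha
  have h7 : polar P₂' d₁ d₁ ≠ 0 := fun h7 => h6 (by simpa [h7, hu.hef] using (h5 u₀ u₁).symm)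
  have h8 : ∀ u u', polar P₁' (α u) (cP h' P₂' x₁ (g (τ u' x'))) = polar P₁ u u' := fun u u' => by
    rw [H.cP_map H'.toOB hg (e u), cP_apply, hx'.hef, one_smul]
  have h9 : ∀ u, cP h' P₂' x₁ (g (τ u x')) = (polar P₂ d d / polar P₂' d₁ d₁) • α u := fun u => by
    rw [← map_smul, ← α.symm_apply_eq]
    refine polar_ext H.n₁ fun u' => ?_
    rw [polar_comm, ← h8, α.apply_symm_apply, polar_smul_right, smul_eq_mul, div_mul_eq_mul_div,
      eq_div_iff h7, h5, polar_comm, mul_comm]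
  refine ⟨polar P₂' d₁ d₁ / polar P₂ d d, div_ne_zero h7 h6, fun u u' => ?_, fun c hc => ?_⟩
  · rw [← h8 u u', h9, polar_smul_right, smul_eq_mul]; field_simp
  · obtain ⟨c₁, h10, h11⟩ := k c hc
    exact ⟨(polar P₂ d d / polar P₂' d₁ d₁) • c₁, by simp [h10, -polar_self], fun u => by
      simpa only [h9, map_smul, LinearMap.smul_apply] using h11 u⟩

end OQ

end CfsgLib.C7O
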