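import Mathlib
import Cfsg.Agent.Lib.C7O.Zq

/-!
Overgroups of the group `Ω` of a right factor of dimension at least five: rigidity.
-/

set_option autoImplicit false
set_option linter.unusedSectionVars false

namespace CfsgLib.C7O

open Module CfsgLib.ClMax CfsgLib.ClMax.Ten CfsgLib.OrthE CfsgLib.OMax QuadraticMap

variable {F U W U' W' V : Type*} [Field F] [AddCommGroup U] [Module F U] [AddCommGroup W]
  [Module F W] [AddCommGroup U'] [Module F U'] [AddCommGroup W'] [Module F W'] [AddCommGroup V]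
  [Module F V] {τ : U →ₗ[F] W →ₗ[F] V} {τ' : U' →ₗ[F] W' →ₗ[F] V}
  {P₁ : QuadraticForm F U} {P₂ : QuadraticForm F W} {P₁' : QuadraticForm F U'}
  {P₂' : QuadraticForm F W'} {Q : QuadraticForm F V} {h : IsTensorProduct τ}
  {h' : IsTensorProduct τ'} {X : Subgroup (V ≃ₗ[F] V)} [FiniteDimensional F U]
  [FiniteDimensional F W] [FiniteDimensional F U'] [FiniteDimensional F W'] [Finite F]

theorem OB.neg_of_invol (H : OB P₁ P₂ Q h X) (hb : 5 ≤ finrank F W) {y c : W} (T : TSP P₂ y c) {i : V ≃ₗ[F] V} (hi : i ∈ X) (hK : i ∈ Kron τ)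
    (h1 : i * i = 1) (h1' : i ≠ 1) (hc : ∀ v, i (aN h P₂ y c v) = aN h P₂ y c (i v))
    (hk : ∀ v, aN h P₂ y c v = 0 → ∃ v', i v = v + aN h P₂ y c v') :
    (∀ v, i (aN h P₂ y c v) = -aN h P₂ y c v) ∧
      ∃ s, s ≠ 0 ∧ polar P₂ y s = 0 ∧ polar P₂ c s = 0 ∧ ∀ u, i (τ u s) = τ u s := by
  obtain ⟨α, β, e⟩ := hK
  obtain ⟨u₀, u₁, hu⟩ := H.n₁.exists_hyp_of_three H.ha
  obtain ⟨w₀, -, h2, h3⟩ := exists_orth_not_mem H.n₂ ⊤ (Submodule.span F {y, c}) [y, c] (by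
    have := RootMax.finrank_span_pair_le (F := F) y c
    simp only [List.length_cons, List.length_nil, finrank_top]; omega)
  obtain ⟨a, h4, h5, h6⟩ := exists_dual_pair H.n₂ h2
  have hk' : ∀ u w, polar P₂ y w = 0 → polar P₂ c w = 0 → ∃ p r, i (τ u w) = τ u w +
      (τ p y - τ r c) := fun u w hy hc =>
    let ⟨_, hv⟩ := hk (τ u w) (by simp [aN_apply, hy, hc]); ⟨_, _, hv⟩
  have h7 : ∀ u, polar P₂ a (β w₀) • α u = u := fun u => by
    obtain ⟨p, r, h7⟩ := hk' u w₀ (h3 y (by simp)) (h3 c (by simp))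
    simpa [e, pc h5, pc h6, polar_comm P₂ a w₀, h4] using congrArg (cP h P₂ a) h7
  have h8 : polar P₂ a (β w₀) ≠ 0 := fun h8 => hu.e_ne (by rw [← h7 u₀, h8, zero_smul])
  obtain ⟨b, e⟩ : ∃ b : End F W, ∀ u w, i (τ u w) = τ u (b w) :=
    ⟨(polar P₂ a (β w₀))⁻¹ • (β : End F W), fun u w => by
      rw [e]; nth_rw 2 [← h7 u]; simp [h8]⟩
  have h9 : ∀ w, b (b w) = w := fun w => right_inj h hu.e_ne (by
    rw [← e, ← e, ← LinearEquiv.mul_apply, h1]; rfl)
  have h10 : ∀ w w', polar P₂ (b w) w' = polar P₂ w (b w') := fun w w' => by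
    simpa [e, H.eq, hu.hef, h9] using H.pol hi (τ u₀ w) (τ u₁ (b w'))
  have h11 : ∀ w, polar P₂ y w = 0 → polar P₂ c w = 0 → ∃ s t : F, b w = w + s • y - t • c :=
    fun w hy hc => by
      obtain ⟨p, r, h7⟩ := hk' u₀ w hy hc
      exact ⟨polar P₁ u₁ p, polar P₁ u₁ r, by
        simpa [e, hu.hfe, add_sub_assoc] using congrArg (cL h (polarBilin P₁ u₁)) h7⟩
  obtain ⟨y', c', d1, d2, d3, d4⟩ := T.dual H.n₂
  have h12 : ∀ w, polar P₂ c w • b y - polar P₂ y w • b c =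
      polar P₂ (b c) w • y - polar P₂ (b y) w • c := fun w => right_inj h hu.e_ne (by
    simpa [aN_apply, e, h10] using hc (τ u₀ w))
  have e1 := h12 c'
  have e2 := h12 y'
  simp only [d1, d2, d3, d4, one_smul, zero_smul, sub_zero, zero_sub] at e1 e2
  have e3 := congrArg (polar P₂ · c') e1
  have e4 := congrArg (polar P₂ · y') e2
  have e5 := congrArg (polar P₂ · y') e1
  simp only [polar_sub_left, polar_smul_left, polar_neg_left, d1, d2, d3, d4, smul_eq_mul] at e3 e4 e5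
  rw [show polar P₂ (b y) c' = 0 from mul_left_cancel₀ H.two (by linear_combination e3)] at e1 e5
  rw [show polar P₂ (b c) y' = 0 from mul_left_cancel₀ H.two (by linear_combination -e4), e5] at e2
  generalize polar P₂ (b c) c' = m at e1 e2
  simp only [zero_smul, sub_zero, zero_sub, neg_inj, mul_one, mul_zero] at e1 e2
  have h13 : m * m = 1 := smul_left_injective F T.ne (by
    simpa [e1, smul_smul] using h9 y)
  rcases mul_self_eq_one_iff.1 h13 with rfl | rfl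
  · refine absurd (equiv_ext h fun u w => ?_) h1'
    rw [one_smul] at e1 e2
    obtain ⟨s, t, h14⟩ := h11 (b w - w) (by simp [← h10, e1]) (by simp [← h10, e2])
    have h15 := congrArg b h14
    rw [h9, map_sub, map_add, map_smul, map_smul, e1, e2] at h15
    rw [map_sub, h9] at h14 h15
    have h16 : ((2 : F) * 2) • (b w - w) = 0 := by linear_combination (norm := module) h15 - h14
    rw [e, sub_eq_zero.1 ((smul_eq_zero.1 h16).resolve_left (mul_ne_zero H.two H.two))]; rfl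
  · refine ⟨fun v => by simp [aN_apply, e, e1, e2]; abel, w₀ + b w₀, fun h14 => ?_,
      by simp [← h10, e1, h3], by simp [← h10, e2, h3], fun u => by simp [e, h9, add_comm]⟩
    obtain ⟨s, t, h15⟩ := h11 w₀ (h3 y (by simp)) (h3 c (by simp))
    have := congrArg (polar P₂ · a) h14
    simp [h15, h4, h5, h6] at this
    exact H.two (by linear_combination this)

namespace OQ

variable (H : OQ P₁ P₂ Q h X) (H' : OQ P₁' P₂' Q h' X) (hb : 5 ≤ finrank F W)
include H H' hb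

theorem map_orth {x : W} {x₁ : W'} (hx : P₂ x = 0) (hx0 : x ≠ 0) (hx₁ : P₂' x₁ = 0) (hx1 : x₁ ≠ 0)
    {g : V ≃ₗ[F] V} (hg : g ∈ X) {α : U ≃ₗ[F] U'} (e : ∀ u, g (τ u x) = τ' (α u) x₁) {c : W}
    (hc : P₂ c = 0) (hxc : polar P₂ x c = 0) : ∃ c', ∀ u, g (τ u c) = τ' (α u) c' := by
  obtain ⟨μ, hμ, hs, k⟩ := H.exists_rel H' hx hx0 hx₁ hx1 hg e
  have h1 := finrank_perp_pair H.n₂ x c
  obtain ⟨d, hd, h2⟩ := exists_nonsing H.n₂ (S := perp P₂ (Submodule.span F {x, c})) (by omega)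
  obtain ⟨hxd, hcd⟩ := mem_perp_pair.1 hd
  obtain ⟨c₁, h3, h4⟩ := k c hxc
  obtain ⟨d₁, h5, h6⟩ := k d hxd
  choose c' h4 using h4
  choose d' h6 using h6
  obtain ⟨u₀, u₁, hu⟩ := H.n₁.exists_hyp_of_three H.ha
  have k2 : ∀ {c d : W} {c₁ d₁ : W'} {c' d' : U → U'}, polar P₂' x₁ c₁ = 0 → polar P₂' x₁ d₁ = 0 →
      (∀ u, g (τ u c) = τ' (α u) c₁ + τ' (c' u) x₁) →
      (∀ u, g (τ u d) = τ' (α u) d₁ + τ' (d' u) x₁) →
      polar P₂ c d = μ * polar P₂' c₁ d₁ := fun h3 h5 h4 h6 => by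
    have := H.pol hg (τ u₀ _) (τ u₁ _) |>.symm.trans (congrArg₂ (polar Q) (h4 u₀) (h6 u₁))
    simpa [H.eq, H'.eq, hs, hu.hef, h5, pc h3, pself hx₁, -polar_self] using this
  have k3 : ∀ {c : W} {c₁ : W'} {c' : U → U'}, (∀ u, g (τ u c) = τ' (α u) c₁ + τ' (c' u) x₁) →
      ∀ v, cP h' P₂' x₁ (g v) = 0 → α (cP h P₂ c v) = μ • cP h' P₂' c₁ (g v) := fun h4 v hv =>
    polar_ext H'.n₁ fun u => by
      obtain ⟨u, rfl⟩ := α.surjective u
      rw [hs, ← H.B_tau, ← H.pol hg, h4, polar_add_left, H'.B_tau, H'.B_tau, hv]; simp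
  have h7 : P₂' c₁ = 0 := by
    have := k2 h3 h3 h4 h4
    rw [pself hc, polar_self'] at this
    simpa [hμ, H.two] using this
  have h8 : polar P₂' c₁ (μ • d₁) = 0 := by
    rw [polar_smul_right, smul_eq_mul, ← k2 h3 h5 h4 h6, hcd]
  have h9 : P₂ d = μ * P₂' d₁ := by
    have := k2 h5 h5 h6 h6
    rw [polar_self', polar_self'] at this
    exact mul_left_cancel₀ H.two (by linear_combination this)
  have h10 : (eich P₂' c₁ (μ • d₁)).1 x₁ = x₁ := eich_apply_of_orth h3 (by simp [h5])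
  have h11 : (eich P₂ c d).1 x = x := eich_apply_of_orth hxc hxd
  obtain ⟨a, h12, h13⟩ := H'.eq_eich hx₁ hx1 (t := (H'.rhom (eich P₂' c₁ (μ • d₁))⁻¹).1 *
    (g * (H.rhom (eich P₂ c d)).1 * g⁻¹)) ⟨X.mul_mem (H'.right (inv_mem (eich_mem_E _ _)))
      (X.mul_mem (X.mul_mem hg (H.right (eich_mem_E _ _))) (X.inv_mem hg)), fun u => by
      obtain ⟨u, rfl⟩ := α.surjective u
      simp only [LinearEquiv.mul_apply]
      rw [← e, inv_apply_apply, H.rhom_apply, h11, e, H'.rhom_apply, O_inv_apply_eq _ h10],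
      fun v hv => by
      obtain ⟨v, rfl⟩ := g.surjective v
      refine ⟨c' (cP h P₂ d v - P₂ d • cP h P₂ c v) - d' (cP h P₂ c v), ?_⟩
      simp only [LinearEquiv.mul_apply, inv_apply_apply, map_inv]
      refine O_inv_apply_eq _ ?_
      rw [map_add, H'.rhom_apply, h10, H'.rhom_eich h7 h8, H.rhom_eich hc hcd, map_sub g, map_add g,
        h4, h6]
      simp only [map_sub, map_smul, k3 h4 v hv, k3 h6 v hv, h9, Q_smul, LinearMap.sub_apply,
        LinearMap.smul_apply]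
      module⟩
  rw [map_inv, Subgroup.coe_inv, inv_mul_eq_iff_eq_mul, ← Subgroup.coe_mul, ← map_mul,
    mul_inv_eq_iff_eq_mul] at h13
  have h14 : (eich P₂' c₁ (μ • d₁) * eich P₂' x₁ a).1 x₁ = x₁ := by
    rw [O_mul_apply, eich_apply_self, h10]
  generalize eich P₂' c₁ (μ • d₁) * eich P₂' x₁ a = β at h13 h14
  refine ⟨(polar P₂ d d)⁻¹ • (β.1 d₁ - d₁), fun u => ?_⟩
  have h15 := LinearEquiv.congr_fun h13 (τ u d)
  simp only [LinearEquiv.mul_apply, H.rhom_apply, H'.rhom_apply, eich_ap hc hcd, hcd, h6, map_add,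
    h14, mul_zero, sub_zero, zero_smul, map_smul] at h15
  rw [map_smul, map_sub, eq_inv_smul_iff₀ (polar_self_ne H.two h2)]
  linear_combination (norm := module) h15

theorem exists_map {x : W} {x₁ : W'} (hx : P₂ x = 0) (hx0 : x ≠ 0) (hx1 : x₁ ≠ 0)
    {g : V ≃ₗ[F] V} (hg : g ∈ X) {α : U ≃ₗ[F] U'} (e : ∀ u, g (τ u x) = τ' (α u) x₁) (z : W) :
    ∃ z', ∀ u, g (τ u z) = τ' (α u) z' := by
  obtain ⟨u₀, u₁, hu⟩ := H'.n₁.exists_hyp_of_three H'.ha
  have k : ∀ {c c'}, P₂ c = 0 → (∀ u, g (τ u c) = τ' (α u) c') → P₂' c' = 0 := fun hc e => by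
    have := H.pol hg (τ (α.symm u₀) _) (τ (α.symm u₁) _) |>.symm.trans
      (congrArg₂ (polar Q) (e _) (e _))
    simpa [H.eq, H'.eq, hc, hu.hef, H.two] using this
  obtain ⟨x', hx'⟩ := H.n₂.exists_hyp hx hx0
  let A : AddSubgroup W :=
    { carrier := {z | ∃ z', ∀ u, g (τ u z) = τ' (α u) z'}
      add_mem' := by
        rintro a b ⟨s, hs⟩ ⟨s', hs'⟩
        exact ⟨s + s', fun u => by simp [hs, hs']⟩
      zero_mem' := ⟨0, by simp⟩
      neg_mem' := by
        rintro a ⟨s, hs⟩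
        exact ⟨-s, fun u => by simp [hs]⟩ }
  refine sing_induction hx' A (fun z hz => ?_) z
  obtain ⟨c, -, hc0, hc, h1⟩ := exists_sing_orth H.n₂ ⊤ [x, z] (by simpa using hb)
  obtain ⟨c', hc'⟩ := H.map_orth H' hb hx hx0 (k hx e) hx1 hg e hc (h1 x (by simp))
  refine H.map_orth H' hb hc hc0 (k hc hc') ?_ hg hc' hz (pc (h1 z (by simp)))
  rintro rfl
  exact ne_zero h (u := α.symm u₀) (by simpa using hu.e_ne) hc0 (by simpa using hc' _)

theorem map_of_map (hd : finrank F U = finrank F U') {x : W} {x₁ : W'} (hx : P₂ x = 0) (hx0 : x ≠ 0)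
    (hx1 : x₁ ≠ 0) {g : V ≃ₗ[F] V} (hg : g ∈ X) (hs : ∀ u, ∃ u', g (τ u x) = τ' u' x₁) :
    ∃ α : U ≃ₗ[F] U', ∀ z, ∃ z', ∀ u, g (τ u z) = τ' (α u) z' :=
  let ⟨α, e⟩ := exists_equiv2 h h' hd hx0 hx1 hs; ⟨α, H.exists_map H' hb hx hx0 hx1 hg e⟩

omit hb in
theorem map_of_right (hb : 5 ≤ finrank F W) (hb' : 5 ≤ finrank F W')
    (hd : finrank F U' = finrank F U) {y c : W'} (T : TSP P₂' y c) {g : V ≃ₗ[F] V} (hg : g ∈ X)
    {C : End F W} (hC : ∀ u w, g (τ u (C w)) = aN h' P₂' y c (g (τ u w))) :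
    ∃ α : U' ≃ₗ[F] U, ∀ z, ∃ z', ∀ u, g⁻¹ (τ' u z) = τ (α u) z' := by
  have := finiteDimensional h
  obtain ⟨y', c', h1, h2, h3, h4⟩ := T.dual H'.n₂
  obtain ⟨u₀, u₁, hu⟩ := H.n₁.exists_hyp_of_three H.ha
  obtain ⟨u₂, u₃, hu'⟩ := H'.n₁.exists_hyp_of_three H'.ha
  have hA : ∀ u, aN h' P₂' y c (τ' u c') = τ' u y := fun u => by simp [aN_apply, h3, h4]
  have h5 := finrank_mul_le h (LinearMap.range C) (((cP h' P₂' y').prod (cP h' P₂' c')) ∘ₗ
    (g : V →ₗ[F] V)) ((LinearMap.range (aN h' P₂' y c)).comap (g : V →ₗ[F] V)) (by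
      rintro u _ ⟨w, rfl⟩; exact ⟨_, (hC u w).symm⟩) fun x ⟨v, hv⟩ hx => by
      have e1 : cP h' P₂' y' (g x) = 0 := congrArg Prod.fst hx
      have e2 : cP h' P₂' c' (g x) = 0 := congrArg Prod.snd hx
      replace hv : aN h' P₂' y c v = g x := hv
      rw [← hv, aN_apply] at e1 e2
      simp [polar_comm P₂' y', polar_comm P₂' c', h1, h2, h3, h4] at e1 e2
      simpa [aN_apply, e1, e2] using hv.symm
  have h6 : finrank F (LinearMap.range C) ≤ 2 := by
    rw [finrank_prod, ← mul_two, hd] at h5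
    exact Nat.le_of_mul_le_mul_left h5 (by have := H.ha; omega)
  have h7 := finrank_perp H.n₂ (LinearMap.range C)
  obtain ⟨d, hd₁, hd'⟩ := exists_nonsing H.n₂ (S := perp P₂ (LinearMap.range C)) (by omega)
  have h8 : ∀ w w', polar P₂ (C w) (C w') = 0 := fun w w' => by
    have := H'.aN_skew y c (g (τ u₀ w)) (g (τ u₁ (C w')))
    rw [← hC, H.pol hg, hC u₁, ← End.mul_apply, T.aN_mul] at this
    simpa [H.eq, hu.hef] using this
  obtain ⟨w₁, hw₁⟩ : ∃ w₁, C w₁ ≠ 0 := by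
    by_contra h''
    push Not at h''
    have : aN h' P₂' y c ∘ₗ (g : V →ₗ[F] V) = 0 := ext h fun u w => by simp [← hC, h'']
    have := LinearMap.congr_fun this (g⁻¹ (τ' u₂ c'))
    exact ne_zero h' hu'.e_ne T.ne (by simpa [hA] using this)
  have h9 : P₂ (C w₁) = 0 := by simpa [H.two] using h8 w₁ w₁
  have h10 : polar P₂ (C w₁) d = 0 := hd₁ _ ⟨w₁, rfl⟩
  have h11 := H.rhom_eich h9 h10
  have hs := X.mul_mem (X.mul_mem hg (H.right (eich_mem_E (C w₁) d))) (X.inv_mem hg)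
  have h12 : ∀ v, g ((H.rhom (eich P₂ (C w₁) d)).1 (g⁻¹ (aN h' P₂' y c (g v)))) =
      aN h' P₂' y c (g v) := fun v => by
    induction v using h.inductionOn with
    | zero => simp
    | add a b ha hb => simp only [map_add, ha, hb]
    | tmul u w =>
      rw [← hC, inv_apply_apply, H.rhom_apply, eich_apply_of_orth (h8 _ _) (hd₁ _ ⟨w, rfl⟩)]
  have h13 := H'.exists_map H' hb' T.sy T.ne T.ne hs (α := 1) fun u => by
    simpa [hA] using h12 (g⁻¹ (τ' u c'))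
  choose β h13 using h13
  simp only [LinearEquiv.mul_apply, LinearEquiv.coe_one, id_eq] at h13
  have h14 : ∀ u z, g⁻¹ (τ' u (β (β z) - (2 : F) • β z + z)) =
      τ (-(2 * P₂ d) • cP h P₂ (C w₁) (g⁻¹ (τ' u z))) (C w₁) := fun u z => by
    rw [map_add, map_sub, map_smul, ← h13, ← h13]
    simp only [map_add, map_sub, map_smul, inv_apply_apply, h11, cP_apply, pself h9, h10, pc h10,
      polar_self', LinearMap.add_apply, LinearMap.sub_apply, LinearMap.smul_apply]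
    module
  obtain ⟨z, hz⟩ : ∃ z, β (β z) - (2 : F) • β z + z ≠ 0 := by
    by_contra h''
    push Not at h''
    obtain ⟨x', hx'⟩ := H.n₂.exists_hyp h9 hw₁
    have : cP h P₂ (C w₁) ∘ₗ ((g⁻¹ : V ≃ₗ[F] V) : V →ₗ[F] V) = 0 := ext h' fun u z => by
      have := congrArg (cP h P₂ x') (h14 u z)
      simpa [h'', hx'.hfe, H.two, hd'] using this
    simpa [hx'.hef, hu.e_ne] using LinearMap.congr_fun this (g (τ u₀ x'))
  refine H'.map_of_map H hb' hd ?_ hz hw₁ (X.inv_mem hg) fun u => ⟨_, h14 u z⟩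
  have := H.pol (X.inv_mem hg) (τ' u₂ _) (τ' u₃ _) |>.symm.trans
    (congrArg₂ (polar Q) (h14 u₂ z) (h14 u₃ z))
  rw [H'.eq, H.eq, h8, hu'.hef, polar_self'] at this
  simpa [H.two] using this

omit H' in
theorem le_of_rig {M : Subgroup (V ≃ₗ[F] V)} (hK : ∀ k ∈ X, k ∈ Kron τ → k ∈ M)
    (rig : ∀ {y c}, TSP P₂ y c → ∀ k ∈ X, k⁻¹ * (H.rhom (eich P₂ y c)).1 * k ∈ M → k ∈ M)
    (hc : ∀ {y c}, TSP P₂ y c → ∀ i ∈ M, (∀ v, i (aN h P₂ y c v) = aN h P₂ y c (i v)) →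
      i ∈ Kron τ) : X ≤ M := fun g hg => by
  by_contra hgK
  have := finiteDimensional h
  obtain ⟨y₁, x₁, hy₁⟩ := H.n₂.exists_hyp_of_three (by omega)
  obtain ⟨c₁, T₁⟩ := exists_tsp H.n₂ hb hy₁.he hy₁.e_ne
  have hA₁ := T₁.aN_mul (h := h)
  have hs₁ := H.aN_skew y₁ c₁
  have hx₁ := H.rhom_tsp T₁
  have rig₁ := rig T₁
  have hX₁ := H.right (eich_mem_E y₁ c₁)
  have hK₁ : (H.rhom (eich P₂ y₁ c₁)).1 ∈ M := hK _ hX₁ ⟨1, _, H.rhom_apply _⟩
  have neg₁ := fun i hi hM h1 h2 c => H.neg_of_invol hb T₁ (i := i) hi (hc T₁ i hM c) h1 h2 c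
  generalize aN h P₂ y₁ c₁ = A₁, (H.rhom (eich P₂ y₁ c₁)).1 = t₁ at *
  have hY := X.mul_mem (X.mul_mem (X.inv_mem hg) hX₁) hg
  let T : Submodule F W := ⨅ v, LinearMap.ker ((cP h P₂).flip (g⁻¹ (A₁ v)))
  have hT : ∀ {w}, w ∈ T ↔ ∀ v, cP h P₂ w (g⁻¹ (A₁ v)) = 0 := by simp [T]
  have : Finite V := Module.finite_of_finite F
  have : Finite (V ≃ₗ[F] V) := Finite.of_injective _ DFunLike.coe_injective
  obtain ⟨p, hp⟩ := CharP.exists F
  have hp' : Fact p.Prime := ⟨CharP.char_is_prime F p⟩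
  have key : ∀ {y c}, TSP P₂ y c → ∃ s ∈ T, s ≠ 0 ∧ polar P₂ y s = 0 ∧ polar P₂ c s = 0 := by
    intro y c T₂
    obtain ⟨i, hi, hM, h1, h2, r, e, h3, h4⟩ := QuadPair.exists_invol
      (ρ := LinearEquiv.automorphismGroup.toLinearMapMonoidHom) (A := aN h P₂ y c)
      (B := ((g⁻¹ : V ≃ₗ[F] V) : End F V) * A₁ * (g : End F V)) (p := p) (H := M)
      LinearEquiv.toLinearMap_injective
      (by rintro rfl; exact H.two (by exact_mod_cast CharP.cast_eq_zero F 2))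
      (by rw [← map_natCast (algebraMap F (End F V)), CharP.cast_eq_zero, map_zero]) T₂.aN_mul
      (by ext v; simpa using LinearMap.congr_fun hA₁ (g v))
      (LinearMap.ext (H.rhom_tsp T₂)) (LinearMap.ext fun v => by simp [hx₁])
      (H.right (eich_mem_E y c)) hY (hK _ (H.right (eich_mem_E y c)) ⟨1, _, H.rhom_apply _⟩) (fun h1 => hgK (rig₁ g hg h1)) (rig T₂)
    have hA := T₂.aN_mul (h := h)
    have neg₂ := fun c => H.neg_of_invol hb T₂ hi (hc T₂ i hM c) h1 h2 c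
    generalize aN h P₂ y c = A at *
    obtain ⟨B, hB⟩ : ∃ B, B = ((g⁻¹ : V ≃ₗ[F] V) : End F V) * A₁ * (g : End F V) := ⟨_, rfl⟩
    rw [← hB] at e h4
    replace e : (i : End F V) = 1 + (A * B + B * A) * r := e
    have hB : ∀ v, g (B v) = A₁ (g v) := fun v => by simp [hB]
    have hBB : B * B = 0 := LinearMap.ext fun v => g.injective (by
      simpa [hB] using LinearMap.congr_fun hA₁ (g v))
    have c1 : ∀ v, i (A v) = A (i v) := LinearMap.congr_fun (f := _ * A) (g := A * _)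
      (e ▸ ((Commute.one_left A).add_left ((QuadPair.comm_z_left hA).mul_left h3)).eq :
        (i : End F V) * A = A * (i : End F V))
    have c2 : ∀ v, i (B v) = B (i v) := LinearMap.congr_fun (f := _ * B) (g := B * _)
      (e ▸ ((Commute.one_left B).add_left ((QuadPair.comm_z_right hBB).mul_left h4)).eq :
        (i : End F V) * B = B * (i : End F V))
    have e : ∀ v, i v = v + (A (B (r v)) + B (A (r v))) := LinearMap.congr_fun e
    have h3 : ∀ v, r (A v) = A (r v) := LinearMap.congr_fun h3.eq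
    have h4 : ∀ v, r (B v) = B (r v) := LinearMap.congr_fun h4.eq
    obtain ⟨-, s, h5, h6, h7, h8⟩ := neg₂ c1 fun v hv => ⟨B (r v), by simp [e, ← h3, hv]⟩
    have hi' := X.mul_mem (X.mul_mem hg hi) (X.inv_mem hg)
    have c3 : ∀ v, (g * i * g⁻¹) (A₁ v) = A₁ ((g * i * g⁻¹) v) := fun v => by
      obtain ⟨v, rfl⟩ := g.surjective v
      simp [← hB, c2]
    obtain ⟨h9, -⟩ := neg₁ _ hi' (rig₁ _ hi' (by
        convert hK₁ using 1
        rw [mul_assoc, inv_mul_eq_iff_eq_mul]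
        exact LinearEquiv.ext fun v => by
          rw [LinearEquiv.mul_apply, LinearEquiv.mul_apply _ t₁, hx₁, hx₁, map_add, c3]))
      (by rw [conj_mul, h1]; simp) (by simpa using h2) c3 fun v hv => by
        obtain ⟨v, rfl⟩ := g.surjective v
        have : B v = 0 := g.injective (by simpa [hB] using hv)
        exact ⟨g (A (r v)), by simp [e, ← h4, this, hB]⟩
    refine ⟨s, hT.2 fun v => polar_ext H.n₁ fun u => ?_, h5, h6, h7⟩
    have h10 : i (g⁻¹ (A₁ v)) = -g⁻¹ (A₁ v) := g.injective (by simpa using h9 v)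
    have h11 := H.pol hi (τ u s) (g⁻¹ (A₁ v))
    rw [h8, h10, polar_neg_right, H.B_tau] at h11
    exact mul_left_cancel₀ H.two (by linear_combination -h11 - 2 * polar_zero_right P₁ u)
  have an : ∀ y ∈ T, P₂ y = 0 → y = 0 := fun y hy hy' => by
    by_contra hy0
    have : Nontrivial U := Module.nontrivial_of_finrank_pos (R := F) (by have := H.ha; omega)
    refine hgK (rig₁ g hg (hK _ hY (mem_Kron_of h 1 (H.exists_map H hb hy' hy0 hy0 hY
      fun u => ?_))))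
    have : A₁ (g (τ u y)) = 0 := H.hQ _ fun v => by
      rw [hs₁, ← apply_inv_apply g (A₁ v), H.pol hg, H.B_tau, hT.1 hy]; simp
    simp [hx₁, this]
  have h1 : finrank F T ≤ 2 := by
    by_contra h1
    obtain ⟨y, hy, h2, h3⟩ := RootMax.quad_exists_sing P₂ (Z := T) (by omega)
    exact h2 (an y hy h3)
  obtain ⟨t, ht, ht0, -⟩ := key T₁
  obtain ⟨y, -, hy, hyt⟩ := exists_sing_not_orth (nd_top H.n₂) trivial hy₁.e_ne hy₁.he (w := t)
    fun h2 => ht0 (H.n₂ t fun v => pc (h2 v trivial))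
  have hy0 := ne_zero_of_polar hyt
  have h2 := Submodule.finrank_lt_finrank_of_lt (s := T ⊓ perp P₂ (Submodule.span F {y}))
    (lt_of_le_of_ne inf_le_left fun h2 => hyt (mem_perp_one.1 (h2.ge ht).2))
  obtain ⟨v, hv⟩ := finrank_le_one_iff.1
    (show finrank F ↥(T ⊓ perp P₂ (Submodule.span F {y})) ≤ 1 by omega)
  have h3 : ∀ c, P₂ c = 0 → polar P₂ y c = 0 → polar P₂ v.1 c = 0 := fun c hc hyc => by
    by_cases h3 : c ∈ Submodule.span F {y}
    · exact pc (v.2.2 c h3)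
    obtain ⟨s, hs, hs0, h4, h5⟩ := key ⟨hy, hc, hyc, hy0, h3⟩
    obtain ⟨a, ha⟩ := hv ⟨s, hs, mem_perp_one.2 h4⟩
    obtain rfl : a • v.1 = s := congrArg Subtype.val ha
    exact pc (by simpa [left_ne_zero_of_smul hs0] using h5)
  obtain ⟨a, ha⟩ := Submodule.mem_span_singleton.1 (mem_span_of_orth H.n₂ (x := y) (w := v.1)
    fun a ha => by
      obtain ⟨p, r, h4, h5, h6, h7, rfl⟩ := sing_add_sing_orth H.n₂ hb hy hy0 ha
      simp [h3 p h4 h6, h3 r h5 h7])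
  obtain ⟨c, T₂⟩ := exists_tsp H.n₂ hb hy hy0
  obtain ⟨s, hs, hs0, h4, -⟩ := key T₂
  obtain ⟨b, hb⟩ := hv ⟨s, hs, mem_perp_one.2 h4⟩
  refine hs0 (an s hs ?_)
  rw [← show b • v.1 = s from congrArg Subtype.val hb, ← ha]
  simp [Q_smul, hy]

end OQ

end CfsgLib.C7O
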