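import Mathlib
import Cfsg.Agent.Lib.C7O.Cl
import Cfsg.Agent.Lib.C7O.Zq

/-!
Overgroups of the stabiliser of a tensor power of an orthogonal space: first properties.
-/

set_option autoImplicit false
set_option linter.unusedSectionVars false

namespace CfsgLib.C7O

open Module CfsgLib.ClMax CfsgLib.ClMax.Ten CfsgLib.OrthE CfsgLib.OMax QuadraticMap CfsgLib.C7

variable {F U V : Type*} [Field F] [AddCommGroup U] [Module F U] [AddCommGroup V] [Module F V]
  {P : QuadraticForm F U} {Q : QuadraticForm F V}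

/-- The action of the general linear group of a factor. -/
def sh (s : End F U →ₐ[F] End F V) : (U ≃ₗ[F] U) →* (V ≃ₗ[F] V) where
  toFun g := LinearEquiv.ofLinearMap (s g) (s (g⁻¹ : U ≃ₗ[F] U))
    ((map_mul s _ _).symm.trans (by rw [coe_mul_inv, map_one]; rfl))
    ((map_mul s _ _).symm.trans (by rw [coe_inv_mul, map_one]; rfl))
  map_one' := LinearEquiv.toLinearMap_injective (map_one s)
  map_mul' a b := LinearEquiv.toLinearMap_injective (map_mul s (a : End F U) b)

theorem sh_coe (s : End F U →ₐ[F] End F V) (g : U ≃ₗ[F] U) : (sh s g : End F V) = s g := rfl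

theorem sh_apply (s : End F U →ₐ[F] End F V) (g : U ≃ₗ[F] U) (v : V) : sh s g v = s g v := rfl

theorem mem_O_of_polar (h2 : (2 : F) ≠ 0) {g : V ≃ₗ[F] V}
    (h : ∀ v w, polar Q (g v) (g w) = polar Q v w) : g ∈ O Q := fun v =>
  mul_left_cancel₀ h2 (by rw [← polar_self', h, polar_self'])

theorem pb_ne (hP : Nondeg P) {x : U} (hx : x ≠ 0) : polarBilin P x ≠ 0 :=
  fun e => hx (hP x (LinearMap.congr_fun e))

theorem conj_ee (s : End F U →ₐ[F] End F V) (g : O P) (x : U) :
    s g.1 * ee P s x = ee P s (g.1 x) * s g.1 := by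
  rw [s_mul_r, r_mul_s]; congr 1; ext v; simp [O_polar]

theorem uni_pow {p : ℕ} [CharP F p] {N : End F V} (h : N * N = 0) : uni N h ^ p = 1 := by
  have : ∀ n : ℕ, ((uni N h ^ n : V ≃ₗ[F] V) : End F V) = 1 + (n : F) • N := fun n => by
    induction n with
    | zero => simp; rfl
    | succ n ih =>
      rw [pow_succ, LinearEquiv.coe_toLinearMap_mul, ih, uni_coe]
      simp [mul_add, add_mul, h, add_smul, add_assoc, add_comm N]
  exact LinearEquiv.toLinearMap_injective (by rw [this]; simp; rfl)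

variable [FiniteDimensional F U] [FiniteDimensional F V] {T : Type*}
  {s : T → End F U →ₐ[F] End F V}

namespace OT

variable (H : OT s P Q)
include H

theorem three (i : T) : 3 ≤ finrank F V := by
  have := H.nt
  have := H.ntU
  obtain ⟨u, hu⟩ := exists_ne (0 : U)
  have h1 := finrank_L_mul (s := s i) hu
  have h2 : 0 < finrank F V := finrank_pos
  have h3 := H.h3
  rw [← h1] at h2 ⊢
  nlinarith [Nat.pos_of_mul_pos_left h2]

theorem sh_mem (i : T) (g : O P) : sh (s i) g.1 ∈ O Q := mem_O_of_polar H.h2 fun v w => by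
  rw [sh_apply, H.adj i _ (g⁻¹.1 : End F U) (O_polar_left g), ← sh_apply, ← LinearEquiv.mul_apply,
    ← map_mul]
  simp

theorem swap_mem {σ : V ≃ₗ[F] V} {a b : T} (hab : a ≠ b) (hσ : C7.Sw s σ a b) : σ ∈ O Q := by
  have := H.nt
  have := H.ntU
  have hB := (nondeg_iff Q).1 H.nQ
  let G : End F V := (LinearMap.BilinForm.toDual _ hB).symm ∘ₗ (polarBilin Q).compl₁₂ (σ : End F V) (σ : End F V)
  have hG : ∀ v w, polar Q (G v) w = polar Q (σ v) (σ w) := fun v w =>
    LinearMap.BilinForm.apply_toDual_symm_apply (hB := hB) _ _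
  have key : ∀ {l m}, (∀ u φ, σ * r (s l) u φ = r (s m) u φ * σ) → G ∈ Cm (s l) :=
    fun {l m} e => mem_Cm_of_r fun u φ => LinearMap.ext fun v => polar_ext H.nQ fun w => by
      obtain ⟨z, rfl⟩ := exists_polar_dual H.nP φ
      have e' : ∀ u φ v, σ (r (s l) u φ v) = r (s m) u φ (σ v) :=
        fun u φ => LinearMap.congr_fun (e u φ)
      rw [polar_comm, polar_comm Q w, End.mul_apply, End.mul_apply, H.adj_r, hG, hG, e', e',
        H.adj_r]
  obtain ⟨c, hc⟩ := H.scalar (E := G) fun l => by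
    by_cases ha : l = a
    · exact ha ▸ key hσ.ab
    by_cases hb : l = b
    · exact hb ▸ key hσ.ba
    · exact key (Cm_r (hσ.cm l ha hb))
  obtain ⟨v, hv⟩ := H.nP.exists_nonsingular
  have h0 := ne_zero_of_Q hv
  obtain ⟨y, hy⟩ : ∃ y, ee P (s a) v (ee P (s b) v y) ≠ 0 := by
    by_contra! h
    exact r_ne_zero h0 (pb_ne H.nP h0) (r_mul_eq_zero h0 (pb_ne H.nP h0) (H.r_mem hab _ _)
      (LinearMap.ext h))
  obtain ⟨z, hz⟩ := H.nQ.exists_ne hy
  have e : ∀ y, σ (ee P (s a) v (ee P (s b) v y)) = ee P (s a) v (ee P (s b) v y) :=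
    LinearMap.congr_fun (hσ.fix v _)
  have h1 := hG (ee P (s a) v (ee P (s b) v y)) (ee P (s a) v (ee P (s b) v z))
  have h2 : polar Q (ee P (s a) v (ee P (s b) v y)) (ee P (s a) v (ee P (s b) v z)) ≠ 0 := by
    rw [← H.adj_r, ← H.adj_r, r_r, map_smul, ← Cm_r_apply (H.r_mem hab.symm _ _), r_r]
    simpa [H.h2, hv] using hz
  rw [e, e, hc, LinearMap.smul_apply, polar_smul_left, End.one_apply, smul_eq_mul,
    mul_eq_right₀ h2] at h1
  exact mem_O_of_polar H.h2 fun v w => by simp [← hG, hc, h1]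

/-- A commutative family normalised by the root elements of the other factors is scalar. -/
theorem cl [Finite F] (hq : (∃ t : F, t ≠ 0 ∧ t * t ≠ 1) ∨ 5 ≤ finrank F U) {i : T}
    {G : Set (End F V)} (hC : ∀ a ∈ G, a ∈ Cm (s i)) (hc : ∀ a ∈ G, ∀ b ∈ G, a * b = b * a)
    (hG : ∀ l ≠ i, ∀ x c, P x = 0 → polar P x c = 0 → ∀ a ∈ G,
      s l (eich P x c).1 * a * s l (eich P x (-c)).1 ∈ G) {a : End F V} (ha : a ∈ G) :
    ∃ c : F, a = c • 1 := by
  have := H.nt
  let A := Subalgebra.centralizer F (Subalgebra.centralizer F G : Set (End F V))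
  have hA : ∀ {a}, a ∈ A ↔ ∀ K, (∀ g ∈ G, g * K = K * g) → K * a = a * K := Iff.rfl
  have h1 : ∀ a ∈ A, ∀ b ∈ A, a * b = b * a := fun a ha b hb =>
    hA.1 hb a fun g hg => hA.1 ha g fun k hk => hc k hk g hg
  have inv : ∀ l x c, s l (eich P x c).1 * s l (eich P x (-c)).1 = 1 ∧
      s l (eich P x (-c)).1 * s l (eich P x c).1 = 1 := fun l x c => by
    simp [← map_mul, eich_neg, coe_mul_inv, coe_inv_mul]
  have h3 : ∀ l ≠ i, ∀ x c, P x = 0 → polar P x c = 0 → ∀ a ∈ A,
      s l (eich P x c).1 * a * s l (eich P x (-c)).1 ∈ A := fun l hl x c hx hc a ha =>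
    hA.2 fun K hK => by
      obtain ⟨e1, e2⟩ := inv l x c
      have hG := hG l hl x c hx hc
      generalize s l (eich P x c).1 = y, s l (eich P x (-c)).1 = y' at *
      have := hA.1 ha (y' * K * y) fun g hg => by
        simpa only [mul_assoc, ← mul_assoc y' y, e2, one_mul, mul_one] using
          congrArg (y' * · * y) (hK _ (hG g hg))
      simpa only [mul_assoc, ← mul_assoc y y', e1, one_mul, mul_one] using
        congrArg (y * · * y') this
  have red : ∀ a ∈ A, a * a = 0 → a = 0 := by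
    obtain ⟨Z, ⟨h4, h5⟩, h6⟩ := (wellFounded_lt (α := Submodule F V)).has_min
      {Z | Z ≠ ⊥ ∧ ∀ a ∈ A, ∀ v ∈ Z, a v ∈ Z} ⟨⊤, top_ne_bot, fun _ _ _ _ => trivial⟩
    obtain ⟨z, hz, hz0⟩ := (Submodule.ne_bot_iff Z).1 h4
    let Z₀ : Submodule F V :=
      { carrier := {v | ∀ a ∈ A, a * a = 0 → a v = 0}
        add_mem' h1 h2 a ha h := by rw [map_add, h1 a ha h, h2 a ha h, add_zero]
        zero_mem' _ _ _ := map_zero _
        smul_mem' c v h1 a ha h := by rw [map_smul, h1 a ha h, smul_zero] }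
    have h7 : z ∈ Z₀ := fun a ha h => by
      refine (eq_of_le_of_not_lt (inf_le_left (b := LinearMap.ker a)) (h6 _ ⟨?_, fun b hb v hv =>
        ⟨h5 b hb v hv.1, ?_⟩⟩)).ge hz |>.2
      · by_cases h8 : a z = 0
        · exact (Submodule.ne_bot_iff _).2 ⟨z, ⟨hz, h8⟩, hz0⟩
        · exact (Submodule.ne_bot_iff _).2 ⟨a z, ⟨h5 a ha z hz, LinearMap.congr_fun h z⟩, h8⟩
      · change (a * b) v = 0
        rw [h1 a ha b hb, End.mul_apply, hv.2, map_zero]
    refine fun a ha h => LinearMap.ext fun v => H.eq_top (Z := Z₀) (fun l b => ?_) h7 hz0 v a ha h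
    by_cases hl : l = i
    · intro v hv a ha h
      rw [← End.mul_apply, ← hA.1 ha _ fun g hg => (mem_Cm.1 (hl ▸ hC g hg) b).symm, End.mul_apply,
        hv a ha h, map_zero]
    refine gen_E H.nP H.h2 H.h3
      { carrier := {b | ∀ v ∈ Z₀, s l b v ∈ Z₀}
        mul_mem' ha hb v hv := by rw [map_mul]; exact ha _ (hb v hv)
        add_mem' ha hb v hv := by rw [map_add]; exact Z₀.add_mem (ha v hv) (hb v hv)
        algebraMap_mem' c v hv := by rw [AlgHom.commutes]; exact Z₀.smul_mem c hv }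
      (fun x c hx hc v hv a ha h => ?_) b
    obtain ⟨e1, e2⟩ := inv l x c
    have h8 := hv _ (h3 l hl x (-c) hx (by simp [hc]) a ha)
    rw [neg_neg] at h8
    generalize s l (eich P x c).1 = y, s l (eich P x (-c)).1 = y' at *
    have h9 := congrArg y (h8 (by
      simp only [mul_assoc, ← mul_assoc y y', e1, one_mul, ← mul_assoc a a, h, zero_mul, mul_zero]))
    rwa [← End.mul_apply, ← mul_assoc, ← mul_assoc, e1, one_mul, map_zero] at h9
  refine H.scalar fun l => ?_
  by_cases hl : l = i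
  · exact hl ▸ hC a ha
  have k : ∀ x c, P x = 0 → polar P x c = 0 → (P c = 0 ∨ ∃ t : F, t ≠ 0 ∧ t * t ≠ 1) →
      s l (eich P x c).1 * a = a * s l (eich P x c).1 := fun x c hx hc h4 => by
    have h5 := comm_of_cubic H.h2 (nn_sq (s := s l) hx hc) (by simp [sub_mul, hx, pc hc])
      (by simp [mul_sub, hx, hc]) (by simp [hx]) (h4.imp_left fun h4 => by simp [h4]) red
      (fun t b hb => by
        rw [← s_eich hx hc, ← s_eich hx hc, neg_smul]
        exact h3 l hl x _ hx (by simp [hc]) b hb) (G := a) (hA.2 fun K hK => (hK a ha).symm)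
    have h6 : (-P c • ee P (s l) x) * a = a * (-P c • ee P (s l) x) :=
      smul_right_injective _ H.h2 (by
        beta_reduce
        rw [← smul_mul_assoc, ← mul_smul_comm, ← nn_sq hx hc, mul_assoc, h5, ← mul_assoc, h5,
          mul_assoc])
    rw [← one_smul F c, s_eich hx hc]
    simp only [add_mul, mul_add, smul_mul_assoc _ (_ • _), smul_mul_assoc _ (nn ..), h5, h6,
      mul_smul_comm _ a, mul_one, one_mul]
  refine cm_of_eich H.nP H.h2 H.h3 fun x c hx hc => ?_
  rcases hq with hq | hq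
  · exact k x c hx hc (.inr hq)
  by_cases h0 : x = 0
  · simp [h0, eich_zero_left, ← End.one_eq_id]
  obtain ⟨u, v, h4, h5, h6, h7, rfl⟩ := sing_add_sing_orth H.nP hq hx h0 hc
  rw [← eich_mul hx h6 h7, Subgroup.coe_mul, LinearEquiv.coe_toLinearMap_mul, map_mul, mul_assoc,
    k x v hx h7 (.inl h5), ← mul_assoc, k x u hx h6 (.inl h4), mul_assoc]

end OT

end CfsgLib.C7O
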