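import Mathlib
import Cfsg.Agent.Lib.C7O.Zq

/-!
Overgroups of the group `Ω` of the right factor of a tensor product: the case of a skew map.
-/

set_option autoImplicit false
set_option linter.unusedSectionVars false

namespace CfsgLib.C7O

open Module CfsgLib.ClMax CfsgLib.ClMax.Ten CfsgLib.OrthE CfsgLib.OMax QuadraticMap

variable {F U W V : Type*} [Field F] [AddCommGroup U] [Module F U] [AddCommGroup W]
  [Module F W] [AddCommGroup V] [Module F V] {τ : U →ₗ[F] W →ₗ[F] V}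
  {P₁ : QuadraticForm F U} {P₂ : QuadraticForm F W} {Q : QuadraticForm F V} {h : IsTensorProduct τ}
  {X : Subgroup (V ≃ₗ[F] V)} [FiniteDimensional F U] [FiniteDimensional F W] [Finite F]

namespace OB

variable (H : OB P₁ P₂ Q h X)
include H

theorem wedge_of_Z (hU : ∀ u d, u ≠ 0 → P₁ u = 0 → P₁ d = 0 → polar P₁ u d = 0 →
      d ∉ Submodule.span F {u} → 5 ≤ finrank F U) {x : W} (hx : P₂ x = 0) (hx0 : x ≠ 0)
    (hL : ∀ α ∈ E P₁, ∃ g ∈ X, ∀ u, g (τ u x) = τ (α.1 u) x) {m : End F U} (hm : m ∈ ZO h X hx) (hm0 : m ≠ 0) : ∃ u, u ≠ 0 ∧ P₁ u = 0 ∧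
      ∀ a, polar P₁ u a = 0 → EA (X.subgroupOf (O Q)) (τ u x) (τ a x) := by
  have h2 := H.two
  obtain ⟨x', hx'⟩ := H.n₂.exists_hyp hx hx0
  have hs : ∀ p r, polar P₁ p (m r) = -polar P₁ (m p) r := fun p r => by
    obtain ⟨g, hg, e⟩ := hm.exists
    have := H.pol hg (τ p x') (τ r x')
    simp [e, H.eq, hx'.hee, hx'.hff, hx'.hef, hx'.hfe] at this
    linear_combination this
  have hs0 : ∀ p, polar P₁ p (m p) = 0 := fun p =>
    mul_left_cancel₀ h2 (by linear_combination hs p p - polar_comm P₁ (m p) p)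
  obtain ⟨u, hu, hd⟩ : ∃ u, P₁ u = 0 ∧ m u ∉ Submodule.span F {u} := by
    by_contra h'
    push Not at h'
    obtain ⟨c, hc⟩ := scalar_of_sing H.n₁ h2 H.ha h'
    obtain ⟨u, u', hu⟩ := H.n₁.exists_hyp_of_three H.ha
    have := hs u u'
    simp only [hc, polar_smul_left, polar_smul_right, hu.hef, smul_eq_mul] at this
    have h3 : c = 0 := mul_left_cancel₀ h2 (by linear_combination this)
    exact hm0 (LinearMap.ext fun v => by simp [hc, h3])
  have hu0 : u ≠ 0 := by rintro rfl; simp at hd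
  have hQ0 : ∀ a, Q (τ a x) = 0 := fun a => by simp [H.Q_tau, hx]
  let A := (EAs (X.subgroupOf (O Q)) (hQ0 u)).comap (τ.flip x).toAddMonoidHom
  have k : ∀ c, polar P₁ u c = 0 → (2 : F) • (P₁ c • m u - polar P₁ c (m u) • c) ∈ A := by
    intro c hc
    have k1 : ∀ c, polar P₁ u c = 0 → ((eich P₁ u c).1 : End F U) * m *
        ((eich P₁ u (-c)).1 : End F U) ∈ ZO h X hx := fun c hc => by
      obtain ⟨g, hg, e⟩ := hL _ (eich_mem_E u c)
      have e' : ∀ v, cP h P₂ x (g v) = (eich P₁ u c).1 (cP h P₂ x v) := fun v =>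
        polar_ext H.n₁ fun a => by
          obtain ⟨a, rfl⟩ := (eich P₁ u c).1.surjective a
          rw [H.cP_map H hg (e a), O_polar]
      exact UIn.conj' hm hg fun v => by simp [e, e', eich_neg]
    obtain ⟨g, hg, e⟩ := UIn.exists (sub_mem (sub_mem (add_mem (k1 c hc) (k1 (-c) (by simp [hc])))
      hm) hm)
    have h5 : polar Q (τ u x) (τ ((2 : F) • (P₁ c • m u - polar P₁ c (m u) • c)) x) = 0 := by
      simp [H.eq, pself hx]
    refine ⟨hQ0 u, h5, Subgroup.mem_subgroupOf.2 ?_⟩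
    convert hg using 1
    ext v
    erw [eich_ap (hQ0 u) h5]
    rw [e, hQ0, H.B_tau, H.B_tau]
    generalize hy : cP h P₂ x v = y
    have h6 : polar P₁ u (-c) = 0 := by simp [hc]
    simp only [LinearMap.comp_apply, hy, LinearMap.flip_apply, LinearMap.sub_apply,
      LinearMap.add_apply, End.mul_apply, LinearEquiv.coe_coe, neg_neg, eich_ap hu hc,
      eich_ap hu h6]
    simp only [map_add, map_sub, map_smul, map_neg, polar_add_right, polar_sub_right,
      polar_smul_right, polar_neg_left, polar_neg_right, polar_smul_left, polar_sub_left,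
      smul_eq_mul, Q_neg, hs0, hs u y, hs u c, polar_comm P₁ (m u) c, LinearMap.add_apply,
      LinearMap.sub_apply, LinearMap.smul_apply, LinearMap.neg_apply]
    module
  have k2 : ∀ c d, polar P₁ u c = 0 → polar P₁ u d = 0 →
      polar P₁ c d • m u - polar P₁ c (m u) • d - polar P₁ d (m u) • c ∈ A := fun c d hc hd => by
    convert sub_mem (sub_mem (k ((2 : F)⁻¹ • c + d) (by simp [hc, hd]))
      (k ((2 : F)⁻¹ • c) (by simp [hc]))) (k d hd) using 1
    simp only [Q_add, polar_add_left, polar_smul_left, smul_eq_mul]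
    match_scalars <;> field_simp <;> ring
  refine ⟨u, hu0, hu, fun a ha => show a ∈ A from ?_⟩
  by_cases h3 : P₁ (m u) = 0
  · obtain ⟨b, h4, h5⟩ := exists_dual_one H.n₁ hd
    obtain ⟨b, h4, h5, h6⟩ : ∃ b, polar P₁ b (m u) = 1 ∧ polar P₁ u b = 0 ∧ polar P₁ b b = 0 :=
      ⟨b - P₁ b • m u, by simp [polar_comm P₁ b, h4, pself h3], by simp [h5, hs0],
        pself (by simp [Q_sub, Q_smul, h3, polar_comm P₁ b, h4])⟩
    have h7 := finrank_perp_pair H.n₁ u (m u)
    have h8 := hU u (m u) hu0 hu h3 (hs0 u) hd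
    obtain ⟨c, hc, h9⟩ := exists_nonsing H.n₁ (S := perp P₁ (Submodule.span F {u, m u})) (by omega)
    obtain ⟨hc, hc'⟩ := mem_perp_pair.1 hc
    have h10 := polar_self_ne h2 h9
    convert sub_mem (sub_mem (k2 ((polar P₁ a b / polar P₁ c c) • c) c (by simp [hc]) hc)
      (k2 (a - polar P₁ a (m u) • b) b (by simp [ha, h5]) h5))
      (k2 ((polar P₁ a (m u) / 2) • b) b (by simp [h5]) h5) using 1
    simp only [polar_smul_left, polar_sub_left, smul_eq_mul, pc hc', h4, h6]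
    match_scalars <;> field_simp <;> ring
  · have h4 := polar_self_ne h2 h3
    convert neg_mem (k2 ((polar P₁ (m u) (m u))⁻¹ • m u) a (by simp [hs0]) ha) using 1
    simp only [polar_smul_left, smul_eq_mul, polar_comm P₁ a]
    match_scalars <;> field_simp
    ring

theorem E_le_of_wedge (hk : An P₂ ∨ 5 ≤ finrank F W) {x₀ : W} (hx₀ : P₂ x₀ = 0) (hx0 : x₀ ≠ 0)
    (hL : ∀ α ∈ E P₁, ∃ g ∈ X, ∀ u, g (τ u x₀) = τ (α.1 u) x₀) {u₀ : U} (hu₀ : P₁ u₀ = 0)
    (hu0 : u₀ ≠ 0)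
    (h0 : ∀ a, polar P₁ u₀ a = 0 → EA (X.subgroupOf (O Q)) (τ u₀ x₀) (τ a x₀)) :
    E Q ≤ X.subgroupOf (O Q) := by
  have := finiteDimensional h
  have hb := H.hb
  obtain ⟨u₁, hu₁⟩ := H.n₁.exists_hyp hu₀ hu0
  obtain ⟨x₁, hx₁⟩ := H.n₂.exists_hyp hx₀ hx0
  have h1 : ∀ u x, u ≠ 0 → P₁ u = 0 → x ≠ 0 → P₂ x = 0 → ∀ a, polar P₁ u a = 0 →
      EA (X.subgroupOf (O Q)) (τ u x) (τ a x) := fun u x hu hu' hx hx' a ha => by
    obtain ⟨α, hα, s, hs, e1⟩ := hu₁.exists_E_singular H.n₁ (hu₁.exists_nonsingular H.n₁ H.ha)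
      hu0 hu hu₀ hu'
    obtain ⟨β, hβ, t, ht, e2⟩ := hx₁.exists_E_singular H.n₂
      (hx₁.exists_nonsingular H.n₂ (by omega)) hx0 hx hx₀ hx'
    obtain ⟨g, hg, e⟩ := hL α hα
    have h2 := ((h0 (α⁻¹.1 ((s * t * t)⁻¹ • a)) (by
      rw [← O_polar_left, e1]; simp [ha])).conj (g := ⟨g, H.hX hg⟩) hg).conj
      (g := H.rhom β) (H.right hβ)
    simp only [e, H.rhom_apply, e1, e2, O_apply_inv_apply, map_smul,
      LinearMap.smul_apply, smul_smul] at h2
    refine (h2.of_smul_left (mul_ne_zero hs ht)).congr ?_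
    match_scalars; field_simp
  have hQ0 : ∀ u x, P₁ u = 0 → Q (τ u x) = 0 := fun u x hu => by simp [H.Q_tau, hu]
  have h2 : ∀ u x, u ≠ 0 → P₁ u = 0 → x ≠ 0 → P₂ x = 0 → ∀ w,
      EA (X.subgroupOf (O Q)) (τ u x) (τ u w) := fun u x hu hu' hx hx' =>
    sing_span H.n₂ hx' hx ((EAs _ (hQ0 u x hu')).comap (τ u).toAddMonoidHom)
      (fun t => (EA.self (hQ0 u x hu') t).congr (by simp)) fun y hy hxy => by
      obtain ⟨b, -, b', -, h3, h4, h5⟩ := exists_pair_orth H.n₁ (nd_top H.n₁) (by simpa using H.ha)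
        trivial hu hu'
      have := (h1 u x hu hu' hx hx' ((polar P₂ x y)⁻¹ • b') (by simp [h4])).move
        (h1 u y hu hu' (ne_zero_of_polar (polar_comm P₂ x y ▸ hxy)) hy b h3)
        (by simp [H.eq, pself hu']) (by simp [H.eq, pc h3])
      change EA _ _ (τ u y)
      simpa [H.eq, h4, h5, polar_comm P₂ y x, hxy] using this
  have h3' : ∀ u x, u ≠ 0 → P₁ u = 0 → x ≠ 0 → P₂ x = 0 → ∀ w, polar P₂ x w = 0 → P₂ w ≠ 0 → ∀ a,
      EA (X.subgroupOf (O Q)) (τ u x) (τ a w) := fun u x hu hu' hx hx' w hw hw' =>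
    sing_span H.n₁ hu' hu ((EAs _ (hQ0 u x hu')).comap (τ.flip w).toAddMonoidHom)
      (fun t => (h2 u x hu hu' hx hx' (t • w)).congr (by simp)) fun a ha hua => by
      have h6 : x ∉ Submodule.span F {w} := fun h6 => by
        obtain ⟨c, rfl⟩ := Submodule.mem_span_singleton.1 h6
        simp [Q_smul, hw', left_ne_zero_of_smul hx] at hx'
      obtain ⟨z, h7, h8⟩ := exists_dual_one H.n₂ h6
      have := (h2 u x hu hu' hx hx' (-(polar P₁ u a)⁻¹ • z)).move
        (h2 a x (ne_zero_of_polar (polar_comm P₁ u a ▸ hua)) ha hx hx' w)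
        (by simp [H.eq, pself hx']) (by simp [H.eq, pc hw])
      change EA _ _ (τ a w)
      simpa [H.eq, h7, h8, polar_comm P₁ a u, hua, hQ0 a w ha] using this
  have h3'' : 5 ≤ finrank F W → ∀ u x, u ≠ 0 → P₁ u = 0 → x ≠ 0 → P₂ x = 0 → ∀ w, polar P₂ x w = 0 → ∀ a,
      EA (X.subgroupOf (O Q)) (τ u x) (τ a w) := fun hb u x hu hu' hx hx' w hw =>
    sing_span H.n₁ hu' hu ((EAs _ (hQ0 u x hu')).comap (τ.flip w).toAddMonoidHom)
      (fun t => (h2 u x hu hu' hx hx' (t • w)).congr (by simp)) fun a ha hua => by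
      obtain ⟨y, h4, h5, h6⟩ : ∃ y, P₂ y = 0 ∧ polar P₂ x y = 0 ∧ y ∉ Submodule.span F {w} := by
        by_cases h4 : x ∈ Submodule.span F {w}
        · obtain ⟨y, h5, h6, h7⟩ := exists_sing_out H.n₂ (Submodule.span F {x}) (by
            rw [finrank_span_singleton hx]; omega)
          refine ⟨y, h7, mem_perp_one.1 h5, fun h8 => h6 ?_⟩
          obtain ⟨c, rfl⟩ := Submodule.mem_span_singleton.1 h4
          rwa [Submodule.span_singleton_smul_eq (left_ne_zero_of_smul hx).isUnit]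
        · exact ⟨x, hx', pself hx', h4⟩
      obtain ⟨z, h7, h8⟩ := exists_dual_one H.n₂ h6
      have := (h2 u x hu hu' hx hx' (-(polar P₁ u a)⁻¹ • z)).move
        (h2 a y (ne_zero_of_polar (polar_comm P₁ u a ▸ hua)) ha (by rintro rfl; simp at h7)
          h4 w) (by simp [H.eq, pc h5]) (by simp [H.eq, pc hw])
      change EA _ _ (τ a w)
      simpa [H.eq, h7, h8, polar_comm P₁ a u, hua, hQ0 a w ha] using this
  have h3 : ∀ u x, u ≠ 0 → P₁ u = 0 → x ≠ 0 → P₂ x = 0 → ∀ w, polar P₂ x w = 0 → ∀ a,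
      EA (X.subgroupOf (O Q)) (τ u x) (τ a w) := fun u x hu hu' hx hx' w hw a => by
    rcases hk with hk | hk
    swap
    · exact h3'' hk u x hu hu' hx hx' w hw a
    by_cases hw' : P₂ w = 0
    · obtain ⟨y, hy⟩ := H.n₂.exists_hyp hx' hx
      obtain ⟨d, h4, -, h5⟩ := hy.exists_nonsingular H.n₂ hb
      obtain ⟨c, rfl⟩ := Submodule.mem_span_singleton.1 (hk x w hx' hx hw' hw)
      exact ((h3' u x hu hu' hx hx' (d + c • x) (by simp [pc h4, pself hx', -polar_self])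
        (by simpa [Q_add, Q_smul, hx', h4] using h5) a).sub
        (h3' u x hu hu' hx hx' d (pc h4) h5 a)).congr (by simp)
    · exact h3' u x hu hu' hx hx' w hw hw' a
  have h4 : ∀ u x, u ≠ 0 → P₁ u = 0 → x ≠ 0 → P₂ x = 0 →
      EFull (X.subgroupOf (O Q)) (τ u x) := fun u x hu hu' hx hx' v hv => by
    obtain ⟨u', h5⟩ := H.n₁.exists_hyp hu' hu
    obtain ⟨y, h6⟩ := H.n₂.exists_hyp hx' hx
    have h7 : ∀ v, EA (X.subgroupOf (O Q)) (τ u x) (v - τ (cP h P₂ x v) y) := fun v => by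
      induction v using h.inductionOn with
      | zero => simpa using EA.zero (hQ0 u x hu')
      | add a b ha hb => exact (ha.add hb).congr (by simp; abel)
      | tmul a z =>
        exact (h3 u x hu hu' hx hx' (z - polar P₂ x z • y) (by simp [h6.hef]) a).congr (by simp)
    rw [H.B_tau] at hv
    have h8 := (h3 u x hu hu' hx hx' x (pself hx') u').move (h1 u y hu hu' h6.f_ne h6.hf _ hv)
      (by simp [H.eq, pself hu']) (by simp [H.eq, pc hv])
    generalize polar Q _ (τ u' x) - _ = c at h8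
    refine ((h7 v).add ((h2 u x hu hu' hx hx' (c • y)).sub h8)).congr ?_
    simp [H.eq, h5.hef, h6.hfe]
  exact E_le_of_two H.hQ (by have := H.ha; rw [finrank_eq h]; nlinarith) (hQ0 _ _ hu₀)
    (hQ0 _ _ hu₁.hf) (h4 _ _ hu0 hu₀ hx0 hx₀) (h4 _ _ hu₁.f_ne hu₁.hf hx₁.f_ne hx₁.hf)
    (by simp [H.eq, hu₁.hef, hx₁.hef])

end OB

end CfsgLib.C7O
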