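import Mathlib
import Cfsg.Agent.Lib.C7O.Ow
import Cfsg.Agent.Lib.C7O.Wedge

/-!
Overgroups of the stabiliser of a tensor power of an orthogonal space: skew maps.
-/

set_option autoImplicit false
set_option linter.unusedSectionVars false

namespace CfsgLib.C7O

open Module CfsgLib.ClMax CfsgLib.ClMax.Ten CfsgLib.OrthE CfsgLib.OMax QuadraticMap CfsgLib.C7

variable {F U V : Type*} [Field F] [AddCommGroup U] [Module F U] [AddCommGroup V] [Module F V]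
  {P : QuadraticForm F U} {Q : QuadraticForm F V} [FiniteDimensional F U] [FiniteDimensional F V]
  {T : Type*} {s : T → End F U →ₐ[F] End F V} [Finite T] [Finite F]

/-- The maps `m` with `1 + x x^* m` in `X`. -/
def Zj (s : End F U →ₐ[F] End F V) (X : Subgroup (V ≃ₗ[F] V)) {x : U} (hx : P x = 0) :
    AddSubgroup (End F V) where
  carrier := {m | m ∈ Cm s ∧ UIn X (ee P s x * m)}
  add_mem' ha hb := ⟨add_mem ha.1 hb.1, (ha.2.add hb.2 (by
    simp [mul_assoc, Cm_r' ha.1, hx])).of_eq (mul_add ..).symm⟩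
  zero_mem' := ⟨zero_mem _, uIn_zero.of_eq (mul_zero _).symm⟩
  neg_mem' ha := ⟨neg_mem ha.1, (ha.2.neg (by
    simp [mul_assoc, Cm_r' ha.1, hx])).of_eq (mul_neg ..).symm⟩

/-- The maps induced by `X` on `u ⊗ W`. -/
def Lf (s : End F U →ₐ[F] End F V) (X : Subgroup (V ≃ₗ[F] V)) (u : U) : Subgroup (V ≃ₗ[F] V) where
  carrier := {β | (β : End F V) ∈ Cm s ∧ ∃ g ∈ X, ∀ v ∈ L s u, g v = β v}
  mul_mem' := fun ⟨h1, g, hg, e⟩ ⟨h2, k, hk, e'⟩ => ⟨mul_mem h1 h2, g * k, mul_mem hg hk,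
    fun v hv => by rw [LinearEquiv.mul_apply, e' v hv]; exact e _ (Cm_mem_L h2 hv)⟩
  one_mem' := ⟨one_mem _, 1, one_mem _, fun _ _ => rfl⟩
  inv_mem' := fun ⟨h1, g, hg, e⟩ => ⟨inv_mem_Cm h1, g⁻¹, inv_mem hg, fun v hv => g.injective (by
    rw [apply_inv_apply]
    exact ((e _ (Cm_mem_L (inv_mem_Cm h1) hv)).trans (apply_inv_apply ..)).symm)⟩

/-- An overgroup of the stabiliser of the decomposition. -/
structure OW (H : OT s P Q) (X : Subgroup (V ≃ₗ[F] V)) : Prop where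
  nt : Nontrivial T
  hq : finrank F U = 3 ∧ 5 ≤ Nat.card F ∨ 5 ≤ finrank F U
  odd : Odd (finrank F V)
  hX : X ≤ O Q
  hW : ∀ g ∈ commutator (O Q), g.1 ∈ H.Wr → g.1 ∈ X
  di : ∀ j (Γ : Subgroup (V ≃ₗ[F] V)), (∀ g ∈ X, (g : End F V) ∈ Cm (s j) → g ∈ Γ) →
    (∀ β ∈ O Q, (β : End F V) ∈ Cm (s j) → β ∈ Γ → β ∈ H.Wr) ∨
      ∀ β ∈ O Q, (β : End F V) ∈ Cm (s j) → β ^ ringChar F = 1 → β ∈ Γ

theorem exists_t (h : 5 ≤ Nat.card F) : ∃ t : F, t ≠ 0 ∧ t * t ≠ 1 := by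
  have := Fintype.ofFinite F
  obtain ⟨t, h7, h8, h9, -⟩ := ClMax.big_of_card (F := F) (by
    rwa [Nat.card_eq_fintype_card] at h) 1 (-1) 0
  exact ⟨t, h7, fun e => (mul_self_eq_one_iff.1 e).elim h8 h9⟩

theorem cm_cancel {s s' : End F U →ₐ[F] End F V} (h : ∀ a, s' a ∈ Cm s) {a : End F U} (ha : a ≠ 0)
    {m : End F V} (hm : m ∈ Cm s) (h1 : s a * m ∈ Cm s') : m ∈ Cm s' := mem_Cm.2 fun b =>
  sub_eq_zero.1 (s_mul_eq_zero ha (sub_mem (mul_mem (h b) hm) (mul_mem hm (h b))) (by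
    rw [mul_sub, ← mul_assoc, mem_Cm.1 (h b), mul_assoc, mem_Cm.1 h1, mul_assoc, sub_self]))

variable {H : OT s P Q} {X : Subgroup (V ≃ₗ[F] V)} {i j : T} {x : U} {m : End F V}

namespace OW

variable (K : OW H X)
include K

theorem mem_odd {g : V ≃ₗ[F] V} (h1 : g ∈ O Q) (h2 : g ∈ H.Wr) {n : ℕ} (hn : Odd n)
    (e : g ^ n = 1) : g ∈ X :=
  have := K.nt
  K.hW ⟨g, h1⟩ (mem_comm_of_odd H.nQ H.h2 (H.three (Classical.arbitrary T)) hn (Subtype.ext e)) h2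

theorem mem_char {g : V ≃ₗ[F] V} (h1 : g ∈ O Q) (h2 : g ∈ H.Wr) (e : g ^ ringChar F = 1) : g ∈ X :=
  have : Fact (ringChar F).Prime := ⟨CharP.char_is_prime F _⟩
  K.mem_odd h1 h2 (odd_char H.h2 _) e

theorem sh_mem (i : T) {g : O P} (hg : g ∈ E P) : sh (s i) g.1 ∈ X :=
  OrthE.E_le (H := X.comap ((sh (s i)).comp (O P).subtype)) (fun u v hu hv =>
    K.mem_char (H.sh_mem i _) (H.mem_Wr_of_eq (sh_coe _ _)) (by
      rw [← map_pow, eich_pow hu hv]; simp [eich_zero_right])) hg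

theorem exists_ob (i : T) : ∃ (W : Submodule F V) (τ : W →ₗ[F] U →ₗ[F] V) (h : IsTensorProduct τ)
    (R : QuadraticForm F W), Sl (s i) P Q h R ∧ OB R P Q h X := by
  obtain ⟨W, τ, h, R, s', S, H', -⟩ := H.split i
  have := K.nt
  obtain ⟨l, hl⟩ := exists_ne i
  exact ⟨W, τ, h, R, S, S.toTenO, H'.three ⟨l, hl⟩, H.h3, K.hX, fun {β} hβ =>
    LinearEquiv.toLinearMap_injective ((sh_coe _ _).trans (S.rhom_eq β).symm) ▸ K.sh_mem i hβ⟩

theorem skew {hx : P x = 0} (hx0 : x ≠ 0) (hm : m ∈ Zj (s j) X hx) (a b : V) :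
    polar Q (m a) b = -polar Q a (m b) := by
  obtain ⟨g, hg, e⟩ := hm.2.exists
  obtain ⟨y, hy⟩ := H.nP.exists_hyp hx hx0
  have k : ∀ u w a b, polar Q (m a) (r (s j) u (polarBilin P w) b) =
      -polar Q a (m (r (s j) u (polarBilin P w) b)) := fun u w a b => by
    have := O_polar ⟨g, K.hX hg⟩ (r (s j) y (polarBilin P u) a) (r (s j) y (polarBilin P w) b)
    simp only [e, End.mul_apply, Cm_r_apply hm.1, r_r, polar_add_left, polar_add_right, H.adj_r,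
      polarBilin_apply_apply, hy.hef, hy.hfe, hy.hee, hy.hff, one_smul, zero_smul,
      polar_zero_right] at this
    rw [Cm_r_apply hm.1]
    linear_combination this
  rw [← LinearMap.congr_fun (sum_r (s j)) b |>.trans (End.one_apply b)]
  simp only [LinearMap.sum_apply, map_sum, ← polarBilin_apply_apply, ← Finset.sum_neg_distrib]
  refine Finset.sum_congr rfl fun l _ => ?_
  obtain ⟨w, hw⟩ := exists_polar_dual H.nP ((finBasis F U).coord l)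
  exact hw ▸ k _ w a b

theorem z_move {hx : P x = 0} (hm : m ∈ Zj (s j) X hx) {g : O P} (hg : g ∈ E P) :
    UIn X (ee P (s j) (g.1 x) * m) :=
  hm.2.conj' (K.sh_mem j hg) (LinearMap.congr_fun (f := ee P (s j) (g.1 x) * m * s j g.1)
    (g := s j g.1 * (ee P (s j) x * m)) (by
      rw [mul_assoc, ← mem_Cm.1 hm.1, ← mul_assoc, ← conj_ee, mul_assoc]))

theorem z_move' {hx : P x = 0} (hx0 : x ≠ 0) (hm : m ∈ Zj (s j) X hx) {y : U} (hy : P y = 0)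
    (hy0 : y ≠ 0) : ∃ c : F, c ≠ 0 ∧ c • m ∈ Zj (s j) X hy := by
  obtain ⟨x', h⟩ := H.nP.exists_hyp hx hx0
  obtain ⟨g, hg, b, hb, e⟩ := h.exists_E_singular H.nP (h.exists_nonsingular H.nP H.h3) hx0 hy0 hx hy
  exact ⟨b * b, mul_ne_zero hb hb, Subalgebra.smul_mem _ hm.1 _,
    (K.z_move hm hg).of_eq (by simp [e, ee, smul_smul])⟩

theorem z_conj {hx : P x = 0} (hm : m ∈ Zj (s j) X hx) {g : V ≃ₗ[F] V} (hg : g ∈ X)
    (h : Nma g (s j) (s i) 1) : g * m * (g⁻¹ : V ≃ₗ[F] V) ∈ Zj (s i) X hx :=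
  have := H.nt
  have := H.ntU
  ⟨h.nm.conj_Cm hm.1 (by rw [mul_assoc, coe_inv_mul, mul_one]), (hm.2.conj hg).of_eq (by
    rw [← mul_assoc, h]; simp only [mul_assoc]; rfl)⟩

theorem z_eich {hx : P x = 0} (hm : m ∈ Zj (s j) X hx) (hij : i ≠ j) (y c : U) :
    s i (eich P y c).1 * m * s i (eich P y (-c)).1 ∈ Zj (s j) X hx := by
  have := K.z_conj hm (K.sh_mem i (eich_mem_E y c)) (Cm_r (H.comm hij.symm _))
  rwa [← map_inv, ← Subgroup.coe_inv, ← eich_neg] at this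

theorem E_le_of_big {hx : P x = 0} (hx0 : x ≠ 0) (hm : m ∈ Zj (s j) X hx) (hm0 : m ≠ 0)
    (hB : ∀ β ∈ O Q, (β : End F V) ∈ Cm (s j) → β ^ ringChar F = 1 → β ∈ Lf (s j) X x) :
    E Q ≤ X.subgroupOf (O Q) := by
  obtain ⟨W, τ, h, R, S, B⟩ := K.exists_ob j
  have := H.ntU
  obtain ⟨n, rfl⟩ := S.eq_lf hm.1
  have hL : ∀ α ∈ E R, ∃ g ∈ X, ∀ u, g (τ u x) = τ (α.1 u) x := fun α hα => by
    obtain ⟨-, g, hg, e⟩ := OrthE.E_le (H := (Lf (s j) X x).comap ((O Q).subtype.comp S.flip.rhom))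
      (fun u v hu hv => hB _ (Subtype.prop _) (S.lhom_eq _ ▸ S.lf_mem _) (pow_eich S.flip hu hv)) hα
    exact ⟨g, hg, fun u => (e _ (S.tau_mem u x)).trans (S.lhom_apply ..)⟩
  obtain ⟨u, hu0, hu, h1⟩ := B.wedge_of_Z (fun u d h1 h2 h3 h4 h5 => by
    have h6 := (Nat.odd_mul.1 (finrank_eq h ▸ K.odd)).1
    have h7 := B.ha
    have h8 : finrank F W ≠ 3 := fun e => h5 (an_of_three B.n₁ e u d h2 h1 h3 h4)
    obtain ⟨k, hk⟩ := h6
    omega) hx hx0 hL (m := n) (hm.2.of_eq (ext h fun w z => by simp [S.r_tau]))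
    (by rintro rfl; simp at hm0)
  exact B.E_le_of_wedge (K.hq.imp_left fun e => an_of_three H.nP e.1) hx hx0 hL hu hu0 h1

variable (hS : ∀ j x, P x = 0 → x ≠ 0 → ∀ β ∈ O Q, (β : End F V) ∈ Cm (s j) → β ∈ Lf (s j) X x →
  β ∈ H.Wr)
include hS

theorem z_third {hx : P x = 0} (hx0 : x ≠ 0) (hm : m ∈ Zj (s j) X hx) (hij : i ≠ j)
    (h : m ∈ Cm (s i)) : m = 0 := by
  by_contra h0
  obtain ⟨g, hg, e⟩ := hm.2
  have h1 : (g : End F V) ∈ Cm (s i) := e ▸ add_mem (one_mem _) (mul_mem (H.r_mem hij _ _) h)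
  have h2 : ee P (s j) x * m ≠ 0 := fun e => h0 (r_mul_eq_zero hx0 (pb_ne H.nP hx0) hm.1 e)
  obtain ⟨a, b, h3⟩ := H.rec_odd H.h2 (hS i x hx hx0 g (K.hX hg) h1 ⟨h1, g, hg, fun _ _ => rfl⟩) e
    (by simp [mul_assoc, Cm_r' hm.1, hx]) h2
  obtain rfl : a = j := by
    by_contra h4
    obtain ⟨θ, hθ⟩ := exists_dual_one_of_ne (F := F) hx0
    have := Cm_r (h3 ▸ H.comm (Ne.symm h4) b) x θ
    simp [mul_assoc, Cm_r hm.1, hx, hθ] at this
    exact h2 this.symm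
  obtain ⟨c, rfl⟩ := H.scalar (E := m) fun l => by
    by_cases hl : l = a
    · exact hl ▸ hm.1
    · exact cm_cancel (H.comm (Ne.symm hl)) (smulRight_ne_zero hx0 (pb_ne H.nP hx0)) hm.1
        (h3 ▸ H.comm hl b :)
  have := H.nt
  obtain ⟨v, hv⟩ := H.nQ.exists_nonsingular
  have h4 := K.skew hx0 hm v v
  simp only [LinearMap.smul_apply, End.one_apply, polar_smul_left, polar_smul_right, smul_eq_mul,
    polar_self'] at h4
  exact left_ne_zero_of_smul h0 (mul_right_cancel₀ (mul_ne_zero (mul_ne_zero H.h2 H.h2) hv)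
    (by linear_combination h4))

variable (hT : ∀ i j : T, ∃ k, k ≠ i ∧ k ≠ j)
include hT

theorem z_sq {hx : P x = 0} (hx0 : x ≠ 0) (hm : m ∈ Zj (s j) X hx) (h : m * m = 0) : m = 0 := by
  by_contra h0
  obtain ⟨y, hy⟩ := H.nP.exists_hyp hx hx0
  obtain ⟨d, h1, h2, h3⟩ := hy.exists_nonsingular H.nP H.h3
  have k : ∀ a b : End F U, s j a * m * (s j b * m) = 0 := fun a b => by
    rw [mul_assoc, ← mul_assoc m, ← mem_Cm.1 hm.1, mul_assoc, h, mul_zero, mul_zero]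
  obtain ⟨g, hg, e⟩ := ((((K.z_move hm (eich_mem_E y d)).add (K.z_move hm (eich_mem_E y (-d)))
    (k _ _)).sub hm.2 (by simp only [add_mul, r_def, k, add_zero]) (k _ _)).sub hm.2
    (by simp only [add_mul, sub_mul, r_def, k, add_zero, sub_zero]) (k _ _)).exists
  have h4 : (-(2 * P d) • m) * (-(2 * P d) • m) = 0 := by simp [h]
  have h5 : (uni _ h4 : End F V) ∈ Cm (s j) := add_mem (one_mem _) (Subalgebra.smul_mem _ hm.1 _)
  have h6 := neg_ne_zero.2 (mul_ne_zero H.h2 h3)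
  obtain ⟨a, b, h7⟩ := H.rec_odd H.h2 (hS j y hy.hf hy.f_ne _ (mem_O_of_polar H.h2 fun v w => by
    simp [uni_apply, K.skew hx0 hm, ← End.mul_apply, h]) h5 ⟨h5, g, hg, fun v hv => by
      obtain ⟨θ, hθ⟩ := exists_dual_one_of_ne (F := F) hy.f_ne
      rw [← r_eq_of_mem_L hθ hv, e, uni_apply]
      simp only [hy.symm.eich_apply_f h2 h1, hy.symm.eich_apply_f (w := -d) (by simp [h2])
        (by simp [h1]), LinearMap.sub_apply, LinearMap.add_apply, End.mul_apply, Cm_r_apply hm.1,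
        r_r, polarBilin_apply_apply, polar_sub_left, polar_smul_left, polar_neg_left, hy.hef, h2,
        hy.hff, Q_neg]
      simp only [map_sub, map_smul, map_neg, LinearMap.sub_apply, LinearMap.smul_apply,
        LinearMap.neg_apply, Cm_r_apply hm.1]
      module⟩) (uni_coe _ _) h4 (smul_ne_zero h6 h0)
  obtain ⟨o, h8, h9⟩ := hT a j
  have h10 : -(2 * P d) • m ∈ Cm (s o) := h7 ▸ H.comm h8 b
  exact h0 (K.z_third hS hx0 hm h9
    (inv_smul_smul₀ h6 m ▸ (Cm (s o)).smul_mem h10 (-(2 * P d))⁻¹))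

end OW

end CfsgLib.C7O
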