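import Mathlib
import Cfsg.Agent.Lib.C7O.Zs

/-!
Overgroups of the stabiliser of a tensor power of an orthogonal space: there are no skew maps.
-/

set_option autoImplicit false
set_option linter.unusedSectionVars false

namespace CfsgLib.C7O

open Module CfsgLib.ClMax CfsgLib.ClMax.Ten CfsgLib.OrthE CfsgLib.OMax QuadraticMap CfsgLib.C7

variable {F U V : Type*} [Field F] [AddCommGroup U] [Module F U] [AddCommGroup V] [Module F V]
  {P : QuadraticForm F U} {Q : QuadraticForm F V} [FiniteDimensional F U] [FiniteDimensional F V]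

section One

variable {s s' : End F U →ₐ[F] End F V} {x c : U} {E N : End F V}

theorem co_Cm_mul (hE : E ∈ Cm s) (φ : Dual F U) (z : U) : co s (E * N) φ z = E * co s N φ z := by
  simp only [co_def, Finset.mul_sum, mul_assoc, Cm_r' hE]

theorem co_mem_Cm (h : ∀ a, s' a ∈ Cm s) (hN : N ∈ Cm s') (φ : Dual F U) (z : U) :
    co s N φ z ∈ Cm s' := mem_Cm.2 fun a => co_comm (h a) (mem_Cm.1 hN a) φ z

theorem nn_eq : nn P s x c = s ((polarBilin P c).smulRight x - (polarBilin P x).smulRight c) :=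
  (map_sub s _ _).symm

theorem nn_cancel (hP : Nondeg P) (hx : x ≠ 0) (hc : c ∉ Submodule.span F {x}) (hE : E ∈ Cm s)
    (h : nn P s x c * E = 0) : E = 0 := by
  refine s_mul_eq_zero (fun e => hc ?_) hE (nn_eq (s := s) ▸ h)
  obtain ⟨y, hy⟩ := exists_apply_eq_one (pb_ne hP hx)
  have := LinearMap.congr_fun e y
  simp only [LinearMap.sub_apply, LinearMap.smulRight_apply, hy, one_smul, LinearMap.zero_apply,
    sub_eq_zero] at this
  exact this ▸ Submodule.smul_mem _ _ (Submodule.mem_span_singleton_self _)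

theorem not_mem_of_Q (hx : P x = 0) (hc : P c ≠ 0) : c ∉ Submodule.span F {x} := fun h => by
  obtain ⟨a, rfl⟩ := Submodule.mem_span_singleton.1 h
  simp [Q_smul, hx] at hc

end One

variable {T : Type*} {s : T → End F U →ₐ[F] End F V} [Finite T] [Finite F]
  {H : OT s P Q} {X : Subgroup (V ≃ₗ[F] V)} {i j : T} {x : U} {m : End F V}

theorem two_slot [Nontrivial T] (hT : ¬ ∀ i j : T, ∃ k, k ≠ i ∧ k ≠ j) (j : T) :
    ∃ i, ∀ l, l ≠ i → l = j := by
  push Not at hT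
  obtain ⟨a, b, h⟩ := hT
  by_cases e : j = a
  · exact ⟨b, fun l hl => by by_contra h1; exact hl (h l (e ▸ h1))⟩
  · exact ⟨a, fun l hl => (h l hl).trans (h j e).symm⟩

namespace OW

variable (K : OW H X)
include K

theorem cyc {i j k : T} (hij : i ≠ j) (hik : i ≠ k) (hjk : j ≠ k) :
    ∃ g ∈ X, Nma g (s j) (s i) 1 := by
  obtain ⟨g, h1, h2, -, h3⟩ := H.exists_cycle hij hik hjk (X := O Q) fun _ _ _ => H.swap_mem
  rw [← Subgroup.map_subtype_commutator] at h1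
  obtain ⟨g, h1, rfl⟩ := h1
  exact ⟨g, K.hW g h1 h2, h3⟩

section

variable (hS : ∀ j x, P x = 0 → x ≠ 0 → ∀ β ∈ O Q, (β : End F V) ∈ Cm (s j) → β ∈ Lf (s j) X x →
  β ∈ H.Wr) (hT : ∀ i j : T, ∃ k, k ≠ i ∧ k ≠ j)
include hS hT

theorem z_big (h5 : 5 ≤ finrank F U) {hx : P x = 0} (hx0 : x ≠ 0) (hm : m ∈ Zj (s j) X hx) :
    m = 0 := by
  by_contra h0
  obtain ⟨l, hl, -⟩ := hT j j
  obtain ⟨y, c, T, h1⟩ := exists_tsp_ne H.nP H.h2 h5 fun h => h0 (K.z_third hS hx0 hm hl h)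
  have e1 := K.z_eich hm hl y ((1 : F) • c)
  have e2 := K.z_eich hm hl y ((-1 : F) • c)
  rw [← neg_smul, s_eich T.sy T.orth, s_eich T.sy T.orth] at e1 e2
  have h2 : nn P (s l) y c * nn P (s l) y c = 0 := by
    simpa [T.sc] using nn_sq (s := s l) T.sy T.orth
  generalize nn P (s l) y c = A at *
  have e3 : -(2 : F) • (A * m * A) ∈ Zj (s j) X hx := by
    convert sub_mem (sub_mem (add_mem e1 e2) hm) hm using 1
    simp only [T.sc, conj_exp, neg_zero, zero_smul, zero_mul, mul_zero]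
    module
  exact smul_ne_zero (neg_ne_zero.2 H.h2) h1 (K.z_sq hS hT hx0 e3 (by
    simp [mul_assoc, ← mul_assoc A A, h2]))

theorem z_step (h3 : finrank F U = 3) (hq : 5 ≤ Nat.card F) {hx : P x = 0} (hx0 : x ≠ 0)
    (hm : m ∈ Zj (s j) X hx) (h0 : m ≠ 0) {l : T} (hl : l ≠ j) :
    ∃ y d, P y = 0 ∧ y ≠ 0 ∧ polar P y d = 0 ∧ P d ≠ 0 ∧ co (s l) m (polarBilin P y) d ≠ 0 ∧
      nn P (s l) y d * co (s l) m (polarBilin P y) d ∈ Zj (s j) X hx := by
  obtain ⟨t, ht, ht'⟩ := exists_t hq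
  have k : ∀ y d, P y = 0 → polar P y d = 0 → ∀ M, M = -P d • ee P (s l) y → ∀ a : F,
      (2 * a * a) • (M * m + m * M - nn P (s l) y d * m * nn P (s l) y d) +
        (2 * a * a * a * a) • (M * m * M) ∈ Zj (s j) X hx := fun y d hy hd M hM a => by
    have e1 := K.z_eich hm hl y (a • d)
    have e2 := K.z_eich hm hl y (-a • d)
    rw [← neg_smul, s_eich hy hd, s_eich hy hd, conj_exp, ← hM] at e1 e2
    convert sub_mem (sub_mem (add_mem e1 e2) hm) hm using 1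
    module
  have k4 : ∀ y, P y = 0 → ee P (s l) y * m * ee P (s l) y = 0 := fun y hy => by
    by_cases hy0 : y = 0
    · simp [hy0, ee]
    obtain ⟨y', h⟩ := H.nP.exists_hyp hy hy0
    obtain ⟨d, h1, -, h2⟩ := h.exists_nonsingular H.nP H.h3
    have e := k y d hy (pc h1) _ rfl
    have h4 : (8 * (t - t⁻¹) ^ 2 * P d * P d) • (ee P (s l) y * m * ee P (s l) y) ∈
        Zj (s j) X hx := by
      convert sub_mem (sub_mem (sub_mem (e (t + t⁻¹)) (e t)) (e t⁻¹))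
        (sub_mem (sub_mem (e 2) (e 1)) (e 1)) using 1
      simp only [smul_mul_assoc, mul_smul_comm]
      match_scalars <;> field_simp <;> ring
    have h5 : t - t⁻¹ ≠ 0 := fun e => ht' (by rw [← mul_inv_cancel₀ ht, ← sub_eq_zero.1 e])
    have h6 : (8 : F) ≠ 0 := by
      rw [show (8 : F) = 2 ^ 3 by norm_num]; exact pow_ne_zero _ H.h2
    exact (smul_eq_zero.1 (K.z_sq hS hT hx0 h4 (by simp [mul_assoc, hy]))).resolve_left
      (by simp [h5, h6, h2])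
  obtain ⟨y, d, hy, h1, h2, h4, h5, h6⟩ := exists_d2 H.nP H.h2 h3 ht ht' k4
    fun h => h0 (K.z_third hS hx0 hm hl h)
  refine ⟨y, d, hy, h1, h2, h4, h5, ?_⟩
  have := k y d hy h2 _ rfl 1
  rw [h6, smul_mul_assoc, smul_mul_assoc, mul_smul_comm _ (_ * m), k4 y hy] at this
  simpa [smul_smul, H.h2] using this

theorem z_three (h3 : finrank F U = 3) (hq : 5 ≤ Nat.card F) {hx : P x = 0} (hx0 : x ≠ 0)
    (hm : m ∈ Zj (s j) X hx) : m = 0 := by
  by_contra h0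
  obtain ⟨l, hl, -⟩ := hT j j
  obtain ⟨o, ho, ho'⟩ := hT j l
  obtain ⟨y, d, hy, h1, h2, h4, h5, h6⟩ := K.z_step hS hT h3 hq hx0 hm h0 hl
  obtain ⟨z, c, hz, h7, h8, h9, h10, h11⟩ := K.z_step hS hT h3 hq hx0 h6
    (fun e => h5 (nn_cancel H.nP h1 (not_mem_of_Q hy h4) (co_mem _ _ _) e)) ho
  have a1 : nn P (s l) y d ∈ Cm (s o) := nn_eq (s := s l) ▸ H.comm ho' _
  have h12 := fun e => h10 (nn_cancel H.nP h7 (not_mem_of_Q hz h9) (co_mem _ _ _) e)
  rw [co_Cm_mul a1] at h11 h12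
  have a2 := co_mem (s := s o) (co (s l) m (polarBilin P y) d) (polarBilin P z) c
  have a3 := co_mem_Cm (H.comm ho') (co_mem m (polarBilin P y) d) (polarBilin P z) c
  have a4 := co_mem_Cm (H.comm ho) (co_mem_Cm (H.comm hl) hm.1 (polarBilin P y) d)
    (polarBilin P z) c
  generalize co (s o) (co (s l) m (polarBilin P y) d) (polarBilin P z) c = C at *
  obtain ⟨G, hG⟩ : ∃ G, G = (4 * P d * P c) • (ee P (s o) z * (C * C)) := ⟨_, rfl⟩
  have b1 := H.r_mem ho'.symm z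
  have e1 : nn P (s o) z c * (nn P (s l) y d * C) * (nn P (s o) z c * (nn P (s l) y d * C)) =
      ee P (s l) y * G := by
    simp only [hG, mul_sub, sub_mul, mul_assoc, Cm_r' a2, Cm_r' a3, Cm_r' (b1 _),
      Cm_r' (H.r_mem ho'.symm c _), r_mul', mul_smul_comm, polarBilin_apply_apply, polar_self', hy,
      hz, h2, h8, pc h2, pc h8]
    module
  have e2 : ee P (s l) y * G * (nn P (s o) z c * (nn P (s l) y d * C)) = 0 := by
    simp [hG, mul_sub, sub_mul, mul_assoc, Cm_r' a2, hz, h8]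
  have g1 : G ∈ Cm (s j) := hG ▸ Subalgebra.smul_mem _ (mul_mem (H.r_mem ho.symm _ _) (mul_mem a4 a4)) _
  have g2 : G ∈ Cm (s l) := hG ▸ Subalgebra.smul_mem _ (mul_mem (b1 _) (mul_mem a3 a3)) _
  have g3 : G * G = 0 := by simp [hG, mul_assoc, Cm_r' a2, hz]
  generalize nn P (s o) z c * (nn P (s l) y d * C) = n at *
  obtain ⟨w, hw⟩ := H.nP.exists_hyp hx hx0
  obtain ⟨b, hb, h13⟩ := K.z_move' hx0 h11 hw.hf hw.f_ne
  have e3 : ∀ E, n * (n * (n * E)) = 0 := fun E => by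
    rw [← mul_assoc, ← mul_assoc, e1, e2, zero_mul]
  have e4 := e3 1
  rw [mul_one] at e4
  have h14 : b • (nn P (s j) x w * G) ∈ Zj (s l) X hy := by
    refine ⟨Subalgebra.smul_mem _ (mul_mem (nn_eq (s := s j) ▸ H.comm hl _) g2) _,
      ((h13.2.conj_uni h11.2 ?_).sub h13.2 ?_ ?_).of_eq ?_⟩
    · simp [mul_assoc, Cm_r' h11.1, hx]
    · simp [mul_assoc, mul_sub, add_mul, sub_mul, Cm_r' h11.1, hw.hf, e3, e4]
    · simp [mul_assoc, Cm_r' h11.1, hw.hf]
    · rw [mul_smul_comm _ (ee P (s l) y), ← mul_assoc (ee P (s l) y), nn_eq,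
        ← mem_Cm.1 (H.r_mem hl.symm _ _), mul_assoc (s j _), ← e1, ← nn_eq]
      simp [mul_assoc, mul_sub, add_mul, sub_mul, Cm_r' h11.1, hw.hef, hw.hfe, e4, smul_sub]
      abel
  have h15 := K.z_sq hS hT h1 h14 (by
    rw [smul_mul_smul_comm, mul_assoc, ← mul_assoc G, nn_eq, ← mem_Cm.1 g1, mul_assoc, g3]; simp)
  have h16 := nn_cancel H.nP hx0 (fun h => by
    obtain ⟨a, rfl⟩ := Submodule.mem_span_singleton.1 h
    simpa [hx] using hw.hef) g1 ((smul_eq_zero.1 h15).resolve_left hb)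
  exact h12 (K.z_sq hS hT hx0 h11 (by rw [e1, h16, mul_zero]))

end

theorem noZ (hE : ¬ E Q ≤ X.subgroupOf (O Q)) {hx : P x = 0} (hx0 : x ≠ 0)
    (hm : m ∈ Zj (s j) X hx) : m = 0 := by
  by_contra h0
  have := K.nt
  by_cases hT : ∀ i j : T, ∃ k, k ≠ i ∧ k ≠ j
  swap
  · obtain ⟨i, hi⟩ := two_slot hT j
    refine hE (K.E_le_of_big hx0 hm h0 fun β h1 h2 h3 => ⟨h2, β, ?_, fun _ _ => rfl⟩)
    obtain ⟨a, ha⟩ := H.mem_range (i := i) fun l hl => hi l hl ▸ h2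
    exact K.mem_char h1 (H.mem_Wr_of_eq ha) h3
  by_cases hS : ∀ j x, P x = 0 → x ≠ 0 → ∀ β ∈ O Q, (β : End F V) ∈ Cm (s j) →
      β ∈ Lf (s j) X x → β ∈ H.Wr
  · exact h0 (K.hq.elim (fun h => K.z_three hS hT h.1 h.2 hx0 hm) fun h => K.z_big hS hT h hx0 hm)
  simp only [not_forall] at hS
  obtain ⟨i, y, hy, hy0, β, h1, h2, h3, h4⟩ := hS
  have hB := (K.di i (Lf (s i) X y) fun g hg h => ⟨h, g, hg, fun _ _ => rfl⟩).resolve_left
    fun h => h4 (h β h1 h2 h3)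
  obtain ⟨n, hn, hn0⟩ : ∃ n ∈ Zj (s i) X hx, n ≠ 0 := by
    by_cases e : i = j
    · exact e ▸ ⟨m, hm, h0⟩
    obtain ⟨k, h5, h6⟩ := hT i j
    obtain ⟨g, hg, h7⟩ := K.cyc e h5.symm h6.symm
    exact ⟨_, K.z_conj hm hg h7, conj_ne_zero g h0⟩
  obtain ⟨c, hc, h5⟩ := K.z_move' hx0 hn hy hy0
  exact hE (K.E_le_of_big hy0 h5 (smul_ne_zero hc hn0) hB)

end OW

end CfsgLib.C7O
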