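import Mathlib
import Cfsg.Agent.Lib.C7O.Zz
import Cfsg.Agent.Lib.C7O.Five

/-!
Overgroups of the stabiliser of a tensor power of an orthogonal space: factors of dimension at
least five.
-/

set_option autoImplicit false
set_option linter.unusedSectionVars false

namespace CfsgLib.C7O

open Module CfsgLib.ClMax CfsgLib.ClMax.Ten CfsgLib.OrthE CfsgLib.OMax QuadraticMap CfsgLib.C7

variable {F U V : Type*} [Field F] [AddCommGroup U] [Module F U] [AddCommGroup V] [Module F V]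
  {P : QuadraticForm F U} {Q : QuadraticForm F V} [FiniteDimensional F U] [FiniteDimensional F V]

section One

variable {W W' : Type*} [AddCommGroup W] [Module F W] [AddCommGroup W'] [Module F W']
  {τ : W →ₗ[F] U →ₗ[F] V} {τ' : W' →ₗ[F] U →ₗ[F] V} {h : IsTensorProduct τ}
  {h' : IsTensorProduct τ'} {R : QuadraticForm F W} {R' : QuadraticForm F W'}
  {s s' : End F U →ₐ[F] End F V} {x c : U} [FiniteDimensional F W] [FiniteDimensional F W']

theorem lf_inj (h : IsTensorProduct τ) [Nontrivial U] : Function.Injective (lf h) :=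
  fun a b e => LinearMap.ext fun w => let ⟨v, h0⟩ := exists_ne (0 : U)
    left_inj h h0 (by simpa using LinearMap.congr_fun e (τ w v))

theorem rank_eq (h : IsTensorProduct τ) (h' : IsTensorProduct τ') [Nontrivial U] :
    finrank F W = finrank F W' :=
  mul_right_cancel₀ finrank_pos.ne' ((finrank_eq h).symm.trans (finrank_eq h'))

theorem Sl.nm_of_ex (S : Sl s P Q h R) (S' : Sl s' P Q h' R') [Nontrivial W] {g : V ≃ₗ[F] V}
    {α : W ≃ₗ[F] W'} (e : ∀ z, ∃ z', ∀ u, g (τ u z) = τ' (α u) z') : Nm g s s' := by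
  obtain ⟨w, hw⟩ := exists_ne (0 : W)
  have h1 : α w ≠ 0 := by simpa using hw
  obtain ⟨β, hβ⟩ := exists_equiv2 (Ten.flip h) (Ten.flip h') rfl hw h1 (g := g)
    fun z => let ⟨z', hz⟩ := e z; ⟨z', hz w⟩
  refine S.nm_of S' (α := α) (β := β) fun u z => ?_
  obtain ⟨z', hz⟩ := e z
  rw [hz, right_inj h' h1 ((hz w).symm.trans (hβ z))]

theorem Sl.aN_eq (S : Sl s P Q h R) (y c : U) : aN h P y c = nn P s y c :=
  LinearMap.ext fun v => by simp [aN_apply, S.r_tau, cP]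

theorem nn_not_mem [Nontrivial V] (hP : Nondeg P) {y c : U} (T : TSP P y c) : nn P s y c ∉ Cm s :=
  fun h => by
    obtain ⟨θ, h1, h2⟩ := exists_dual_one_zero (not_mem_span_symm' (fun e => T.nmem (by simp [e]))
      (not_mem_span_symm' T.ne T.nmem))
    have := Cm_r h c θ
    simp [mul_sub, sub_mul, T.sc, T.orth, h1, h2] at this
    exact r_ne_zero (fun e => T.nmem (by simp [e])) (pb_ne hP T.ne) this

end One

variable {T : Type*} {s : T → End F U →ₐ[F] End F V} [Finite T]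

theorem nm_of_comm (H : TP s) {g : V ≃ₗ[F] V} (hg : g ∈ H.Wr) {l : T} {b : End F U}
    (e : g * s l b = s l b * g) (hb : s l b ∉ Cm (s l)) : Nm g (s l) (s l) := by
  obtain ⟨j, hj⟩ := hg l
  obtain ⟨b', h1⟩ := hj b
  by_cases h2 : l = j
  · exact h2 ▸ hj
  refine (hb ?_).elim
  have h3 := congrArg (· * ((g⁻¹ : V ≃ₗ[F] V) : End F V)) (e.symm.trans h1)
  simp only [mul_assoc, coe_mul_inv, mul_one] at h3
  exact h3 ▸ H.comm h2 b'

variable [Finite F] {H : OT s P Q} {X : Subgroup (V ≃ₗ[F] V)} {i j : T} {x : U} {m : End F V}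

theorem OT.uni_mem (H : OT s P Q) {o o' : T} (ho : o ≠ o') {x : U} (hx : P x = 0) (y z : U) :
    ∃ h, uni (ee P (s o) x * nn P (s o') y z) h ∈ O Q := by
  have h1 : nn P (s o') y z ∈ Cm (s o) := nn_eq (s := s o') ▸ H.comm ho _
  refine ⟨by simp [mul_assoc, Cm_r' h1, hx], mem_O_of_polar H.h2 fun v w => ?_⟩
  have h2 : ∀ v w, polar Q (nn P (s o') y z v) w = -polar Q v (nn P (s o') y z w) := fun v w => by
    simp [H.adj_r]
  generalize nn P (s o') y z = N at *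
  simp [uni_apply, H.adj_r, h2, Cm_r_apply h1, hx]

namespace OW

variable (K : OW H X) (hE : ¬ E Q ≤ X.subgroupOf (O Q))
include K hE

theorem exists_oq (i : T) : ∃ (W : Submodule F V) (τ : W →ₗ[F] U →ₗ[F] V) (h : IsTensorProduct τ)
    (R : QuadraticForm F W), Sl (s i) P Q h R ∧ OQ R P Q h X := by
  obtain ⟨W, τ, h, R, S, B⟩ := K.exists_ob i
  have := H.ntU
  refine ⟨W, τ, h, R, S, OZ.oq ⟨B, fun x hx hx0 m hm => lf_inj h ?_⟩ (K.hq.imp_left And.left)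
    fun G h1 h2 a ha => ?_⟩
  · rw [map_zero]
    exact K.noZ hE hx0 (hx := hx) ⟨S.lf_mem m, hm.of_eq (ext h fun w z => by simp [S.r_tau])⟩
  obtain ⟨c, hc⟩ := H.cl (K.hq.imp_left fun e => exists_t e.2) (i := i) (G := lf h '' G)
    (by rintro _ ⟨a, -, rfl⟩; exact S.lf_mem a)
    (by rintro _ ⟨a, ha, rfl⟩ _ ⟨b, hb, rfl⟩; rw [← map_mul, h1 a ha b hb, map_mul])
    (by
      rintro l hl x c - - _ ⟨a, ha, rfl⟩
      obtain ⟨α, hα⟩ := S.eq_lhom (H.sh_mem l (eich P x c)) (H.comm hl.symm _)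
      refine ⟨_, h2 a ha _ (K.sh_mem l (eich_mem_E x c)) α.1 fun u w => hα ▸ S.lhom_apply .., ?_⟩
      rw [eich_neg, Subgroup.coe_inv, ← sh_coe, ← sh_coe, map_inv, hα, ← Subgroup.coe_inv,
        ← map_inv, S.lhom_eq, S.lhom_eq, ← map_mul, ← map_mul]
      rfl) ⟨a, ha, rfl⟩
  exact ⟨c, LinearMap.congr_fun (lf_inj h (hc.trans (by simp)) : a = c • 1)⟩

theorem cm_le {g : V ≃ₗ[F] V} (hg : g ∈ X) (h : (g : End F V) ∈ Cm (s j)) : g ∈ H.Wr := by
  have := K.nt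
  by_cases hT : ∀ i j : T, ∃ k, k ≠ i ∧ k ≠ j
  swap
  · obtain ⟨i, hi⟩ := two_slot hT j
    obtain ⟨a, ha⟩ := H.mem_range (i := i) fun l hl => hi l hl ▸ h
    exact H.mem_Wr_of_eq ha
  refine (K.di j X fun _ h _ => h).elim (fun h1 => h1 g (K.hX hg) h hg) fun h1 => False.elim ?_
  obtain ⟨o, ho, -⟩ := hT j j
  obtain ⟨l, hl, hl'⟩ := hT j o
  obtain ⟨x, y, hx⟩ := H.nP.exists_hyp_of_three H.h3
  obtain ⟨h2, h3⟩ := H.uni_mem hl' hx.he x y
  have h4 := K.noZ hE hx.e_ne (hx := hx.he) (j := l) ⟨nn_eq (s := s o) ▸ H.comm hl' _, _,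
    h1 _ h3 (add_mem (one_mem _) (mul_mem (H.r_mem hl.symm _ _)
      (nn_eq (s := s o) ▸ H.comm ho.symm _))) (uni_pow h2), uni_coe _ _⟩
  have := H.nt
  exact one_ne_zero (nn_cancel H.nP hx.e_ne (fun h => by
    obtain ⟨a, rfl⟩ := Submodule.mem_span_singleton.1 h
    simpa [hx.he] using hx.hef) (one_mem _) ((mul_one _).trans h4))

theorem mem_of_nm {g : V ≃ₗ[F] V} (hg : g ∈ X) (h : Nm g (s i) (s j))
    (rig : ∀ l, ∃ t ∈ X, (∃ b, (t : End F V) = s l b) ∧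
      (g * t * g⁻¹ ∈ H.Wr → ∃ a, Nm g (s l) (s a))) : g ∈ H.Wr := fun l => by
  have := H.nt
  have := H.ntU
  by_cases e : l = i
  · exact ⟨j, e ▸ h⟩
  obtain ⟨t, ht, ⟨b, hb⟩, h1⟩ := rig l
  exact h1 (K.cm_le hE (mul_mem (mul_mem hg ht) (inv_mem hg)) (h.conj_Cm
    (hb ▸ H.comm (Ne.symm e) b) (by simp [mul_assoc, coe_inv_mul])))

variable (h5 : 5 ≤ finrank F U)
include h5

theorem rig_big {y c : U} (T : TSP P y c) {l} {g : V ≃ₗ[F] V} (hg : g ∈ X)
    (h : g * sh (s l) (eich P y c).1 * g⁻¹ ∈ H.Wr) : ∃ a, Nm g (s l) (s a) := by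
  have := H.nt
  have := H.ntU
  have e : s l (eich P y c).1 = 1 + nn P (s l) y c := by
    simpa [T.sc] using s_eich (s := s l) T.sy T.orth 1
  obtain ⟨a, b, h1⟩ := H.rec_odd H.h2 h (coe_conj g e)
    (conj_sq g (by simpa [T.sc] using nn_sq (s := s l) T.sy T.orth))
    (conj_ne_zero g fun e => nn_not_mem H.nP T (e ▸ zero_mem _))
  obtain ⟨W, τ, h, R, S, B⟩ := K.exists_oq hE a
  obtain ⟨W', τ', h', R', S', B'⟩ := K.exists_oq hE l
  obtain ⟨α, hα⟩ := B.map_of_right B' h5 h5 (rank_eq h' h) T (inv_mem hg) (C := b) fun u w => by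
    rw [← S.act, ← h1, S'.aN_eq]; simp
  have : Nontrivial W' := nontrivial_of_finrank_pos (R := F) (by have := B'.ha; omega)
  exact ⟨a, S'.nm_of_ex S hα⟩

theorem mem_big {g : V ≃ₗ[F] V} (hg : g ∈ X) (h : Nm g (s i) (s j)) : g ∈ H.Wr := by
  obtain ⟨x, y, hx⟩ := H.nP.exists_hyp_of_three H.h3
  obtain ⟨c, T⟩ := exists_tsp H.nP h5 hx.he hx.e_ne
  exact K.mem_of_nm hE hg h fun l =>
    ⟨_, K.sh_mem l (eich_mem_E x c), ⟨_, sh_coe _ _⟩, K.rig_big hE h5 T hg⟩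

theorem le_big : X ≤ H.Wr := by
  have := K.nt
  have := H.nt
  have := H.ntU
  obtain ⟨W, τ, h, R, S, B⟩ := K.exists_oq hE (Classical.arbitrary T)
  refine B.le_of_rig h5 (fun k hk ⟨α, β, e⟩ => K.mem_big hE h5 hk (S.nm_of S e))
    (fun T k hk e => ?_) fun T g hg e => S.mem_Kron (nm_of_comm H.toTP hg
      (nn_eq (s := s _) ▸ S.aN_eq _ _ ▸ LinearMap.ext e) (nn_eq (s := s _) ▸ nn_not_mem H.nP T))
  obtain ⟨a, ha⟩ := K.rig_big hE h5 T (inv_mem hk) (by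
    rwa [inv_inv, ← LinearEquiv.toLinearMap_injective ((S.rhom_eq _).trans (sh_coe _ _).symm)])
  exact inv_mem_iff.1 (K.mem_big hE h5 (inv_mem hk) ha)

end OW

end CfsgLib.C7O
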