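import Mathlib
import Cfsg.Agent.Lib.C7O.Oq

/-!
Overgroups of the stabiliser of a tensor power of `O₃`: the maps induced on `x ⊗ W`.
-/

set_option autoImplicit false
set_option linter.unusedSectionVars false

namespace CfsgLib.C7O

open Module CfsgLib.ClMax CfsgLib.ClMax.Ten CfsgLib.OrthE CfsgLib.OMax QuadraticMap CfsgLib.C7

variable {F U V : Type*} [Field F] [AddCommGroup U] [Module F U] [AddCommGroup V] [Module F V]
  {P : QuadraticForm F U} {Q : QuadraticForm F V} [FiniteDimensional F U] [FiniteDimensional F V]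
  {X : Subgroup (V ≃ₗ[F] V)}

section One

variable {W : Type*} [AddCommGroup W] [Module F W] {τ : W →ₗ[F] U →ₗ[F] V} {h : IsTensorProduct τ}
  {R : QuadraticForm F W} [FiniteDimensional F W] {x x' d : U}

theorem ker_three (H : TenO R P Q h) (h3 : finrank F U = 3) (hx : Hyp P x x')
    (h1 : polar P d x = 0) (h4 : polar P d x' = 0) (hd : P d ≠ 0) {v : V} (hv : cP h P x v = 0) :
    ∃ a b, v = τ a x + τ b d := by
  have h2 := H.two
  refine ⟨cP h P x' v, (2 * P d)⁻¹ • cP h P d v, ?_⟩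
  have := LinearMap.congr_fun (ext h (f := LinearMap.id) (g := τ.flip x ∘ₗ cP h P x' +
    τ.flip d ∘ₗ ((2 * P d)⁻¹ • cP h P d) + τ.flip x' ∘ₗ cP h P x) fun u z => by
      obtain ⟨a, b, c, rfl⟩ := span_three H.n₂ h2 h3 hx h1 h4 hd z
      simp [hx.he, hx.hf, hx.hef, hx.hfe, h1, h4, pc h1, pc h4, smul_smul]
      match_scalars <;> field_simp) v
  simpa [hv] using this

theorem tor_mem_E [Finite F] (hP : Nondeg P) (h3 : 3 ≤ finrank F U) (hx : Hyp P x x') {t : F}
    (ht : t ≠ 0) : tor P x x' (t * t) ∈ E P :=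
  refl_mem_E hP h3 (t := t⁻¹) (by simp [hx.Q_add_smul, ht]) (inv_ne_zero ht)
    (by simp only [hx.Q_add_smul]; field_simp)

theorem OQ.lift [Finite F] (H : OQ R P Q h X) (h3 : finrank F U = 3) {t : F} (ht : t ≠ 0)
    (ht' : t * t ≠ 1) (hx : Hyp P x x') {g : V ≃ₗ[F] V} (hg : g ∈ X) {α : O R}
    (e : ∀ u, g (τ u x) = τ (α.1 u) x) :
    ∃ n ∈ X, ∀ v, cP h P x v = 0 → n v = (H.flip.rhom (α * α)).1 v := by
  obtain ⟨d, h1, h4, hd⟩ := hx.exists_nonsingular H.n₂ H.hb
  obtain ⟨-, -, -, h5⟩ := H.exists_rel H hx.he hx.e_ne hx.he hx.e_ne hg e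
  obtain ⟨c, h6, h7⟩ := h5 d (pc h1)
  choose f hf using h7
  obtain ⟨a, b, l, rfl⟩ := span_three H.n₂ H.two h3 hx h1 h4 hd c
  obtain rfl : b = 0 := by simpa [hx.he, hx.hef, pc h1] using h6
  have h8 : l * l = 1 := by
    obtain ⟨u, -, hu⟩ := exists_nonsing H.n₁ (S := ⊤) (by have := H.ha; simp; omega)
    have := H.pol hg (τ u d) (τ u d)
    simp only [hf, map_add, map_smul, polar_add_left, polar_add_right, polar_smul_left,
      polar_smul_right, H.eq, hx.hee, h1, pc h1, O_polar, smul_eq_mul] at this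
    exact mul_right_cancel₀ (mul_ne_zero (polar_self_ne H.two hu) (polar_self_ne H.two hd))
      (by linear_combination this)
  obtain ⟨f, hf⟩ : ∃ f : W → W, ∀ u, (g * g) (τ u d) = τ ((α * α).1 u) d + τ (f u) x :=
    ⟨fun u => (a + l * a) • α.1 (α.1 u) + l • f (α.1 u) + α.1 (f u), fun u => by
      simp only [LinearEquiv.mul_apply, hf, map_add, map_smul, e, zero_smul, add_zero,
        LinearMap.add_apply, LinearMap.smul_apply, O_mul_apply]
      linear_combination (norm := module) h8 • τ (α.1 (α.1 u)) d⟩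
  have e' : ∀ u, (g * g) (τ u x) = τ ((α * α).1 u) x := fun u => by simp [e]
  have hk := mul_mem hg hg
  generalize g * g = k, α * α = γ at *
  have h9 := H.right (tor_mem_E H.n₂ H.hb hx ht)
  have h10 : ∀ u, (H.rhom (tor P x x' (t * t))).1 (τ u x) = (t * t) • τ u x := fun u => by
    simp [H.rhom_apply, hx.tor_e (mul_ne_zero ht ht)]
  have h11 : ∀ u, (H.rhom (tor P x x' (t * t))).1 (τ u d) = τ u d := fun u => by
    rw [H.rhom_apply, tor_orth h1 h4]
  generalize (H.rhom (tor P x x' (t * t))).1 = y at *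
  have h10' : ∀ u, y⁻¹ (τ u x) = (t * t)⁻¹ • τ u x := fun u => y.injective (by
    rw [apply_inv_apply, map_smul, h10, inv_smul_smul₀ (mul_ne_zero ht ht)])
  have h11' : ∀ u, y⁻¹ (τ u d) = τ u d := fun u => y.injective (by rw [apply_inv_apply, h11])
  have h12 : ∀ u, (k⁻¹ * y * k * y⁻¹) (τ u x) = τ u x := fun u => k.injective (by
    simp only [LinearEquiv.mul_apply, apply_inv_apply, h10', map_smul, e', h10,
      inv_smul_smul₀ (mul_ne_zero ht ht)])
  have h13 : ∀ u, (k⁻¹ * y * k * y⁻¹) (τ u d) = τ u d + (t * t - 1) • τ (γ⁻¹.1 (f u)) x := fun u =>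
    k.injective (by
      simp only [LinearEquiv.mul_apply, h11', apply_inv_apply, hf, map_add, map_smul, e',
        h10, h11, O_apply_inv_apply]
      module)
  obtain ⟨c, h14, h15⟩ := H.eq_eich hx.he hx.e_ne (t := k⁻¹ * y * k * y⁻¹)
    ⟨mul_mem (mul_mem (mul_mem (inv_mem hk) h9) hk) (inv_mem h9), h12, fun v hv => by
      obtain ⟨a, b, rfl⟩ := ker_three H.toTenO h3 hx h1 h4 hd hv
      exact ⟨(t * t - 1) • γ⁻¹.1 (f b), by simp only [map_add, h12, h13, map_smul,
        LinearMap.smul_apply, add_assoc]⟩⟩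
  have h16 := sub_ne_zero.2 ht'
  refine ⟨_, mul_mem hk (H.right (eich_mem_E x (-(t * t - 1)⁻¹ • c))), fun v hv => ?_⟩
  obtain ⟨a, b, rfl⟩ := ker_three H.toTenO h3 hx h1 h4 hd hv
  have h17 := congrArg k (h13 b)
  simp only [h15, H.rhom_apply, eich_ap hx.he h14, pc h1, map_add, map_sub, map_smul, e',
    O_apply_inv_apply, mul_zero, sub_zero, zero_smul, add_right_inj] at h17
  simp only [LinearEquiv.mul_apply, map_add, H.rhom_apply, H.lhom_apply, eich_apply_self, e',
    eich_ap hx.he (show polar P x (-(t * t - 1)⁻¹ • c) = 0 by simp [h14]), pc h1, map_sub, map_smul,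
    hf, polar_smul_left, smul_eq_mul, pc h14, hx.hee]
  linear_combination (norm := module) -(t * t - 1)⁻¹ • h17 - mul_inv_cancel₀ h16 • τ (f b) x

theorem exists_six [Finite F] (hP : Nondeg P) (h2 : (2 : F) ≠ 0) (h3 : 3 ≤ finrank F U)
    (hq : 5 ≤ Nat.card F) : ∃ (a t : F) (u v y z : U), a ≠ 0 ∧ t ≠ 0 ∧ P u = 1 ∧
      P v = t * t * a ∧ y ≠ 0 ∧ z ∉ Submodule.span F {y} ∧ ∀ (s : End F U →ₐ[F] End F V) η,
        η = s (refl P v * refl P u).1 → η * nn P s y z = nn P s y z * η ∧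
          ∀ D, (a * a) • (η * D) = D * η → D = 0 := by
  obtain ⟨x, x', hx⟩ := hP.exists_hyp_of_three h3
  have hu := hx.Q_add_smul 1
  by_cases h5 : (5 : F) = 0
  · obtain ⟨v, -, h6, h7⟩ := exists_norm_polar hP h2 (nd_top hP) (by simpa) trivial
      (hu ▸ one_ne_zero) 2 1
    generalize x' + (1 : F) • x = u at *
    have h8 : (2 : F)⁻¹ = 3 := inv_eq_of_mul_eq_one_right (by linear_combination h5)
    refine ⟨2, 1, u, v, u, v, h2, one_ne_zero, hu, by simp [h6], ne_zero_of_Q (hu ▸ one_ne_zero),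
      fun h => ?_, fun s η e => ⟨?_, fun D h => ?_⟩⟩
    · obtain ⟨c, rfl⟩ := Submodule.mem_span_singleton.1 h
      simp only [Q_smul, polar_smul_right, polar_self', hu, smul_eq_mul] at h6 h7
      exact h2 (by linear_combination (2 * c + 1) * h7 - 4 * h6 - h5)
    · rw [e, nn_eq, ← map_mul, ← map_mul]
      congr 1; ext w
      simp [refl_ap, hu, h6, h7, h8, polar_comm P v u]
      match_scalars <;> grind
    have h9 : η * (η * η) = (2 : F) • (η * η) - (2 : F) • η + 1 := by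
      rw [e, ← map_mul, ← map_mul, ← map_smul, ← map_smul, ← map_sub, ← map_one s, ← map_add]
      congr 1; ext w
      simp [refl_ap, hu, h6, h7, h8, polar_comm P v u]
      match_scalars <;> grind
    have k1 : D * η = -(η * D) := by linear_combination (norm := module) -h + h5 • (η * D)
    have k2 := congrArg (· * D) h9
    have k3 := congrArg (D * ·) h9
    simp only [mul_add, mul_sub, add_mul, sub_mul, mul_smul_comm, smul_mul_assoc, mul_one, one_mul,
      ← mul_assoc D, k1, neg_mul, mul_neg, mul_assoc] at k2 k3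
    have k4 : η * (η * D) = (2 : F) • D := by
      linear_combination (norm := module) k2 + k3 + h5 • (η * (η * D))
    have k5 : η * D = 0 := by
      rw [k4, mul_smul_comm] at k2
      linear_combination (norm := module) -k2 + h5 • (η * D) - h5 • D
    rw [k5, mul_zero] at k4
    exact (smul_eq_zero.1 k4.symm).resolve_left h2
  obtain ⟨t, ht, ht'⟩ : ∃ t : F, t ≠ 0 ∧ t * t * (t * t) ≠ 1 := by
    obtain ⟨t, ht, ht'⟩ := exists_t hq
    by_cases h6 : t * t * (t * t) = 1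
    · have h7 := (mul_self_eq_one_iff.1 h6).resolve_left ht'
      exact ⟨t + 1, fun e => ht' (by rw [eq_neg_of_add_eq_zero_left e]; ring),
        fun e => h5 (by linear_combination -e + (t * t + 4 * t + 5) * h7)⟩
    · exact ⟨t, ht, h6⟩
  refine ⟨t * t, t⁻¹, _, _, x, x', mul_ne_zero ht ht, inv_ne_zero ht, hu, by rw [hu]; field_simp,
    hx.e_ne, fun h => ?_, fun s η e => ?_⟩
  · obtain ⟨a, rfl⟩ := Submodule.mem_span_singleton.1 h
    simpa [hx.he] using hx.hef
  obtain rfl : η = 1 := by rw [e, refl_mul_self]; exact map_one s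
  exact ⟨by simp, fun D h => (smul_eq_zero.1 (by linear_combination (norm := module) h :
    (t * t * (t * t) - 1) • D = 0)).resolve_left (sub_ne_zero.2 ht')⟩

theorem nma_one {s s' : End F U →ₐ[F] End F V} {g : V ≃ₗ[F] V} (h : Nma g s s' 1) (a : End F U) :
    g * s a = s' a * g := by
  rw [eq_sum_r, eq_sum_r (s := s'), Finset.mul_sum, Finset.sum_mul]
  exact Finset.sum_congr rfl fun i _ => h _ _

end One

variable {T : Type*} {s : T → End F U →ₐ[F] End F V} [Finite T] [Finite F] {H : OT s P Q}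
  {i j : T} {x : U}

namespace OW

variable (K : OW H X)
include K

theorem pair (hij : i ≠ j) {a b : U} (ha : P a ≠ 0) {t : F} (ht : t ≠ 0) (h : P b = t * t * P a) :
    sh (s i) (refl P a).1 * sh (s j) (refl P b).1 ∈ X := by
  obtain ⟨σ, hσ⟩ := H.exists_swap hij
  have h1 : σ * sh (s i) (refl P a).1 * σ⁻¹ = sh (s j) (refl P a).1 :=
    mul_inv_eq_iff_eq_mul.2 (LinearEquiv.toLinearMap_injective (nma_one hσ.ab _))
  have h2 := K.hW _ (Subgroup.commutator_mem_commutator (Subgroup.mem_top ⟨_, H.sh_mem i (refl P a)⁻¹⟩)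
    (Subgroup.mem_top ⟨σ, H.swap_mem hij hσ⟩))
  have h3 : (refl P a)⁻¹ = refl P a := inv_eq_of_mul_eq_one_right (refl_mul_self _)
  simp only [commutatorElement_def, Subgroup.coe_mul, Subgroup.coe_inv, ← map_inv, inv_inv,
    mul_assoc] at h2
  rw [← mul_assoc σ, h1, ← Subgroup.coe_inv, h3] at h2
  convert mul_mem (h2 (mul_mem (H.mem_Wr_of_eq (sh_coe _ _)) (H.mem_Wr_of_eq (sh_coe _ _))))
    (K.sh_mem j (refl_mem_E H.nP H.h3 ha ht h)) using 1
  rw [mul_assoc, ← map_mul, ← Subgroup.coe_mul, ← mul_assoc, refl_mul_self, one_mul]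

variable (hE : ¬ E Q ≤ X.subgroupOf (O Q))
include hE

theorem eq_of_fix (hx : P x = 0) (hx0 : x ≠ 0) {g k : V ≃ₗ[F] V} (hg : g ∈ X) (hk : k ∈ X)
    (hf : ∀ v, ee P (s i) x v = 0 → g v = k v) : g = k :=
  let ⟨_, _, _, _, S, B⟩ := K.exists_oq hE i
  B.eq_of_fix hx hx0 hg hk fun v hv => hf v ((S.cP_iff hx0).1 hv)

theorem small (h3 : finrank F U = 3) (hx : P x = 0) (hx0 : x ≠ 0) {β : V ≃ₗ[F] V} (h1 : β ∈ O Q)
    (h2 : (β : End F V) ∈ Cm (s j)) (h4 : β ∈ Lf (s j) X x) : β ∈ H.Wr := by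
  have := K.nt
  have := H.nt
  have := H.ntU
  by_cases hT : ∀ i j : T, ∃ k, k ≠ i ∧ k ≠ j
  swap
  · obtain ⟨i, hi⟩ := two_slot hT j
    obtain ⟨a, ha⟩ := H.mem_range (i := i) fun l hl => hi l hl ▸ h2
    exact H.mem_Wr_of_eq ha
  refine (K.di j (Lf (s j) X x) fun g hg h => ⟨h, g, hg, fun _ _ => rfl⟩).elim
    (fun h => h β h1 h2 h4) fun hB => False.elim ?_
  clear h1 h2 h4 β
  have hq := (K.hq.resolve_right (by omega)).2
  obtain ⟨o, ho, -⟩ := hT j j
  obtain ⟨l, hl, hl'⟩ := hT j o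
  obtain ⟨a, t, u, v, y, z, ha, ht, hu, hv, hy, hz, h5⟩ :=
    exists_six (V := V) H.nP H.h2 H.h3 hq
  obtain ⟨h6, h7⟩ := h5 (s o) _ rfl
  obtain ⟨h8, h9⟩ := H.uni_mem hl' hx y z
  have c1 : nn P (s o) y z ∈ Cm (s l) := nn_eq (s := s o) ▸ H.comm hl' _
  have h10 : (uni _ h8 : End F V) ∈ Cm (s j) := add_mem (one_mem _) (mul_mem (H.r_mem hl.symm _ _)
    (nn_eq (s := s o) ▸ H.comm ho.symm _))
  obtain ⟨-, g, hg, e⟩ := hB _ h9 h10 (uni_pow h8)
  obtain ⟨W, τ, h, R, S, B⟩ := K.exists_oq hE j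
  obtain ⟨α, hα⟩ := S.eq_lhom h9 h10
  obtain ⟨x', hx'⟩ := H.nP.exists_hyp hx hx0
  obtain ⟨t', ht', ht''⟩ := exists_t hq
  obtain ⟨n, hn, e'⟩ := B.lift h3 ht' ht'' hx' hg (α := α) fun u => by
    rw [e _ (S.tau_mem u x), hα, S.lhom_apply]
  rw [map_mul, Subgroup.coe_mul, ← hα] at e'
  obtain ⟨β, hβ⟩ : ∃ β, β = uni _ h8 * uni _ h8 := ⟨_, rfl⟩
  replace e' : ∀ v, ee P (s j) x v = 0 → n v = β v := fun v hv => hβ ▸ e' v ((S.cP_iff hx0).2 hv)
  have b1 : β ∈ O Q := hβ ▸ mul_mem h9 h9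
  have b2 : (β : End F V) ∈ Cm (s j) := hβ ▸ mul_mem h10 h10
  have b3 : (β : End F V) = 1 + ee P (s l) x * ((2 : F) • nn P (s o) y z) := by
    rw [hβ, LinearEquiv.coe_toLinearMap_mul, uni_coe, add_mul, mul_add, mul_add, h8]
    simp [two_smul, mul_add, add_assoc]
  have hw := mul_mem (K.pair ho.symm (a := x' + a • x) (b := v) (by rwa [hx'.Q_add_smul]) ht
    (by rwa [hx'.Q_add_smul])) (K.pair ho.symm (a := x' + (1 : F) • x) (b := u)
      (by simp [hx'.Q_add_smul, -one_smul]) one_ne_zero (by simp [hx'.Q_add_smul, hu, -one_smul]))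
  obtain ⟨η, hη⟩ : ∃ η, η = s o (refl P v * refl P u).1 := ⟨_, rfl⟩
  obtain ⟨w, hw, w1⟩ : ∃ w ∈ X, (w : End F V) = s j (tor P x x' a).1 * η := ⟨_, hw, by
    simp only [hη, tor, LinearEquiv.coe_toLinearMap_mul, sh_coe, Subgroup.coe_mul, map_mul,
      mul_assoc]
    rw [← mul_assoc (s o _), ← mem_Cm.1 (H.comm ho.symm _), mul_assoc]⟩
  rw [← hη] at h6 h7
  have c2 : η ∈ Cm (s j) := hη ▸ H.comm ho.symm _
  have w2 : w * β = β * w := LinearEquiv.toLinearMap_injective (by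
    simp only [LinearEquiv.coe_toLinearMap_mul, w1]
    rw [← mul_assoc, ← mem_Cm.1 b2, mul_assoc, mul_assoc, b3]
    simp only [mul_add, add_mul, mul_one, one_mul, Cm_r' (hη ▸ H.comm hl' _ : η ∈ Cm (s l)),
      mul_assoc, mul_smul_comm, smul_mul_assoc, h6])
  have w3 : polarBilin P x ∘ₗ ((tor P x x' a).1 : End F U) = a⁻¹ • polarBilin P x :=
    LinearMap.ext fun v => by
      have := O_polar (tor P x x' a) x v
      rw [hx'.tor_e ha, polar_smul_left] at this
      simp [← this, ha]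
  have w4 : ∀ c, r (s j) c (polarBilin P x) * w = a⁻¹ • (r (s j) c (polarBilin P x) * η) :=
    fun c => by rw [w1, ← mul_assoc, r_mul_s, w3, map_smul, smul_mul_assoc]
  have w5 : n * w = w * n := K.eq_of_fix hE hx hx0 (mul_mem hn hw) (mul_mem hw hn) (i := j)
    fun v hv => by
      rw [LinearEquiv.mul_apply, e' (w v) ((LinearMap.congr_fun (w4 x) v).trans (by
        simp [← Cm_r_apply c2, hv])), ← LinearEquiv.mul_apply, ← w2, LinearEquiv.mul_apply,
        ← e' v hv, LinearEquiv.mul_apply]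
  obtain ⟨D, hD⟩ : ∃ D : End F V, D = n - β := ⟨_, rfl⟩
  have k : ∀ v, ee P (s j) x (v - r (s j) x' (polarBilin P x) v) = 0 := fun v => by
    simp [hx'.hef]
  have d1 : D * r (s j) x' (polarBilin P x) = D := LinearMap.ext fun v => by
    have := e' _ (k v)
    simp only [map_sub] at this
    simp only [hD, End.mul_apply, LinearMap.sub_apply, LinearEquiv.coe_coe]
    linear_combination (norm := module) -this
  have d2 : r (s j) x (polarBilin P x') * D = D := LinearMap.ext fun v => polar_ext H.nQ fun c => by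
    have h11 := k c
    rw [polar_comm, End.mul_apply, H.adj_r, polar_comm Q c, eq_comm, ← sub_eq_zero, ← polar_sub_right]
    generalize c - _ = c at h11
    obtain ⟨c, rfl⟩ := β.surjective c
    have h12 := e' c (β.injective (((Cm_r_apply b2 ..).trans h11).trans (map_zero _).symm))
    rw [hD, LinearMap.sub_apply, polar_sub_left, LinearEquiv.coe_coe, LinearEquiv.coe_coe,
      O_polar ⟨β, b1⟩, ← h12, O_polar ⟨n, K.hX hn⟩, sub_self]
  have d3 : w * D = D * w := by
    simp only [hD, mul_sub, sub_mul, ← LinearEquiv.coe_toLinearMap_mul, w2, w5]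
  have d4 := h7 D (by
    rw [← d1, mul_assoc D, w4, mul_smul_comm, ← mul_assoc D, d1, ← d2, w1, mul_assoc,
      Cm_r' c2, ← mul_assoc, s_mul_r, LinearEquiv.coe_coe, hx'.tor_e ha, map_smul,
      LinearMap.smul_apply, smul_mul_assoc, ← Cm_r' c2, d2, eq_inv_smul_iff₀ ha, smul_smul] at d3
    exact d3)
  have h11 := K.noZ hE hx0 (hx := hx) (j := l) ⟨Subalgebra.smul_mem _ c1 _, n, hn,
    (sub_eq_zero.1 (hD.symm.trans d4)).trans b3⟩
  exact one_ne_zero (nn_cancel H.nP hy hz (one_mem _)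
    ((mul_one _).trans ((smul_eq_zero.1 h11).resolve_left H.h2)))

end OW

end CfsgLib.C7O
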