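import Mathlib
import Cfsg.Agent.Lib.C7O.Lb
import Cfsg.Agent.Lib.C7.TwoR

/-!
Overgroups of the stabiliser of a tensor power of `O₃`: the subspaces `v ⊗ W`, `v` nonsingular.
-/

set_option autoImplicit false
set_option linter.unusedSectionVars false

namespace CfsgLib.C7O

open Module CfsgLib.ClMax CfsgLib.ClMax.Ten CfsgLib.OrthE CfsgLib.OMax QuadraticMap CfsgLib.C7

variable {F U V : Type*} [Field F] [AddCommGroup U] [Module F U] [AddCommGroup V] [Module F V]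
  {P : QuadraticForm F U} {Q : QuadraticForm F V} [FiniteDimensional F U] [FiniteDimensional F V]
  {X : Subgroup (V ≃ₗ[F] V)}

section One

variable {W : Type*} [AddCommGroup W] [Module F W] {τ : W →ₗ[F] U →ₗ[F] V} {h : IsTensorProduct τ}
  {R : QuadraticForm F W} [FiniteDimensional F W] {x w : U} {s s' : End F U →ₐ[F] End F V}

theorem OQ.eq_one [Finite F] (H : OQ R P Q h X) (hx : P x = 0) (hx0 : x ≠ 0) {v : W} (hv : v ≠ 0)
    {k : V ≃ₗ[F] V} (hk : k ∈ X) (h1 : ∀ u, k (τ u x) = τ u x)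
    (h2 : ∀ z, polar P x z = 0 → k (τ v z) = τ v z) : k = 1 := by
  obtain ⟨μ, -, -, h5⟩ := H.exists_rel H hx hx0 hx hx0 hk (α := 1) h1
  obtain ⟨x', hx'⟩ := H.n₂.exists_hyp hx hx0
  have h8 : ∀ w, ∃ u, k (w - τ (cP h P x w) x') = w - τ (cP h P x w) x' + τ u x := fun w => by
    induction w using h.inductionOn with
    | zero => exact ⟨0, by simp⟩
    | add a b ha hb =>
      obtain ⟨u, hu⟩ := ha
      obtain ⟨u', hu'⟩ := hb
      refine ⟨u + u', ?_⟩
      simp only [map_add, map_sub, LinearMap.add_apply] at hu hu' ⊢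
      linear_combination (norm := module) hu + hu'
    | tmul a z =>
      have h7 : polar P x (z - polar P x z • x') = 0 := by simp [hx'.hef]
      obtain ⟨c₁, -, h8⟩ := h5 _ h7
      obtain ⟨u, hu⟩ := h8 a
      obtain ⟨u', hu'⟩ := h8 v
      rw [h2 _ h7, LinearEquiv.coe_one, id, ← sub_eq_iff_eq_add', ← map_sub] at hu'
      obtain ⟨s, hs⟩ := Submodule.mem_span_singleton.1 (mem_span_of_eq (Ten.flip h) hv hu')
      refine ⟨u - s • a, ?_⟩
      rw [LinearEquiv.coe_one, id, show c₁ = z - polar P x z • x' - s • x by rw [hs]; abel] at hu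
      simp only [map_smul, map_sub, cP_apply, LinearMap.smul_apply, LinearMap.sub_apply] at hu ⊢
      linear_combination (norm := module) hu
  obtain ⟨c, hc, h9⟩ := H.eq_eich hx hx0 (t := k) ⟨hk, h1, fun w hw => by simpa [hw] using h8 w⟩
  obtain ⟨a, rfl⟩ := Submodule.mem_span_singleton.1 (mem_span_of_orth H.n₂ (x := x) (w := c)
    fun z hz => by
      have := right_inj h hv ((H.rhom_apply ..).symm.trans (h9 ▸ h2 z hz))
      simpa [eich_ap hx hc, hz, hx0] using this)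
  simp [h9, eich_smul_self]

theorem OQ.comm_of_stab [Finite F] (H : OQ R P Q h X) {v : W} (hv : v ≠ 0) (hx : P x = 0)
    (hx0 : x ≠ 0) {k : V ≃ₗ[F] V} (hk : k ∈ Kv τ X v) (hs : ∀ u, ∃ u', k (τ u x) = τ u' x) :
    ∀ y ∈ Qx H.toTenO hx, Commute k y := by
  rintro _ ⟨c, hc, rfl⟩
  obtain ⟨α, hα⟩ := exists_equiv2 h h rfl hx0 hx0 hs
  obtain ⟨c₁, -, h2⟩ := H.eq_eich hx hx0 (H.rx_conj H.toOB (H.rx_eich hx hc) hk.1 hα)
  have h3 : eich P x c₁ = eich P x c := O_ext fun z => right_inj h hv (by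
    rw [← H.rhom_apply, ← h2]
    simp [((Kv τ X v).inv_mem hk).2, H.rhom_apply, hk.2])
  exact mul_inv_eq_iff_eq_mul.1 (h3 ▸ h2)

theorem stab_eich (H : TenO R P Q h) (hx : P x = 0) (hx0 : x ≠ 0) {c : U} (hc : polar P x c = 0)
    (hc0 : P c ≠ 0) {k : V ≃ₗ[F] V} (hk : Commute k (H.rhom (eich P x c)).1) (u : W) :
    ∃ u', k (τ u x) = τ u' x := by
  obtain ⟨x', hx'⟩ := H.n₂.exists_hyp hx hx0
  have := stab_of_comm H hx hx0 hc hc0 hx hc hk.eq (τ u x')
  rw [cP_apply, hx'.hef, one_smul] at this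
  exact ⟨_, this⟩

theorem Sl.exists_left [Nontrivial V] [Nontrivial U] (S : Sl s P Q h R) (hs : ∀ a, s' a ∈ Cm s)
    (hw : w ≠ 0) : ∃ v, v ≠ 0 ∧ ∀ z, τ v z ∈ L s' w := by
  obtain ⟨θ, hθ⟩ := exists_dual_one_of_ne (F := F) hw
  obtain ⟨m, hm⟩ := S.eq_lf (hs (θ.smulRight w))
  obtain ⟨u, hu⟩ : ∃ u, m u ≠ 0 := by
    by_contra! h1
    exact r_ne_zero hw (by rintro rfl; simp at hθ)
      (hm.trans (by rw [show m = 0 from LinearMap.ext h1, map_zero]))
  exact ⟨_, hu, fun z => lf_apply (h := h) m u z ▸ hm ▸ r_mem_L w θ _⟩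

theorem Sl.rhom_sh (S : Sl s P Q h R) (β : O P) : (S.rhom β).1 = sh s β.1 :=
  LinearEquiv.toLinearMap_injective ((S.rhom_eq β).trans (sh_coe _ _).symm)

theorem Cm_eq_of_L (hw : w ≠ 0) {E G : End F V} (hE : E ∈ Cm s) (hG : G ∈ Cm s)
    (e : ∀ v ∈ L s w, E v = G v) : E = G :=
  let ⟨θ, hθ⟩ := exists_dual_one_of_ne (F := F) hw
  r_mul_cancel hw (φ := θ) (by rintro rfl; simp at hθ) hE hG (by
    rw [← Cm_r hE, ← Cm_r hG]; exact LinearMap.ext fun v => e _ (r_mem_L _ _ _))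

theorem pow_mem_Cm {β : V ≃ₗ[F] V} (hβ : (β : End F V) ∈ Cm s) (n : ℕ) :
    ((β ^ n : V ≃ₗ[F] V) : End F V) ∈ Cm s := coe_pow β n ▸ pow_mem hβ n

theorem pow_eq_of_L {g β : V ≃ₗ[F] V} (hβ : (β : End F V) ∈ Cm s) (e : ∀ v ∈ L s w, g v = β v)
    (n : ℕ) : ∀ v ∈ L s w, (g ^ n) v = (β ^ n) v := fun v hv => by
  induction n with
  | zero => rfl
  | succ n ih =>
    rw [pow_succ', pow_succ', LinearEquiv.mul_apply, ih]
    exact e _ (Cm_mem_L (pow_mem_Cm hβ n) hv)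

variable (s X w) in
/-- The pointwise stabiliser of `w ⊗ W`. -/
def KV : Subgroup (V ≃ₗ[F] V) where
  carrier := {k | k ∈ X ∧ ∀ v ∈ L s w, k v = v}
  mul_mem' ha hb := ⟨mul_mem ha.1 hb.1, fun z hz => by simp [ha.2 z hz, hb.2 z hz]⟩
  one_mem' := ⟨one_mem _, fun _ _ => rfl⟩
  inv_mem' {a} ha := ⟨inv_mem ha.1, fun z hz => a.injective (by simp [ha.2 z hz])⟩

end One

variable {T : Type*} {s : T → End F U →ₐ[F] End F V} [Finite T] [Finite F] {H : OT s P Q}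
  {i j l : T} {x w : U}

theorem OT.pol_of_eq (H : OT s P Q) {g : V ≃ₗ[F] V} (hg : g ∈ O Q) {b : End F U}
    (e : (g : End F V) = s i b) (u u' : U) : polar P (b u) (b u') = polar P u u' := by
  have := H.nt
  have := H.ntU
  obtain ⟨z, hz⟩ := exists_ne (0 : U)
  obtain ⟨y, hy⟩ : ∃ y, ee P (s i) z y ≠ 0 := by
    by_contra! h; exact r_ne_zero hz (pb_ne H.nP hz) (LinearMap.ext h)
  obtain ⟨v, hv⟩ := H.nQ.exists_ne hy
  have k : ∀ u v, g (r (s i) u (polarBilin P z) v) = r (s i) (b u) (polarBilin P z) v :=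
    fun u => LinearMap.congr_fun (e ▸ s_mul_r (s i) b u _)
  have := O_polar ⟨g, hg⟩ (r (s i) u' (polarBilin P z) v) (r (s i) u (polarBilin P z) y)
  rw [k, k, H.adj_r, H.adj_r _ u', r_r, r_r, polar_smul_right, polar_smul_right] at this
  exact (polar_comm ..).trans ((mul_right_cancel₀ (polar_comm Q v _ ▸ hv) this).trans
    (polar_comm ..))

theorem OT.eq_one (H : OT s P Q) (h3 : finrank F U = 3) (hw : P w ≠ 0) {g : V ≃ₗ[F] V}
    (hg : g ∈ O Q) (hW : g ∈ H.Wr) {n : ℕ} (hn : g ^ ringChar F ^ n = 1)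
    (e : ∀ v ∈ L (s i) w, g v = v) : g = 1 := by
  have := H.nt
  have := H.ntU
  have hp : Fact (ringChar F).Prime := ⟨CharP.char_is_prime F _⟩
  have h0 := ne_zero_of_Q hw
  obtain ⟨θ, hθ⟩ := exists_dual_one_of_ne (F := F) h0
  have hθ0 : θ ≠ 0 := by rintro rfl; simp at hθ
  have h1 : g * r (s i) w θ = r (s i) w θ := LinearMap.ext fun v => e _ (r_mem_L _ _ _)
  obtain ⟨b, hb⟩ := H.mem_range (E := g) (i := i) fun l hl => by
    obtain ⟨m, hm⟩ := hW l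
    have k : ∀ {a b}, g * s l a = s m b * g → r (s i) w θ * s l a = s m b * r (s i) w θ :=
      fun {a b} h => by
        nth_rw 1 [← h1]
        rw [mul_assoc, ← Cm_r (H.comm hl.symm a), ← mul_assoc, h, mul_assoc, h1]
    by_cases h2 : m = i
    · obtain ⟨y, hy, -⟩ := exists_not_mem_two (F := F) H.two w w
      obtain ⟨φ, h4, h5⟩ := exists_dual_one_zero hy
      obtain ⟨b, h6⟩ := hm (φ.smulRight w)
      have h7 := congrArg (r (s i) w θ * ·) (k h6)
      simp only [h2, s_mul_r, r_mul, r_mul', hθ, one_smul] at h7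
      refine absurd (?_ : r (s l) w φ ∈ Cm (s l)) (r_not_mem_Cm h0 (by rintro rfl; simp at h4) h5)
      rw [r_def, r_mul_cancel h0 hθ0 (H.comm hl.symm _) (Subalgebra.smul_mem _ (one_mem _) (θ (b w)))
        (h7.trans (by simp))]
      exact Subalgebra.smul_mem _ (one_mem _) _
    refine mem_Cm.2 fun a => ?_
    obtain ⟨b, h4⟩ := hm a
    rw [h4, r_mul_cancel h0 hθ0 (H.comm hl.symm a) (H.comm (Ne.symm h2) b)
      ((k h4).trans (Cm_r (H.comm (Ne.symm h2) b) _ _))]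
  have h4 : b w = w := by
    rw [hb, s_mul_r] at h1
    simpa [hθ] using LinearMap.congr_fun (s_inj h1) w
  have h5 := eq_one_of_nil H.nP H.h2 h3 (H.pol_of_eq hg hb) hw h4 (nil_of_pow (p := ringChar F)
    (n := n) (s_inj (s := s i) (by rw [map_pow, ← hb, ← coe_pow, hn, map_one]; rfl)))
  exact LinearEquiv.toLinearMap_injective (by
    rw [hb, show b = 1 from LinearMap.ext h5, map_one]; rfl)

namespace OW

variable (K : OW H X) (hE : ¬ E Q ≤ X.subgroupOf (O Q)) (h3 : finrank F U = 3)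
include K hE h3

theorem eq_one (hil : i ≠ l) (hw : P w ≠ 0) (hx : P x = 0) (hx0 : x ≠ 0) {k : V ≃ₗ[F] V}
    (hk : k ∈ X) (hs : ∀ v ∈ L (s l) x, k v ∈ L (s l) x)
    (hf : ∀ v ∈ L (s i) w, ee P (s l) x v = 0 → k v = v) {n : ℕ} (hn : k ^ ringChar F ^ n = 1) :
    k = 1 := by
  have := H.nt
  have := H.ntU
  have hp : Fact (ringChar F).Prime := ⟨CharP.char_is_prime F _⟩
  obtain ⟨W, τ, h, R, S, B⟩ := K.exists_oq hE l
  obtain ⟨α, hα⟩ := exists_equiv2 h h rfl hx0 hx0 fun u => S.mem_L hx0 (hs _ (S.tau_mem u x))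
  obtain ⟨μ, -, h4, -⟩ := B.exists_rel B hx hx0 hx hx0 hk hα
  have h6 : ∀ m u, (k ^ m) (τ u x) = τ ((α ^ m) u) x := fun m => by
    induction m with
    | zero => simp
    | succ m ih => intro u; simp [pow_succ, hα, ih]
  have h7 : α ^ ringChar F ^ n = 1 :=
    LinearEquiv.ext fun u => left_inj h hx0 (by rw [← h6, hn]; rfl)
  obtain rfl : μ = 1 := by
    obtain ⟨a, b, hab⟩ := B.n₁.exists_hyp_of_three B.ha
    have h8 : ∀ m, polar R ((α ^ m) a) ((α ^ m) b) = μ ^ m := fun m => by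
      induction m with
      | zero => simpa using hab.hef
      | succ m ih => simp [pow_succ', h4, ih]
    exact sub_eq_zero.1 (pow_eq_zero_iff (pow_ne_zero n hp.1.ne_zero) |>.1 (by
      rw [sub_pow_char_pow, ← h8, h7]; simp [hab.hef]))
  obtain ⟨γ, rfl⟩ : ∃ γ : O R, γ.1 = α :=
    ⟨⟨α, mem_O_of_polar H.h2 fun a b => by rw [h4, one_mul]⟩, rfl⟩
  have h8 : ((S.flip.rhom γ).1 : End F V) ∈ Cm (s l) := S.lhom_eq γ ▸ S.lf_mem _
  have h9 : ∀ v ∈ L (s l) x, k v = (S.flip.rhom γ).1 v := fun v hv => by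
    obtain ⟨u, rfl⟩ := S.mem_L hx0 hv
    rw [hα, S.lhom_apply]
  have h10 := H.eq_one h3 hw (S.flip.rhom γ).2 (K.small hE h3 hx hx0 (S.flip.rhom γ).2 h8
    ⟨h8, k, hk, h9⟩) (n := n) (i := i) (by
      rw [← Subgroup.coe_pow, ← map_pow, show γ ^ ringChar F ^ n = 1 from Subtype.ext h7]; simp)
    fun v hv => by
      obtain ⟨θ, hθ⟩ := exists_dual_one_of_ne (F := F) (ne_zero_of_Q hw)
      have h10 := H.r_mem hil.symm w θ
      rw [← r_eq_of_mem_L hθ hv]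
      exact LinearMap.congr_fun (Cm_eq_of_L hx0 (mul_mem h8 h10) h10 fun v hv =>
        (h9 _ (Cm_mem_L h10 hv)).symm.trans (hf _ (r_mem_L _ _ _)
          (Cm_mem_L h10 hv _ (by simp [hx]) _))) v
  obtain ⟨v, hv, h11⟩ := S.exists_left (H.comm hil.symm) (ne_zero_of_Q hw)
  exact B.eq_one hx hx0 hv hk (fun u => by rw [h9 _ (S.tau_mem u x), h10]; rfl)
    fun z hz => hf _ (h11 z) (by simp [S.r_tau, hz])

theorem cent (hil : i ≠ l) (hw : P w ≠ 0) (hx : P x = 0) (hx0 : x ≠ 0) :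
    ¬ ringChar F ∣ Nat.card (KV X w (s i)) ∧ ∀ k ∈ KV X w (s i), ∀ c, polar P x c = 0 →
      Commute k (sh (s l) (eich P x c).1) := by
  have := H.nt
  have := H.ntU
  have hp : Fact (ringChar F).Prime := ⟨CharP.char_is_prime F _⟩
  have := finite_equiv (F := F) (V := V)
  obtain ⟨W, τ, h, R, S, B⟩ := K.exists_oq hE l
  obtain ⟨x', hx'⟩ := H.nP.exists_hyp hx hx0
  obtain ⟨d, h4, h5, h6⟩ := hx'.exists_nonsingular H.nP H.h3
  have hp : ∀ y ∈ Qx B.toTenO hx, y ^ ringChar F = 1 := by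
    rintro _ ⟨c, hc, rfl⟩; exact pow_eich B.toTenO hx hc
  have hn : Qx B.toTenO hx ≤ Subgroup.normalizer (KV X w (s i) : Set _) := by
    rintro _ ⟨c, hc, rfl⟩
    refine Tech.mem_normalizer_of_forall fun k hk => ⟨mul_mem (mul_mem (B.right (eich_mem_E _ _))
      hk.1) (inv_mem (B.right (eich_mem_E _ _))), fun z hz => ?_⟩
    rw [LinearEquiv.mul_apply, LinearEquiv.mul_apply, hk.2, apply_inv_apply]
    exact Cm_mem_L (inv_mem_Cm (S.rhom_eq _ ▸ H.comm hil _)) hz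
  have h7 : ¬ ringChar F ∣ Nat.card (KV X w (s i)) := not_dvd_of_cent
    (Tech.isPGroup_iff_mem.2 fun y hy => ⟨1, by simpa using hp y hy⟩) hn fun k hk h7 n h8 =>
      K.eq_one hE h3 hil hw hx hx0 hk.1 (fun v hv => by
        obtain ⟨u, rfl⟩ := S.mem_L hx0 hv
        obtain ⟨u', hu⟩ := stab_eich B.toTenO hx hx0 (pc h4) h6 (h7 _ ⟨d, pc h4, rfl⟩) u
        exact hu ▸ S.tau_mem _ _) (fun v hv _ => hk.2 v hv) h8
  refine ⟨h7, fun k hk c hc => S.rhom_sh _ ▸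
    cent_of_cubic H.h2 hn hp ?_ ?_ ?_ h7 ?_ k hk _ ⟨c, hc, rfl⟩⟩
  · rintro _ ⟨c, hc, rfl⟩
    ext w
    have := congrArg ((B.rhom (eich P x c)).1 - 1 : End F V) (sq_eich B.toTenO hx hc w)
    simpa [pow_succ', B.rhom_apply, eich_apply_self] using this
  · rintro _ ⟨c, hc, rfl⟩ _ ⟨c', hc', rfl⟩
    rw [← Subgroup.coe_mul, ← Subgroup.coe_mul, ← map_mul, ← map_mul, eich_comm hx hc hc']
  · obtain ⟨v, -, hv⟩ := exists_nonsing B.n₁ (S := ⊤) (by have := B.ha; simp; omega)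
    refine lt_of_lt_of_le (by have := (K.hq.resolve_right (by omega)).2; omega)
      (Nat.card_le_card_of_injective
      (fun s : F => (⟨_, s • d, by simp [pc h4], rfl⟩ : Qx B.toTenO hx)) fun s t e => ?_)
    have h8 := congrArg (fun g : Qx B.toTenO hx => polar Q (τ v d) (g.1 (τ v x'))) e
    simpa [B.rhom_apply, hx'.eich_apply_f, h4, h5, B.eq, hv, h6, B.two] using h8
  · rintro k hk _ ⟨c, hc, rfl⟩ h8 h9
    obtain ⟨v, hv, h11⟩ := S.exists_left (H.comm hil.symm) (ne_zero_of_Q hw)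
    refine B.comm_of_stab hv hx hx0 ⟨hk.1, fun z => hk.2 _ (h11 z)⟩
      (stab_eich B.toTenO hx hx0 hc (fun h10 => h8 ?_) h9)
    obtain ⟨s, rfl⟩ := Submodule.mem_span_singleton.1 (an_of_three H.nP h3 x c hx hx0 h10 hc)
    simp [eich_smul_self]

theorem eq_of_KV (hw : P w ≠ 0) {y y' : V ≃ₗ[F] V} (hy : y ∈ X) (hy' : y' ∈ X)
    (h1 : y ^ ringChar F = 1) (h2 : y' ^ ringChar F = 1) (hC : (y : End F V) ∈ Cm (s i))
    (e : ∀ v ∈ L (s i) w, y' v = y v) : y' = y := by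
  have hp : Fact (ringChar F).Prime := ⟨CharP.char_is_prime F _⟩
  have := finite_equiv (F := F) (V := V)
  have h4 : y⁻¹ * y' ∈ KV X w (s i) :=
    ⟨mul_mem (inv_mem hy) hy', fun v hv => by simp [e v hv]⟩
  obtain ⟨b, hb⟩ := H.mem_range (E := (y⁻¹ * y' : V ≃ₗ[F] V)) (i := i) fun l hl =>
    cm_of_eich H.nP H.h2 H.h3 fun x c hx hc => by
      by_cases h0 : x = 0
      · simp [h0, eich_zero_left, ← End.one_eq_id]
      exact congrArg LinearEquiv.toLinearMap ((K.cent hE h3 hl.symm hw hx h0).2 _ h4 c hc).symm.eq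
  have h5 : Commute y (y⁻¹ * y') := LinearEquiv.toLinearMap_injective (by
    rw [LinearEquiv.coe_toLinearMap_mul, hb, ← mem_Cm.1 hC, ← hb]; rfl)
  have h6 := h5.mul_pow (ringChar F)
  rw [mul_inv_cancel_left, h1, h2, one_mul] at h6
  have := K.nt
  obtain ⟨l, hl⟩ := exists_ne i
  obtain ⟨x, x', hx⟩ := H.nP.exists_hyp_of_three H.h3
  exact (inv_mul_eq_one.1 (eq_one_of_not_dvd (K.cent hE h3 hl.symm hw hx.he hx.e_ne).1 h4
    h6.symm)).symm

theorem small' (hw : P w ≠ 0) {β : V ≃ₗ[F] V} (h1 : β ∈ O Q) (h2 : (β : End F V) ∈ Cm (s j))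
    (h4 : β ∈ Lf (s j) X w) : β ∈ H.Wr := by
  have := K.nt
  have := H.nt
  have := H.ntU
  have hp : Fact (ringChar F).Prime := ⟨CharP.char_is_prime F _⟩
  have := finite_equiv (F := F) (V := V)
  by_cases hT : ∀ i j : T, ∃ k, k ≠ i ∧ k ≠ j
  swap
  · obtain ⟨i, hi⟩ := two_slot hT j
    obtain ⟨a, ha⟩ := H.mem_range (i := i) fun l hl => hi l hl ▸ h2
    exact H.mem_Wr_of_eq ha
  refine (K.di j (Lf (s j) X w) fun g hg h => ⟨h, g, hg, fun _ _ => rfl⟩).elim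
    (fun h => h β h1 h2 h4) fun hB => False.elim ?_
  clear h1 h2 h4 β
  obtain ⟨o, ho, -⟩ := hT j j
  obtain ⟨l, hl, hl'⟩ := hT j o
  obtain ⟨x, x', hx⟩ := H.nP.exists_hyp_of_three H.h3
  obtain ⟨d, h4, -, h6⟩ := hx.exists_nonsingular H.nP H.h3
  obtain ⟨h8, h9⟩ := H.uni_mem hl' hx.he x x'
  have c1 : nn P (s o) x x' ∈ Cm (s l) := nn_eq (s := s o) ▸ H.comm hl' _
  have h10 : (uni _ h8 : End F V) ∈ Cm (s j) := add_mem (one_mem _) (mul_mem (H.r_mem hl.symm _ _)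
    (nn_eq (s := s o) ▸ H.comm ho.symm _))
  obtain ⟨-, g, hg, e⟩ := hB _ h9 h10 (uni_pow h8)
  obtain ⟨m, n, hm, hn⟩ := exists_ppart (ringChar F) g
  replace e := pow_eq_of_L h10 e m
  have h11 : Commute (uni _ h8) (sh (s l) (eich P x d).1) := LinearEquiv.toLinearMap_injective (by
    simp only [LinearEquiv.coe_toLinearMap_mul, uni_coe, sh_coe, add_mul, mul_add, one_mul, mul_one]
    rw [← mul_assoc, conj_ee, eich_apply_self, mul_assoc, mul_assoc, mem_Cm.1 c1])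
  have h12 := pow_mem_Cm h10 m
  have h13 : (sh (s l) (eich P x d).1 : End F V) ∈ Cm (s j) := H.comm hl.symm _
  have h14 := K.sh_mem l (eich_mem_E x d)
  have h15 : sh (s l) (eich P x d).1 ^ ringChar F = 1 := by
    rw [← map_pow, ← Subgroup.coe_pow, eich_pow hx.he (pc h4)]; simp [eich_zero_right]
  have h16 := K.eq_of_KV hE h3 hw h14 (mul_mem (mul_mem (pow_mem hg m) h14) (inv_mem (pow_mem hg m)))
    h15 (by rw [conj_pow, h15]; simp) h13 fun v hv => by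
      have h16 : (uni _ h8 ^ m)⁻¹ v ∈ L (s j) w := Cm_mem_L (inv_mem_Cm h12) hv
      rw [← apply_inv_apply (uni _ h8 ^ m) v]
      nth_rw 1 [← e ((uni _ h8 ^ m)⁻¹ v) h16]
      rw [LinearEquiv.mul_apply, LinearEquiv.mul_apply, inv_apply_apply,
        e (sh (s l) (eich P x d).1 _) (Cm_mem_L h13 h16), ← LinearEquiv.mul_apply,
        (h11.pow_left m).eq, LinearEquiv.mul_apply]
  obtain ⟨W, τ, h, R, S, B⟩ := K.exists_oq hE l
  have h17 := K.eq_one hE h3 hl.symm hw hx.he hx.e_ne (pow_mem hg m) (fun v hv => by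
    obtain ⟨u, rfl⟩ := S.mem_L hx.e_ne hv
    obtain ⟨u', hu⟩ := stab_eich B.toTenO hx.he hx.e_ne (pc h4) h6 (k := g ^ m)
      (S.rhom_sh _ ▸ mul_inv_eq_iff_eq_mul.1 h16) u
    exact hu ▸ S.tau_mem _ _) (fun v hv h17 => by
      rw [e v hv, LinearEquiv.pow_apply]
      exact Function.iterate_fixed (by
        rw [uni_apply, End.mul_apply, ← Cm_r_apply c1, h17, map_zero, add_zero]) m) hn
  have h18 : uni _ h8 ^ m = 1 := LinearEquiv.toLinearMap_injective (Cm_eq_of_L (ne_zero_of_Q hw) h12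
    (one_mem _) fun v hv => (e v hv).symm.trans (by rw [h17]; rfl))
  have h19 := pow_gcd_eq_one.2 ⟨uni_pow (p := ringChar F) h8, h18⟩
  rw [(hp.1.coprime_iff_not_dvd.2 hm).gcd_eq_one, pow_one] at h19
  exact one_ne_zero (nn_cancel H.nP hx.e_ne (fun h => by
    obtain ⟨a, rfl⟩ := Submodule.mem_span_singleton.1 h
    simpa [hx.he] using hx.hef) (one_mem _) ((mul_one _).trans (r_mul_eq_zero hx.e_ne
      (pb_ne H.nP hx.e_ne) c1 (add_eq_left.1 ((uni_coe _ h8).symm.trans (by rw [h19]; rfl))))))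

theorem sv {v : U} (hv : P v ≠ 0) (hw : P w ≠ 0) {g : V ≃ₗ[F] V} (hg : g ∈ X)
    (hs : ∀ z ∈ L (s i) v, g z ∈ L (s j) w) : Nm g (s i) (s j) := by
  have := H.nt
  have := H.ntU
  have h0 := ne_zero_of_Q hw
  have h1 : (L (s i) v).map (g : End F V) = L (s j) w := Submodule.eq_of_le_of_finrank_eq
    (by rintro _ ⟨z, hz, rfl⟩; exact hs z hz)
    (by rw [LinearEquiv.finrank_map_eq, finrank_L (ne_zero_of_Q hv), finrank_L h0])
  obtain ⟨W, τ, h, R, S, B⟩ := K.exists_oq hE j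
  refine inv_inv g ▸ Nm.symm fun a => ?_
  obtain ⟨b, hb⟩ := H.mem_range (E := (g⁻¹ : V ≃ₗ[F] V) * s j a * g) (i := i) fun l hl =>
    cm_of_eich H.nP H.h2 H.h3 fun x c hx hc => by
      have h4 := K.sh_mem l (eich_mem_E x c)
      have h5 : sh (s l) (eich P x c).1 ^ ringChar F = 1 := by
        rw [← map_pow, ← Subgroup.coe_pow, eich_pow hx hc]; simp [eich_zero_right]
      have h6 : (sh (s l) (eich P x c).1 : End F V) ∈ Cm (s i) := H.comm hl.symm _
      rw [← sh_coe]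
      generalize sh (s l) (eich P x c).1 = y at *
      have h7 := mul_mem (mul_mem hg h4) (inv_mem hg)
      have h8 : (g * y * g⁻¹) ^ ringChar F = 1 := by rw [conj_pow, h5]; simp
      obtain ⟨α, hα⟩ := exists_equiv2 h h rfl h0 h0 (g := g * y * g⁻¹) fun u => S.mem_L h0 (by
        obtain ⟨z, hz, e⟩ := h1.ge (S.tau_mem u w)
        simpa [← e] using hs _ (Cm_mem_L h6 hz))
      obtain ⟨γ, rfl⟩ : ∃ γ : O R, γ.1 = α := ⟨⟨α, fun u => by
        simpa [hα, S.Q_tau, H.h2, hw] using K.hX h7 (τ u w)⟩, rfl⟩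
      have h9 : ((S.flip.rhom γ).1 : End F V) ∈ Cm (s j) := S.lhom_eq γ ▸ S.lf_mem _
      have h10 : ∀ v ∈ L (s j) w, (g * y * g⁻¹) v = (S.flip.rhom γ).1 v := fun v hv => by
        obtain ⟨u, rfl⟩ := S.mem_L h0 hv
        rw [hα, S.lhom_apply]
      have h11 : (S.flip.rhom γ).1 ^ ringChar F = 1 := LinearEquiv.toLinearMap_injective
        (Cm_eq_of_L h0 (pow_mem_Cm h9 _) (one_mem _) fun v hv =>
          (pow_eq_of_L h9 h10 _ v hv).symm.trans (by rw [h8]; rfl))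
      have h12 := K.eq_of_KV hE h3 hw (K.mem_char (S.flip.rhom γ).2 (K.small' hE h3 hw
        (S.flip.rhom γ).2 h9 ⟨h9, _, h7, h10⟩) h11) h7 h11 h8 h9 h10
      have h13 := congrArg ((g⁻¹ : V ≃ₗ[F] V) * · * (g : End F V)) (mem_Cm.1 (h12 ▸ h9) a)
      simpa only [LinearEquiv.coe_toLinearMap_mul, mul_assoc, coe_inv_mul, mul_one,
        ← mul_assoc ((g⁻¹ : V ≃ₗ[F] V) : End F V) g, one_mul] using h13.symm
  exact ⟨b, by rw [← hb, mul_assoc, coe_mul_inv, mul_one]⟩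

end OW

end CfsgLib.C7O
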