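import Mathlib
import Cfsg.Agent.Lib.C7O.Kv

/-!
Overgroups of the stabiliser of a tensor power of `O₃`: involutions of the stabiliser.
-/

set_option autoImplicit false
set_option linter.unusedSectionVars false

namespace CfsgLib.C7O

open Module CfsgLib.ClMax CfsgLib.ClMax.Ten CfsgLib.OrthE CfsgLib.OMax QuadraticMap CfsgLib.C7

variable {F U V : Type*} [Field F] [AddCommGroup U] [Module F U] [AddCommGroup V] [Module F V]
  {P : QuadraticForm F U} {Q : QuadraticForm F V} [FiniteDimensional F U] [FiniteDimensional F V]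
  {X : Subgroup (V ≃ₗ[F] V)}

section One

variable {W : Type*} [AddCommGroup W] [Module F W] {τ : U →ₗ[F] W →ₗ[F] V} {h : IsTensorProduct τ}
  {R : QuadraticForm F W} [FiniteDimensional F W] (H : TenO P R Q h) (h3 : finrank F U = 3)
  (hb : 3 ≤ finrank F W) [Finite F] {a k : V ≃ₗ[F] V}
include H h3 hb

theorem sim (hk : k ∈ O Q) {α : End F U} {β : End F W} (e : ∀ u z, k (τ u z) = τ (α u) (β z)) :
    ∃ μ : F, ∀ u u', μ * polar P (α u) (α u') = polar P u u' := by
  obtain ⟨z, z', hz⟩ := H.n₂.exists_hyp_of_three hb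
  exact ⟨polar R (β z) (β z'), fun u u' => by
    simpa [e, H.eq, hz.hef, mul_comm] using O_polar ⟨k, hk⟩ (τ u z) (τ u' z')⟩

theorem rt_of_pow {p : ℕ} [Fact p.Prime] [CharP F p] {v : U} (ha : Ax τ P v a) (hk : k ∈ O Q)
    (hK : k ∈ Kron τ) (hc : Commute a k) (hp : k ^ p = 1) : Rt τ k := by
  have hs : ∀ z, ∃ z', k (τ v z) = τ v z' := fun z => ha.eq_tau h H.two (by
    rw [← LinearEquiv.mul_apply, hc.eq, LinearEquiv.mul_apply, ha.fix])
  obtain ⟨α, β, e⟩ := hK
  obtain ⟨z, z', hz⟩ := H.n₂.exists_hyp_of_three hb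
  have hv := ne_zero_of_Q ha.1
  obtain ⟨z'', h4⟩ := hs z
  obtain ⟨c, h5⟩ := Submodule.mem_span_singleton.1 (mem_span_of_eq h (w' := β z)
    (by simpa using hz.e_ne) ((e v z).symm.trans h4))
  have h6 : c ≠ 0 := by rintro rfl; exact hv (by simpa using h5.symm)
  obtain ⟨α, β, h7, e⟩ : ∃ (α : U ≃ₗ[F] U) (β : End F W), α v = v ∧
      ∀ u z, k (τ u z) = τ (α u) (β z) := ⟨α.trans (LinearEquiv.smulOfNeZero F U c⁻¹ (inv_ne_zero h6)),
    c • (β : End F W), by simp [← h5, h6], fun u z => by simp [e, h6]⟩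
  have h8 : ∀ (n : ℕ) u z, (k ^ n) (τ u z) = τ ((α ^ n) u) ((β ^ n) z) := fun n => by
    induction n with
    | zero => simp
    | succ n ih => intro u z; simp [pow_succ', ih, e]
  have h9 : (α ^ p) v = v := by
    rw [LinearEquiv.pow_apply]; exact Function.iterate_fixed h7 p
  have h10 : (β ^ p) z = z := right_inj h hv (by rw [← h9, ← h8, hp, h9]; rfl)
  obtain ⟨μ, hμ⟩ := sim H h3 hb (α := α) hk e
  have h11 : μ = 1 := mul_right_cancel₀ (polar_self_ne H.two ha.1) (by simpa [h7] using hμ v v)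
  exact ⟨β, fun u w => by rw [e, O2.left_one h3 H ha.1 (μ := 1) (by simpa [h11] using hμ) h7
    (p := p) (n := 1) (LinearEquiv.ext fun u => left_inj h hz.e_ne (by
      rw [pow_one, ← h10, ← h8, hp, h10]; rfl))]⟩

variable (hq : 5 ≤ Nat.card F)
include hq

theorem exists_ax : ∃ k ∈ E P, ∃ w, Ax τ P w (H.flip.rhom k).1 := by
  have : Nontrivial W := nontrivial_of_finrank_pos (R := F) (by omega)
  obtain ⟨t, ht, ht'⟩ := exists_t hq
  obtain ⟨a, -, ha⟩ := exists_nonsing H.n₁ (S := ⊤) (by simp [h3])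
  obtain ⟨b, -, h1, h2⟩ := exists_norm_polar H.n₁ H.two (nd_top H.n₁) (by simp [h3]) trivial ha
    (P a) 0
  have h4 := refl_mem_E H.n₁ h3.ge ha one_ne_zero (b := b) (by simp [h1])
  refine ⟨_, h4, ax_of_det H h3 (Subtype.prop _) (det_E H.n₁ h3.ge ht ht' h4)
    (H.lhom_apply _) ?_ fun e => ?_⟩
  · rw [← Subgroup.coe_mul, ← map_mul, (refl_comm h2).symm.mul_mul_mul_comm, refl_mul_self,
      refl_mul_self]
    simp
  · obtain ⟨z, hz⟩ := exists_ne (0 : W)
    have h5 := H.lhom_apply (refl P a * refl P b) a z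
    rw [e, O_mul_apply, refl_apply_of_orth h2, refl_apply_self ha] at h5
    exact ne_zero_of_Q ha ((smul_eq_zero.1 ((two_smul F _).trans
      (add_eq_zero_iff_eq_neg.2 (left_inj h hz h5)))).resolve_left H.two)

theorem exists_comm (hk : k ∈ O Q) (hK : k ∈ Kron τ) (h1 : k * k = 1) :
    ∃ t ∈ E P, ∃ v, Ax τ P v (H.flip.rhom t).1 ∧ Commute (H.flip.rhom t).1 k := by
  have : Nontrivial W := nontrivial_of_finrank_pos (R := F) (by omega)
  obtain ⟨l, hl, v, hv⟩ := exists_ax H h3 hb hq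
  obtain ⟨w, φ, β, -, rfl | hw, e⟩ := kron_inv h h3 hK h1
  · exact ⟨_, hl, v, hv, hv.comm_rt h ⟨-β, by simp [e]⟩⟩
  obtain ⟨μ, hμ⟩ := sim H h3 hb (α := φ.smulRight w - 1) hk e
  obtain ⟨u, h4, h5⟩ := exists_nonsing H.n₁ (S := LinearMap.ker φ) (by
    have := LinearMap.finrank_range_add_finrank_ker φ
    have := (LinearMap.range φ).finrank_le
    rw [finrank_self] at this; omega)
  have h6 : μ = 1 := mul_right_cancel₀ (polar_self_ne H.two h5) (by
    simpa [show φ u = 0 from h4, -polar_self] using hμ u u)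
  have h7 : ∀ u, φ u * P w = polar P w u := fun u => by
    have := hμ w u
    simp only [h6, LinearMap.sub_apply, LinearMap.smulRight_apply, End.one_apply, hw,
      polar_sub_left, polar_sub_right, polar_smul_left, polar_smul_right, polar_self',
      smul_eq_mul] at this
    exact mul_left_cancel₀ H.two (by linear_combination this)
  have h8 : P w ≠ 0 := fun h2 => H.two (by
    rw [← hw, H.n₁ w fun u => by rw [← h7, h2, mul_zero], map_zero])
  obtain ⟨w', -, h9, h10⟩ := exists_norm_polar H.n₁ H.two (nd_top H.n₁) (by simp [h3]) trivial h8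
    (P v) 0
  have h11 : φ w' = 0 := by simpa [h10, h8] using h7 w'
  have h12 : Ax τ P w' (H.flip.rhom (l * (refl P v * refl P w'))).1 := ⟨h9 ▸ hv.1, fun u z => by
    rw [map_mul, Subgroup.coe_mul, LinearEquiv.mul_apply, H.lhom_apply, hv.2, ← O_mul_apply,
      ← mul_assoc, refl_mul_self, one_mul]⟩
  refine ⟨_, mul_mem hl (refl_mem_E H.n₁ h3.ge hv.1 one_ne_zero (by simp [h9])),
    w', h12, equiv_ext h fun u z => ?_⟩
  rw [LinearEquiv.mul_apply, LinearEquiv.mul_apply k, e, h12.2, h12.2, map_neg, e]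
  simp [refl_ap, h11, pc h10]
  abel

end One

section Two

variable {W : Type*} [AddCommGroup W] [Module F W] {τ : W →ₗ[F] U →ₗ[F] V} {h : IsTensorProduct τ}
  {R : QuadraticForm F W} [FiniteDimensional F W] {s s' : End F U →ₐ[F] End F V} {w : U}
  {a g : V ≃ₗ[F] V}

variable (P s w a) in
/-- The involution of a factor with axis `w`. -/
def AX : Prop := P w ≠ 0 ∧ (a : End F V) = s (-(refl P w).1)

theorem Sl.ax_iff (S : Sl s P Q h R) : Ax τ.flip P w a ↔ AX P s w a :=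
  and_congr_right fun _ => ⟨fun e => ext h fun u z => (e z u).trans (by simp [S.act]),
    fun e z u => (LinearMap.congr_fun e _).trans (by simp [S.act])⟩

theorem Sl.lhom_sh (S : Sl s P Q h R) (β : O P) : (S.flip.flip.rhom β).1 = sh s β.1 :=
  equiv_ext h fun u z => (S.flip.lhom_apply β z u).trans (S.act _ _ _).symm

theorem Sl.cm_of_rt (S : Sl s P Q h R) (hg : Rt τ.flip g) : (g : End F V) ∈ Cm s :=
  let ⟨β, e⟩ := hg
  (ext h fun u z => (e z u).trans (lf_apply ..).symm : (g : End F V) = lf h β) ▸ S.lf_mem β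

namespace AX

variable (ha : AX P s w a)
include ha

theorem eq : (a : End F V) = r s w ((P w)⁻¹ • polarBilin P w) - 1 := by
  rw [ha.2, r_def, ← map_one s, ← map_sub]; congr 1; ext v; simp [refl_ap]

theorem two : ((P w)⁻¹ • polarBilin P w) w = 2 := by
  simp only [LinearMap.smul_apply, polarBilin_apply_apply, polar_self', smul_eq_mul]
  field_simp [ha.1]

theorem fix (h2 : (2 : F) ≠ 0) {v : V} : a v = v ↔ v ∈ L s w := by
  have e : a v = r s w ((P w)⁻¹ • polarBilin P w) v - v := LinearMap.congr_fun ha.eq v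
  refine ⟨fun h => ?_, fun h => ?_⟩
  · rw [h, eq_sub_iff_add_eq, ← two_smul F] at e
    exact (Submodule.smul_mem_iff _ h2).1 (e ▸ r_mem_L _ _ _)
  · have := r_eq_of_mem_L (φ := (2 : F)⁻¹ • (P w)⁻¹ • polarBilin P w)
      (by rw [LinearMap.smul_apply, ha.two]; simp [h2]) h
    rw [map_smul, LinearMap.smul_apply, inv_smul_eq_iff₀ h2] at this
    rw [e, this, two_smul, add_sub_cancel_right]

theorem sq : a * a = 1 := LinearEquiv.toLinearMap_injective (by
  rw [LinearEquiv.coe_toLinearMap_mul, ha.2, ← map_mul, neg_mul_neg,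
    ← LinearEquiv.coe_toLinearMap_mul, ← Subgroup.coe_mul, refl_mul_self]
  exact map_one s)

theorem not_mem [Nontrivial V] (hP : Nondeg P) (h3 : 3 ≤ finrank F U) : (a : End F V) ∉ Cm s :=
  fun h => by
    obtain ⟨u, hu, h4, -⟩ := exists_ker_two h3 (polarBilin P w) 0
    obtain ⟨θ, hθ⟩ := exists_dual_one_of_ne (F := F) (ne_zero_of_Q ha.1)
    have := Cm_r h u θ
    simp only [ha.eq, mul_sub, sub_mul, r_mul, hθ, LinearMap.smul_apply, h4, one_mul, mul_one,
      smul_zero, zero_smul, one_smul, sub_left_inj] at this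
    exact r_ne_zero hu (smul_ne_zero (inv_ne_zero ha.1) (pb_ne hP (ne_zero_of_Q ha.1))) this.symm

end AX

end Two

variable {T : Type*} {s : T → End F U →ₐ[F] End F V} [Finite T] {i j l : T} {a g k z : V ≃ₗ[F] V}
  {v w : U}

theorem mem_span_of_L (H : TP s) {x : T → U} (hx : ∀ l, x l ≠ 0) {v w : V} (h0 : v ≠ 0)
    (hv : ∀ l, v ∈ L (s l) (x l)) (hw : ∀ l, w ∈ L (s l) (x l)) : w ∈ Submodule.span F {v} := by
  classical
  have := Fintype.ofFinite T
  have key : ∀ S : Finset T, ∃ E : End F V, E v = w ∧ ∀ l ∈ S, E ∈ Cm (s l) := fun S => by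
    induction S using Finset.induction_on with
    | empty =>
      obtain ⟨φ, hφ⟩ := exists_dual_one_of_ne (F := F) h0
      exact ⟨φ.smulRight w, by simp [hφ], by simp⟩
    | insert l S hl ih =>
      obtain ⟨E, h1, h2⟩ := ih
      obtain ⟨θ, hθ⟩ := exists_dual_one_of_ne (F := F) (hx l)
      refine ⟨co (s l) E θ (x l), ?_, fun m hm => ?_⟩
      · have := LinearMap.congr_fun (r_co (s := s l) E θ θ (x l) (x l)) v
        rwa [← Cm_r (co_mem _ _ _), End.mul_apply, End.mul_apply, End.mul_apply,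
          r_eq_of_mem_L hθ (hv l), h1, r_eq_of_mem_L hθ (hw l), eq_comm] at this
      · rcases Finset.mem_insert.1 hm with rfl | hm
        · exact co_mem _ _ _
        · exact co_mem_Cm (H.comm fun e : l = m => hl (e ▸ hm)) (h2 m hm) _ _
  obtain ⟨E, h1, h2⟩ := key Finset.univ
  obtain ⟨c, rfl⟩ := H.scalar fun l => h2 l (Finset.mem_univ l)
  exact h1 ▸ Submodule.smul_mem _ _ (Submodule.mem_span_singleton_self _)

variable [Finite F] {H : OT s P Q}

namespace OW

variable (K : OW H X) (h3 : finrank F U = 3)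
include K h3

theorem hq' : 5 ≤ Nat.card F := (K.hq.resolve_right (by omega)).2

theorem orbit {B : Subalgebra F (End F V)} (hz : z ∈ X) (h1 : z * z = 1)
    (hB : ∀ k ∈ X, Commute z k → k ^ ringChar F = 1 → (k : End F V) ∈ B) {α : U ≃ₗ[F] U}
    (hα : Nma z (s i) (s j) α) (hf : i = j → (z : End F V) ∈ Cm (s i)) :
    ∃ f ∈ B, (∀ m, m ≠ i → m ≠ j → f ∈ Cm (s m)) ∧
      (∀ M ∈ Cm (s i), M ∈ Cm (s j) → f * M = 0 → M = 0) ∧
      (∃ x, x ≠ 0 ∧ ∀ y, f y ∈ L (s i) x) ∧ ∃ x, x ≠ 0 ∧ ∀ y, f y ∈ L (s j) x := by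
  have := H.nt
  have := H.ntU
  obtain ⟨x, x', hx⟩ := H.nP.exists_hyp_of_three H.h3
  obtain ⟨d, h4, -, h6⟩ := hx.exists_nonsingular H.nP H.h3
  have h7 : ∀ t : F, sh (s i) (eich P x (t • d)).1 ^ ringChar F = 1 := fun t => by
    rw [← map_pow, ← Subgroup.coe_pow, eich_pow hx.he (by simp [pc h4])]; simp [eich_zero_right]
  have h8 := fun t : F => K.sh_mem i (eich_mem_E x (t • d))
  have h9 := fun t : F => (sh_coe (s i) _).trans (s_eich (s := s i) hx.he (pc h4) t)
  have h10 := pb_ne H.nP hx.e_ne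
  by_cases hij : i = j
  · subst hij
    have k := fun t : F => h9 t ▸ hB _ (h8 t) (LinearEquiv.toLinearMap_injective
      (mem_Cm.1 (hf rfl) _).symm) (h7 t)
    refine ⟨ee P (s i) x, ?_, fun m hm _ => H.r_mem hm _ _,
      fun M hM _ => r_mul_eq_zero hx.e_ne h10 hM, ⟨x, hx.e_ne, r_mem_L _ _⟩, x, hx.e_ne, r_mem_L _ _⟩
    have h2 := H.h2
    convert B.smul_mem (sub_mem (add_mem (k 1) (k (-1))) (B.smul_mem B.one_mem 2))
      (-(2 * P d))⁻¹ using 1
    match_scalars <;> field_simp <;> ring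
  have h11 : α x ≠ 0 := by simpa using hx.e_ne
  have h12 : polarBilin P x ∘ₗ (α.symm : End F U) ≠ 0 := fun e =>
    h10 (LinearMap.ext fun v => by simpa using LinearMap.congr_fun e (α v))
  have h13 := H.r_mem hij (α x) (polarBilin P x ∘ₗ (α.symm : End F U))
  refine ⟨ee P (s i) x * r (s j) (α x) (polarBilin P x ∘ₗ α.symm), ?_,
    fun m hm hm' => mul_mem (H.r_mem hm _ _) (H.r_mem hm' _ _), fun M hM hM' e =>
      r_mul_eq_zero h11 h12 hM' (r_mul_eq_zero hx.e_ne h10 (mul_mem h13 hM) (mul_assoc _ _ M ▸ e)),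
    ⟨x, hx.e_ne, fun y => r_mem_L _ _ _⟩, _, h11, fun y => Cm_r h13 _ _ ▸ r_mem_L _ _ _⟩
  have k : ∀ t : F, (sh (s i) (eich P x (t • d)).1 : End F V) *
      (z * sh (s i) (eich P x (t • d)).1 * (z⁻¹ : V ≃ₗ[F] V)) ∈ B := fun t => by
    obtain ⟨b, hb⟩ := hα.nm (eich P x (t • d)).1
    have h14 : Commute (sh (s i) (eich P x (t • d)).1) (z * sh (s i) (eich P x (t • d)).1 * z⁻¹) :=
      LinearEquiv.toLinearMap_injective (by
        simp only [LinearEquiv.coe_toLinearMap_mul, sh_coe, hb, mul_assoc (s j b), coe_mul_inv,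
          mul_one, mem_Cm.1 (H.comm hij b)])
    have h15 := h7 t
    have h16 := h8 t
    generalize sh (s i) (eich P x (t • d)).1 = y at *
    exact hB (y * (z * y * z⁻¹)) (mul_mem h16 (mul_mem (mul_mem hz h16) (inv_mem hz)))
      (by rw [Commute, SemiconjBy]; nth_rw 2 [h14.eq]
          simp only [inv_eq_of_mul_eq_one_right h1, mul_assoc, ← mul_assoc z z, h1, one_mul, mul_one])
      (by rw [h14.mul_pow, conj_pow, h15]; simp)
  obtain ⟨t, ht, ht'⟩ := exists_t (K.hq' h3)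
  have h2 := H.h2
  have h14 := sub_ne_zero.2 ht'
  simp only [h9, mul_add, add_mul, mul_one, one_mul, coe_mul_inv, mul_smul_comm, smul_mul_assoc,
    hα.conj x] at k
  convert B.smul_mem (add_mem (sub_mem (add_mem (k t) (k (-t))) (B.smul_mem (add_mem (k 1) (k (-1)))
    (t * t))) (B.smul_mem B.one_mem (2 * (t * t - 1)))) (2 * t * t * (t * t - 1) * P d * P d)⁻¹
    using 1
  rw [eq_inv_smul_iff₀ (by simp [*])]
  module

theorem ns (hz : z ∈ X) (hW : z ∈ H.Wr) (h1 : z * z = 1)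
    (hf : ∀ l, Nm z (s l) (s l) → (z : End F V) ∈ Cm (s l))
    (hB : ∀ k ∈ X, Commute z k → k ^ ringChar F = 1 → ((g⁻¹ * k * g : V ≃ₗ[F] V) : End F V) ∈ Cm (s i)) :
    False := by
  classical
  have := Fintype.ofFinite T
  have := H.nt
  obtain ⟨π, α, hα⟩ := H.exists_perm hW
  have hπ : ∀ l, π (π l) = l := fun l => (H.nm_one (h1 ▸ (hα _).nm.mul (hα l).nm)).symm
  let B := (Cm (s i)).comap (g.symm.conjAlgEquiv F : End F V →ₐ[F] End F V)
  have key : ∀ S₀ : Finset T, ∃ S : Set T, (∀ l ∈ S₀, l ∈ S) ∧ (∀ l ∈ S, π l ∈ S) ∧ ∃ M ∈ B, M ≠ 0 ∧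
      (∀ l ∉ S, M ∈ Cm (s l)) ∧ ∀ l ∈ S, ∃ x, x ≠ 0 ∧ ∀ y, M y ∈ L (s l) x := fun S₀ => by
    induction S₀ using Finset.induction_on with
    | empty => exact ⟨∅, by simp, by simp, 1, one_mem _, one_ne_zero, fun _ _ => one_mem _, by simp⟩
    | insert l S₀ hl ih =>
      obtain ⟨S, h4, h5, M, h6, h7, h8, h9⟩ := ih
      by_cases h10 : l ∈ S
      · exact ⟨S, by simpa [h10] using h4, h5, M, h6, h7, h8, h9⟩
      have h11 : π l ∉ S := fun h => h10 (hπ l ▸ h5 _ h)
      obtain ⟨f, f1, f2, f3, ⟨x, hx, f4⟩, x', hx', f5⟩ := K.orbit h3 (B := B) hz h1 hB (hα l)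
        fun e => hf l (by simpa only [← e] using (hα l).nm)
      refine ⟨insert l (insert (π l) S), by simp +contextual [h4], by simp +contextual [h5, hπ],
        f * M, mul_mem f1 h6, fun e => h7 (f3 M (h8 _ h10) (h8 _ h11) e), fun m hm => ?_, ?_⟩
      · simp only [Set.mem_insert_iff, not_or] at hm
        exact mul_mem (f2 m hm.1 hm.2.1) (h8 m hm.2.2)
      · rintro m (rfl | rfl | hm)
        · exact ⟨x, hx, fun y => f4 _⟩
        · exact ⟨x', hx', fun y => f5 _⟩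
        · obtain ⟨y, hy, h12⟩ := h9 m hm
          exact ⟨y, hy, fun u => Cm_mem_L (f2 m (fun e => h10 (e ▸ hm)) fun e => h11 (e ▸ hm))
            (h12 u)⟩
  obtain ⟨S, h4, -, M, h6, h7, -, h9⟩ := key Finset.univ
  choose x hx h9 using fun l => h9 l (h4 l (Finset.mem_univ l))
  obtain ⟨y, hy⟩ : ∃ y, M y ≠ 0 := by
    by_contra! h; exact h7 (LinearMap.ext h)
  have h10 : ∀ u, u ≠ 0 → g.symm (M y) ∈ L (s i) u := fun u hu => by
    obtain ⟨φ, hφ⟩ : ∃ φ, r (s i) u φ (g.symm (M y)) ≠ 0 := by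
      by_contra! h; exact hy (by simpa using eq_zero_of_r hu h)
    have h11 := Cm_r_apply h6 u φ (g.symm y)
    obtain ⟨c, hc⟩ := Submodule.mem_span_singleton.1 (mem_span_of_L H.toTP hx hy (h9 · y)
      (h9 · (g (r (s i) u φ (g.symm y)))))
    simp [LinearEquiv.conjAlgEquiv_apply, ← hc] at h11
    rw [← h11] at hφ
    exact (Submodule.smul_mem_iff _ (left_ne_zero_of_smul hφ)).1 (h11 ▸ r_mem_L _ _ _)
  have := H.ntU
  obtain ⟨u, hu⟩ := exists_ne (0 : U)
  obtain ⟨u', hu', -⟩ := exists_not_mem_two (F := F) H.two u u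
  exact hy (by simpa using eq_zero_of_mem_L hu' (h10 u' fun e => hu' (by simp [e])) (h10 u hu))

end OW

end CfsgLib.C7O
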