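import Mathlib
import Cfsg.Agent.Lib.C7O.Ns
import Cfsg.Agent.Lib.PDApp.Crit

/-!
Overgroups of the stabiliser of a tensor power of `O₃`: conclusion.
-/

set_option autoImplicit false
set_option linter.unusedSectionVars false

namespace CfsgLib.C7O

section Grp

open Subgroup MulAction CfsgLib.StrEmb CfsgLib.PDApp CfsgLib.C7

theorem hyp_closed {G Ω : Type*} [Group G] [MulAction G Ω] [Finite G] [Finite Ω] [Nontrivial Ω]
    {D : Set G} (h : Hyp Ω D) {d e : G} (hd : d ∈ D) (he : e ∈ D) (hne : d ≠ e)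
    (hc : Commute d e) : ∃ w ∈ D, ∀ c : Ω, w • c = (d * e) • c := by
  let φ := MulAction.toPermHom G Ω
  let D' : Set φ.range := φ.rangeRestrict '' D
  have nt : ∀ x : G, (∃! a : Ω, x • a = a) → φ.rangeRestrict x ≠ 1 := fun x hx e =>
    let ⟨a, b, hab⟩ := exists_pair_ne Ω
    hab (hx.unique (congrArg (fun p : φ.range => p.1 a) e) (congrArg (fun p : φ.range => p.1 b) e))
  have hy : Hyp Ω D' := by
    refine ⟨?_, ?_, ?_, fun c => ?_, ?_⟩
    · rintro _ ⟨d, hd, rfl⟩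
      exact orderOf_eq_two (by rw [← map_mul, h.sq hd, map_one]) (nt d (h.uf d hd))
    · rintro _ ⟨d, hd, rfl⟩ y
      obtain ⟨g, rfl⟩ := φ.rangeRestrict_surjective y
      exact ⟨_, h.conj d hd g, by simp⟩
    · rintro _ ⟨d, hd, rfl⟩
      exact h.uf d hd
    · obtain ⟨d, hd, e⟩ := h.cover c
      exact ⟨_, ⟨d, hd, rfl⟩, e⟩
    rintro _ ⟨d, hd, rfl⟩ _ ⟨d', hd', rfl⟩ hne hc
    rw [← map_mul]
    have hxy : φ.rangeRestrict (d * d') * φ.rangeRestrict (d * d') = 1 := by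
      rw [map_mul, hc.symm.mul_mul_mul_comm, ← map_mul, ← map_mul, h.sq hd, h.sq hd']; simp
    have hn1 : φ.rangeRestrict (d * d') ≠ 1 := fun e2 => hne (by
      rw [← mul_right_cancel_iff (a := φ.rangeRestrict d'), ← map_mul, e2, ← map_mul, h.sq hd',
        map_one])
    obtain ⟨k, ho, h1, -⟩ := exists_central_of_even (h.sq hd) (h.sq hd') (even_iff_two_dvd.2
      (orderOf_eq_two hxy hn1 ▸ orderOf_map_dvd φ.rangeRestrict (d * d')))
    have hu := h.central_uf hd hd' ho h1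
    have e3 : φ.rangeRestrict ((d * d') ^ k) = φ.rangeRestrict (d * d') := by
      have hn := nt _ hu
      rw [map_pow] at hn ⊢
      rcases Nat.even_or_odd' k with ⟨j, rfl | rfl⟩
      · exact absurd (by rw [pow_mul, pow_two, hxy, one_pow]) hn
      · rw [pow_succ, pow_mul, pow_two, hxy, one_pow, one_mul]
    exact e3 ▸ hu
  obtain ⟨w, hw, e1⟩ := hy.closed ⟨d, hd, rfl⟩ ⟨e, he, rfl⟩ (fun e1 => nt _ (h.prod d hd e he hne hc)
    (by rw [map_mul, e1, ← map_mul, h.sq he, map_one])) (hc.map _)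
  exact ⟨w, hw, fun c => congrArg (fun p : φ.range => p.1 c) (e1.trans (map_mul ..).symm)⟩

variable {G ι : Type*} [Group G] [Finite G] {H : Subgroup G} {R : ι → G → Prop} (D : DH H R)
  (disj : ∀ {i j x}, R i x → R j x → i = j)
include D disj

theorem dh_comm {i j : ι} {a b m : G} (hij : i ≠ j) (ha : R i a) (hb : R j b)
    (hc : Commute (a * b) m) {n : ℕ} (hn : Odd n) (e : m ^ n = 1) : Commute a m := by
  have h1 := dh_cent D disj hij ha hb hc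
  obtain ⟨l, h2⟩ := D.conj ha h1
  obtain ⟨l', h3⟩ := D.conj hb h1
  have h4 : m * a * m⁻¹ * (m * b * m⁻¹) = a * b := by rw [conj_mul, ← hc.eq, mul_inv_cancel_right]
  rcases D.uniq hij ha hb h2 h3 h4 with h5 | h5
  · rw [h5, (D.comm hij ha hb).eq, mul_left_inj] at h4
    obtain ⟨k, rfl⟩ := hn
    have h6 : Commute a (m * m) := (mul_inv_eq_iff_eq_mul.1 (by
      nth_rw 2 [← h5]
      rw [← h4]; group : m * m * a * (m * m)⁻¹ = a)).symm
    have := h6.pow_right (k + 1)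
    rwa [← pow_two, ← pow_mul, show 2 * (k + 1) = 2 * k + 1 + 1 by ring, pow_succ, e,
      one_mul] at this
  · rw [h5, mul_left_inj] at h4
    exact (mul_inv_eq_iff_eq_mul.1 h4).symm

theorem dh_top (ne : ∀ {i x}, R i x → x ≠ 1)
    (mul : ∀ {i x y}, R i x → R i y → x ≠ y → Commute x y → R i (x * y))
    (uq : ∀ {i j a b g}, i ≠ j → R i a → R j b → g⁻¹ * (a * b) * g ∈ H → g ∈ H)
    (mv : ∀ {i a}, R i a → ∃ e, (∀ l d, l ≠ i → R l d → Commute e d) ∧ R i (a * (e * a * e⁻¹)))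
    {i j : ι} {a b : G} (hij : i ≠ j) (ha : R i a) (hb : R j b) : H = ⊤ := by
  by_contra hH
  have u1 : ∀ {i x}, R i x → Uq H x := fun hx =>
    ⟨D.mem hx, fun g hg => inv_mem_iff.1 (D.rig hx (by rwa [inv_inv]))⟩
  have hy := hyp_coset (H := H) (A := {x | ∃ i, R i x}) ⟨a, i, ha⟩
    (fun _ ⟨_, h⟩ => orderOf_eq_two (D.sq h) (ne h)) (fun _ ⟨_, h⟩ => u1 h)
    fun x ⟨l, hx⟩ y ⟨_, hy⟩ m hm h1 h2 => by
      obtain ⟨l', h3⟩ := D.conj hy hm
      by_cases e : l = l'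
      · exact u1 (mul hx (e ▸ h3) h1 h2)
      · exact ⟨mul_mem (D.mem hx) (D.mem h3), fun g => uq e hx h3⟩
  have : Nontrivial (G ⧸ H) := QuotientGroup.nontrivial_iff.2 hH
  obtain ⟨d, hd, e⟩ := hyp_closed hy (Group.subset_conjugatesOfSet ⟨i, ha⟩)
    (Group.subset_conjugatesOfSet ⟨j, hb⟩) (fun e => hij (disj ha (e ▸ hb))) (D.comm hij ha hb)
  have h1 : d⁻¹ * (a * b) ∈ H.normalCore := mem_normalCore_of_fix fun c => by
    rw [mul_smul, ← e, inv_smul_smul]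
  obtain ⟨l, hl⟩ := dh_mem D (y := d) (by
    obtain ⟨x, ⟨l, hx⟩, h2⟩ := Group.mem_conjugatesOfSet_iff.1 hd
    obtain ⟨g, rfl⟩ := isConj_iff.1 h2
    exact ⟨l, x, g, hx, rfl⟩) (inv_mem_iff.1 ((mul_mem_cancel_right
      (mul_mem (D.mem ha) (D.mem hb))).1 (H.normalCore_le h1)))
  wlog hi : l ≠ i generalizing i j a b
  · exact this hij.symm hb ha ((D.comm hij ha hb).eq ▸ e) ((D.comm hij ha hb).eq ▸ h1)
      fun e => hij ((not_not.1 hi).symm.trans e)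
  obtain ⟨e, h2, h3⟩ := mv ha
  have h4 : a * (e * a * e⁻¹) ∈ H.normalCore := by
    have h5 := mul_mem (inv_mem h1) (H.normalCore_normal.conj_mem _ h1 e)
    have h6 := h2 _ _ hi hl
    have h7 := h2 _ _ hij.symm hb
    rw [← conj_mul, ← conj_mul, h6.inv_right.mul_inv_cancel, h7.mul_inv_cancel] at h5
    convert H.normalCore_normal.conj_mem _ h5 b using 1
    rw [mul_inv_rev, mul_inv_rev, inv_inv, inv_eq_of_mul_eq_one_right (D.sq ha)]
    group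
  exact hH (eq_top_iff.2 fun g _ => D.rig h3 (h4 g))

end Grp

open Module CfsgLib.ClMax CfsgLib.ClMax.Ten CfsgLib.OrthE CfsgLib.OMax QuadraticMap CfsgLib.C7

variable {F U V : Type*} [Field F] [AddCommGroup U] [Module F U] [AddCommGroup V] [Module F V]
  {P : QuadraticForm F U} {Q : QuadraticForm F V} [FiniteDimensional F U] [FiniteDimensional F V]
  {X : Subgroup (V ≃ₗ[F] V)} {T : Type*} {s : T → End F U →ₐ[F] End F V} [Finite T] {i j l : T}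
  {a b g k z : V ≃ₗ[F] V} {v w : U} [Finite F] {H : OT s P Q}

theorem comm_of_Cm {x y : X} {s : End F U →ₐ[F] End F V} {c : End F U} (hx : (x.1 : End F V) = s c)
    (hy : (y.1 : End F V) ∈ Cm s) : Commute x y :=
  Subtype.ext (LinearEquiv.toLinearMap_injective (show (x.1 : End F V) * y.1 = y.1 * x.1 from
    hx ▸ mem_Cm.1 hy c))

namespace OW

variable (K : OW H X) (h3 : finrank F U = 3)
include K

theorem exists_sl (i : T) : ∃ (W : Submodule F V) (τ : W →ₗ[F] U →ₗ[F] V) (h : IsTensorProduct τ)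
    (R : QuadraticForm F W), Sl (s i) P Q h R ∧ 3 ≤ finrank F W ∧ Nontrivial W :=
  let ⟨W, τ, h, R, S, B⟩ := K.exists_ob i
  ⟨W, τ, h, R, S, B.ha, nontrivial_of_finrank_pos (R := F) (by have := B.ha; omega)⟩

theorem conj_ax (ha : AX P (s i) v a) (hX : a ∈ X) (hg : g ∈ X) (h : Nm g (s i) (s j)) :
    ∃ w, AX P (s j) w (g * a * g⁻¹) := by
  have := H.nt
  have := H.ntU
  obtain ⟨α, hα⟩ := h.nma
  obtain ⟨W, τ, h, R, S, -, _⟩ := K.exists_sl j
  refine ⟨α v, S.ax_iff.1 (ax_of S.flip (K.hX (mul_mem (mul_mem hg hX) (inv_mem hg)))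
    (φ := ((P v)⁻¹ • polarBilin P v) ∘ₗ α.symm) (by simpa using ha.two) fun u z => ?_)⟩
  have := LinearMap.congr_fun (hα.conj v _ ▸ (by
    simp [ha.eq, mul_sub, sub_mul, coe_mul_inv] : ((g * a * g⁻¹ : V ≃ₗ[F] V) : End F V) =
      g * r (s i) v ((P v)⁻¹ • polarBilin P v) * (g⁻¹ : V ≃ₗ[F] V) - 1)) (τ z u)
  exact this.trans (by simp [S.r_tau])

include h3

theorem mul_ax (ha : AX P (s i) v a) (hb : AX P (s i) w b) (hX : a * b ∈ X) (hne : a ≠ b)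
    (hc : Commute a b) : ∃ u, AX P (s i) u (a * b) := by
  obtain ⟨W, τ, h, R, S, -, _⟩ := K.exists_sl i
  simp only [← S.ax_iff] at *
  exact ha.mul S.flip h3 hb (K.hX hX) hne hc

theorem exists_comm (hk : k ∈ X) (h : Nm k (s i) (s i)) (h1 : k * k = 1) :
    ∃ t ∈ X, ∃ v, AX P (s i) v t ∧ Commute t k := by
  have := H.nt
  have := H.ntU
  obtain ⟨W, τ, h', R, S, hW, _⟩ := K.exists_sl i
  obtain ⟨t, ht, v, h2, h4⟩ := C7O.exists_comm S.flip h3 hW (K.hq' h3) (K.hX hk)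
    (Kron_flip (τ := τ) ▸ S.mem_Kron h) h1
  exact ⟨_, S.lhom_sh t ▸ K.sh_mem i ht, v, S.ax_iff.1 h2, h4⟩

theorem exists_ax (i : T) : ∃ t ∈ X, ∃ v, AX P (s i) v t :=
  let ⟨t, ht, v, h, _⟩ := K.exists_comm h3 (one_mem _) (nm_of_Cm (one_mem _)) (one_mul _)
  ⟨t, ht, v, h⟩

theorem mv (ha : AX P (s i) v a) : ∃ e ∈ X, (∃ b, (e : End F V) = s i b) ∧
    ∃ w, AX P (s i) w (e * a * e⁻¹) ∧ a ≠ e * a * e⁻¹ ∧ Commute a (e * a * e⁻¹) := by
  obtain ⟨w, -, h1, h2⟩ := exists_norm_polar H.nP H.h2 (nd_top H.nP) (by simp [h3]) trivial ha.1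
    (P v) 0
  obtain ⟨c, -, h4, h5⟩ := exists_norm_polar H.nP H.h2 (nd_top H.nP) (by simp [h3]) trivial ha.1
    (2 * P v) 0
  have h6 : P (v - w) = 2 * P v := by rw [Q_sub, h1, h2]; ring
  have h7 := mul_ne_zero H.h2 ha.1
  have h8 : AX P (s i) w (sh (s i) (refl P (v - w) * refl P c).1 * a *
      (sh (s i) (refl P (v - w) * refl P c).1)⁻¹) := ⟨h1 ▸ ha.1, by
    rw [← map_inv, LinearEquiv.coe_toLinearMap_mul, LinearEquiv.coe_toLinearMap_mul, sh_coe, sh_coe,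
      ha.2, ← map_mul, ← map_mul, mul_neg, neg_mul, ← LinearEquiv.coe_toLinearMap_mul,
      ← LinearEquiv.coe_toLinearMap_mul, ← Subgroup.coe_inv, ← Subgroup.coe_mul, ← Subgroup.coe_mul,
      conj_refl, O_mul_apply, refl_apply_of_orth h5, refl_ap, h6]
    simp [pc h2, inv_mul_cancel₀ h7, -mul_inv_rev]⟩
  obtain ⟨W, τ, h, R, S, -, _⟩ := K.exists_sl i
  exact ⟨_, K.sh_mem i (refl_mem_E H.nP H.h3 (h6 ▸ h7) one_ne_zero (by simp [h4, h6])),
    ⟨_, sh_coe _ _⟩, w, h8, (S.ax_iff.2 ha).ne (S.ax_iff.2 h8) (Ten.flip h) H.h2 h2,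
    (S.ax_iff.2 ha).comm (S.ax_iff.2 h8) (Ten.flip h) h2⟩

variable (hE : ¬ E Q ≤ X.subgroupOf (O Q))
include hE

theorem cm_of_pow (ha : AX P (s i) v a) (hk : k ∈ X) (hc : Commute a k)
    (hp : k ^ ringChar F = 1) : (k : End F V) ∈ Cm (s i) := by
  have := H.nt
  have := H.ntU
  have : Fact (ringChar F).Prime := ⟨CharP.char_is_prime F _⟩
  obtain ⟨W, τ, h', R, S, hW, _⟩ := K.exists_sl i
  exact S.cm_of_rt (rt_of_pow S.flip h3 hW (S.ax_iff.2 ha) (K.hX hk) (Kron_flip (τ := τ) ▸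
    S.mem_Kron (K.sv hE h3 ha.1 ha.1 hk fun z hz => (ha.fix H.h2).1 (by
      rw [← LinearEquiv.mul_apply, hc.eq, LinearEquiv.mul_apply, (ha.fix H.h2).2 hz]))) hc hp)

theorem rig_nm (ha : AX P (s i) v a) (hX : a ∈ X) (hg : g ∈ X) (h : g * a * g⁻¹ ∈ H.Wr) :
    ∃ j, Nm g (s i) (s j) := by
  have := H.nt
  have := H.ntU
  have h1 := mul_mem (mul_mem hg hX) (inv_mem hg)
  have h2 : g * a * g⁻¹ * (g * a * g⁻¹) = 1 := by rw [conj_mul, ha.sq]; simp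
  obtain ⟨j, w, hw⟩ : ∃ j w, AX P (s j) w (g * a * g⁻¹) := by
    by_contra! h4
    refine K.ns h3 (i := i) (g := g) h1 h h2 (fun l hl => ?_) fun k hk h5 h6 => K.cm_of_pow h3 hE ha
      (mul_mem (mul_mem (inv_mem hg) hk) hg) (by simpa [mul_assoc] using h5.conj g⁻¹)
      (by simpa [h6] using conj_pow (a := g⁻¹) (b := k) (i := ringChar F))
    obtain ⟨W, τ, h, R, S, -, _⟩ := K.exists_sl i
    obtain ⟨W', τ', h', R', S', -, _⟩ := K.exists_sl l
    obtain ⟨Φ, hΦ⟩ := (S.ax_iff.2 ha).phi (Ten.flip h) H.h2 g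
    obtain ⟨w, hw⟩ | ⟨β, -, e⟩ := rec1 S'.flip h3 (K.hX h1) (Kron_flip (τ := τ') ▸ S'.mem_Kron hl)
      h2 (Φ := LinearEquiv.ofFinrankEq W W' (rank_eq h h') ∘ₗ Φ) fun x h4 h5 =>
        hΦ x h4 (by simpa using h5)
    · exact absurd (S'.ax_iff.1 hw) (h4 l w)
    · exact S'.cm_of_rt ⟨β, e⟩
  exact ⟨j, K.sv hE h3 ha.1 hw.1 hg fun z hz => (hw.fix H.h2).1 (by simp [(ha.fix H.h2).2 hz])⟩

theorem rig (ha : AX P (s i) v a) (hX : a ∈ X) (hg : g ∈ X) (h : g * a * g⁻¹ ∈ H.Wr) :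
    g ∈ H.Wr :=
  let ⟨_, hj⟩ := K.rig_nm h3 hE ha hX hg h
  K.mem_of_nm hE hg hj fun l => let ⟨t, ht, _, h⟩ := K.exists_ax h3 l
    ⟨t, ht, ⟨_, h.2⟩, K.rig_nm h3 hE h ht hg⟩

theorem dh : DH (H.Wr.subgroupOf X) fun i x => ∃ v, AX P (s i) v x.1 := by
  have := H.nt
  have := H.ntU
  have cm : ∀ {i j v} {x : V ≃ₗ[F] V}, i ≠ j → AX P (s j) v x → (x : End F V) ∈ Cm (s i) :=
    fun h hx => hx.2 ▸ H.comm h _
  have sq : ∀ {i v} {x : X}, AX P (s i) v x.1 → x * x = 1 := fun hx => Subtype.ext hx.sq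
  have rig : ∀ {i} {x g : X}, (∃ v, AX P (s i) v x.1) → g * x * g⁻¹ ∈ H.Wr.subgroupOf X →
      g ∈ H.Wr.subgroupOf X := fun {_ x g} ⟨_, hx⟩ h => K.rig h3 hE hx x.2 g.2 h
  refine ⟨fun ⟨_, h⟩ => H.mem_Wr_of_eq h.2, fun ⟨_, h⟩ => sq h, fun {i x g} ⟨_, hx⟩ hg => ?_,
    fun {i x y} ⟨_, hx⟩ ⟨_, hy⟩ => ?_, rig, fun {i j x y} hij ⟨_, hx⟩ ⟨_, hy⟩ => ?_,
    fun {i x y k} ⟨_, hx⟩ ⟨_, hy⟩ hne hc _ h1 h2 => ?_,
    fun {i j l l' x y a b} hij ⟨v, hx⟩ ⟨w, hy⟩ ⟨_, ha⟩ ⟨w', hb⟩ e => ?_, fun {i x} ⟨_, hx⟩ => ?_⟩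
  · exact let ⟨j, hj⟩ := hg i; ⟨j, K.conj_ax hx x.2 g.2 hj⟩
  · nth_rw 2 [← inv_eq_of_mul_eq_one_right (sq hy)]
    obtain ⟨j, hj⟩ := H.mem_Wr_of_eq hy.2 i
    refine K.conj_ax hx x.2 y.2 ?_
    by_cases e : j = i
    · exact e ▸ hj
    · exact absurd (H.nm_inj hj (nm_of_Cm (cm e hy))) (Ne.symm e)
  · exact comm_of_Cm hx.2 (cm hij hy)
  · have h4 := K.mul_ax h3 hx hy (x * y).2 (fun e => hne (Subtype.ext e)) (congrArg Subtype.val hc.eq)
    have h5 : k * x = x * k⁻¹ := by rw [← h1, ← mul_assoc, ← mul_assoc, sq hx, one_mul]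
    have h6 : k⁻¹ * y = y * k := by rw [← h2, mul_assoc, sq hy, mul_one]
    refine rig (x := x * y) h4 ?_
    rw [← mul_assoc, h5, mul_assoc x, h6, ← mul_assoc, mul_inv_cancel_right]
    exact let ⟨_, h⟩ := h4; H.mem_Wr_of_eq h.2
  · have key : ∀ {i j v w} {x y : X}, i ≠ j → AX P (s i) v x.1 → AX P (s j) w y.1 → a * b = x * y →
        l' ≠ j → b = x := fun {i j v w x y} hij hx hy e h1 => by
      have h2 : ∀ {m}, m ≠ l → m ≠ l' → ((x * y : X).1 : End F V) ∈ Cm (s m) := fun h h' =>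
        e ▸ mul_mem (cm h ha) (cm h' hb)
      obtain rfl : l = j := by
        by_contra h4
        refine hy.not_mem H.nP H.h3 ?_
        simpa [← mul_assoc, coe_inv_mul] using
          mul_mem (inv_mem_Cm (cm hij.symm hx)) (h2 (Ne.symm h4) h1.symm)
      obtain rfl : l' = i := by
        by_contra h4
        refine hx.not_mem H.nP H.h3 ?_
        simpa [mul_assoc, coe_mul_inv] using
          mul_mem (h2 hij (Ne.symm h4)) (inv_mem_Cm (cm hij hy))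
      have h4 : x * b = y * a := by
        have c : ∀ {x y : X} {v w}, AX P (s l') v x.1 → AX P (s l) w y.1 → x * y = y * x :=
          fun hx hy => comm_of_Cm hx.2 (cm hij hy)
        rw [← mul_one (x * b), ← sq ha, ← mul_assoc, mul_assoc x, c hb ha, e, ← mul_assoc, sq hx,
          one_mul]
      obtain ⟨c, hc⟩ := H.scalar (E := (x * b : X).1) fun m => by
        by_cases h : m = l'
        · exact h4 ▸ mul_mem (cm (h ▸ hij) hy) (cm (h ▸ hij) ha)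
        · exact mul_mem (cm h hx) (cm h hb)
      obtain ⟨u, hu, h5, h6⟩ := exists_ker_two H.h3 (polarBilin P v) (polarBilin P w')
      have h7 := hc
      rw [Subgroup.coe_mul, LinearEquiv.coe_toLinearMap_mul, hx.2, hb.2, ← map_mul, ← map_one (s l'),
        ← map_smul] at h7
      have h8 := LinearMap.congr_fun (s_inj h7) u
      simp only [neg_mul_neg, End.mul_apply, LinearEquiv.coe_coe, refl_apply_of_orth (pc h5),
        refl_apply_of_orth (pc h6), LinearMap.smul_apply, End.one_apply] at h8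
      obtain rfl : c = 1 := smul_left_injective F hu (h8.symm.trans (one_smul _ _).symm)
      exact mul_left_cancel ((Subtype.ext (LinearEquiv.toLinearMap_injective
        (hc.trans (one_smul _ _)))).trans (sq hx).symm)
    by_cases h : l' = j
    · exact .inr (key hij.symm hy hx (e.trans (comm_of_Cm hx.2 (cm hij hy))) (h ▸ hij.symm))
    · exact .inl (key hij hx hy e h)
  · obtain ⟨e, he, -, w, h1, h2, h4⟩ := K.mv h3 hx
    exact ⟨⟨e, he⟩ * x * ⟨e, he⟩⁻¹, ⟨w, h1⟩, fun e => h2 (congrArg Subtype.val e).symm,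
      Subtype.ext h4.symm.eq⟩

theorem le_three : X ≤ H.Wr := by
  have := H.nt
  have := K.nt
  have := finite_equiv (F := F) (V := V)
  have : Fact (ringChar F).Prime := ⟨CharP.char_is_prime F _⟩
  have D := K.dh h3 hE
  have disj : ∀ {i j} {x : X}, (∃ v, AX P (s i) v x.1) → (∃ v, AX P (s j) v x.1) → i = j :=
    fun ⟨_, h⟩ ⟨_, h'⟩ => by_contra fun e => h.not_mem H.nP H.h3 (h'.2 ▸ H.comm e _)
  obtain ⟨i, j, hij⟩ := exists_pair_ne T
  obtain ⟨a, ha, ha'⟩ := K.exists_ax h3 i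
  obtain ⟨b, hb, hb'⟩ := K.exists_ax h3 j
  refine Subgroup.subgroupOf_eq_top.1 (dh_top D disj
    (fun ⟨_, h⟩ e => h.not_mem H.nP H.h3 (e ▸ one_mem _))
    (fun {_ x y} ⟨_, hx⟩ ⟨_, hy⟩ h1 h2 => K.mul_ax h3 hx hy (x * y).2 (fun e => h1 (Subtype.ext e))
      (congrArg Subtype.val h2.eq)) (fun {i j a b g} hij ha hb h => ?_) (fun {i a} ⟨_, ha⟩ => ?_)
    hij (a := ⟨a, ha⟩) (b := ⟨b, hb⟩) ha' hb')
  · have h1 : g⁻¹ * (a * b) * g * (g⁻¹ * (a * b) * g) = 1 := by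
      rw [mul_assoc _ g, ← mul_assoc g, ← mul_assoc g, mul_inv_cancel, one_mul, ← mul_assoc,
        mul_assoc g⁻¹, (D.comm hij ha hb).symm.mul_mul_mul_comm, D.sq ha, D.sq hb]; simp
    have h2 : ∀ {k : X}, Commute (g⁻¹ * (a * b) * g) k → Commute (a * b) (g * k * g⁻¹) :=
      fun h4 => by simpa [mul_assoc] using h4.conj g
    by_contra h4
    refine K.ns h3 (i := i) (g := g.1⁻¹) (g⁻¹ * (a * b) * g).2 h (congrArg Subtype.val h1)
      (fun l hl => absurd ?_ h4) fun k hk h5 h6 => ?_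
    · obtain ⟨t, ht, v, h5, h6⟩ := K.exists_comm h3 (g⁻¹ * (a * b) * g).2 hl (congrArg Subtype.val h1)
      exact D.rig (x := ⟨t, ht⟩) ⟨v, h5⟩ (dh_cent D disj hij ha hb (h2 (Subtype.ext h6.symm.eq)))
    have h7 : (g * ⟨k, hk⟩ * g⁻¹) ^ ringChar F = 1 := by
      rw [conj_pow, show (⟨k, hk⟩ : X) ^ ringChar F = 1 from Subtype.ext h6]; simp
    obtain ⟨_, h8⟩ := id ha
    exact K.cm_of_pow h3 hE h8 (g * ⟨k, hk⟩ * g⁻¹).2 (congrArg Subtype.val (dh_comm D disj hij ha hb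
      (h2 (Subtype.ext h5.eq)) (odd_char H.h2 _) h7).eq) (congrArg Subtype.val h7)
  · obtain ⟨e, he, ⟨c, hc⟩, w, h1, h2, h4⟩ := K.mv h3 ha
    exact ⟨⟨e, he⟩, fun l d hl ⟨_, hd⟩ => comm_of_Cm hc (by rw [hd.2]; exact H.comm hl.symm _),
      K.mul_ax h3 ha h1 (mul_mem a.2 (mul_mem (mul_mem he a.2) (inv_mem he))) h2 h4⟩

end OW

end CfsgLib.C7O
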