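import Mathlib
import Cfsg.Agent.Lib.C7O.Fin3

/-!
The stabiliser of a tensor power of an odd-dimensional orthogonal space is maximal in `Ω`.
-/

set_option autoImplicit false
set_option linter.unusedSectionVars false

namespace CfsgLib.C7O

open Module CfsgLib.ClMax CfsgLib.ClMax.Ten CfsgLib.OrthE CfsgLib.OMax QuadraticMap CfsgLib.C7

universe u v

variable {F U : Type*} [Field F] [AddCommGroup U] [Module F U] {P : QuadraticForm F U}
  [FiniteDimensional F U] [Finite F]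

theorem comm_le_E {V : Type*} [AddCommGroup V] [Module F V] [FiniteDimensional F V]
    {Q : QuadraticForm F V} (hQ : Nondeg Q) (h3 : 3 ≤ finrank F V) : commutator (O Q) ≤ E Q :=
  let ⟨_, _, hu⟩ := hQ.exists_hyp_of_three h3
  hu.commutator_le_E hQ (hu.exists_nonsingular hQ h3)

theorem le_or (hq : finrank F U = 3 ∧ 5 ≤ Nat.card F ∨ 5 ≤ finrank F U) (n : ℕ) :
    ∀ {V : Type u} [AddCommGroup V] [Module F V] [FiniteDimensional F V] {T : Type v} [Finite T]
      {s : T → End F U →ₐ[F] End F V} {Q : QuadraticForm F V} (H : OT s P Q)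
      (X : Subgroup (V ≃ₗ[F] V)), Nat.card T = n → Odd (finrank F V) → X ≤ O Q →
      (∀ g ∈ commutator (O Q), g.1 ∈ H.Wr → g.1 ∈ X) → X ≤ H.Wr ∨ E Q ≤ X.subgroupOf (O Q) := by
  induction n using Nat.strong_induction_on with
  | _ n ih =>
  intro V _ _ _ T _ s Q H X hn ho hX hW
  rcases subsingleton_or_nontrivial T with hT | hT
  · refine .inl fun g _ i => ?_
    obtain ⟨a, ha⟩ := H.mem_range (E := g) (i := i) fun l hl => absurd (Subsingleton.elim _ _) hl
    exact H.mem_Wr_of_eq ha i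
  have := H.ntU
  have : Fact (ringChar F).Prime := ⟨CharP.char_is_prime F _⟩
  have K : OW H X := ⟨hT, hq, ho, hX, hW, fun j Γ hΓ => by
    obtain ⟨W, τ, h, R, s', S, H', e⟩ := H.split j
    let φ := (O Q).subtype.comp S.flip.rhom
    have hφ : ∀ α, (φ α : End F V) = lf h α.1 := S.lhom_eq
    have h1 : ∀ α, (φ α : End F V) ∈ Cm (s j) := fun α => hφ α ▸ S.lf_mem _
    have h2 : ∀ α : O R, α.1 ∈ H'.Wr → φ α ∈ H.Wr := fun α hα l => by
      by_cases hl : l = j
      · exact ⟨l, nm_of_Cm (hl ▸ h1 α)⟩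
      obtain ⟨m, hm⟩ := hα ⟨l, hl⟩
      refine ⟨m, fun a => let ⟨b, hb⟩ := hm a; ⟨b, ?_⟩⟩
      rw [hφ, e ⟨l, hl⟩, e m, ← map_mul, hb, map_mul]
    refine (ih _ (hn ▸ Finite.card_subtype_lt (x := j) (by simp)) H'
      ((Γ.comap φ).map (O R).subtype) rfl (Nat.odd_mul.1 (finrank_eq h ▸ ho)).1
      (Subgroup.map_subtype_le _) fun g hg hg' => ⟨g, hΓ _ (hW _ ?_ (h2 g hg')) (h1 g), rfl⟩).imp
      (fun h3 β h4 h5 h6 => ?_) fun h3 β h4 h5 h6 => ?_
    · exact Subgroup.commutator_mono le_top le_top (Subgroup.map_commutator ⊤ ⊤ S.flip.rhom ▸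
        Subgroup.mem_map_of_mem _ hg)
    · obtain ⟨α, rfl⟩ := S.eq_lhom h4 h5
      exact h2 α (h3 ⟨α, h6, rfl⟩)
    · obtain ⟨α, rfl⟩ := S.eq_lhom h4 h5
      obtain ⟨l, hl⟩ := exists_ne j
      obtain ⟨γ, h7, h8⟩ := h3 (comm_le_E H'.nQ (H'.three ⟨l, hl⟩) (mem_comm_of_odd H'.nQ H.h2
        (H'.three ⟨l, hl⟩) (g := α) (odd_char H.h2 (ringChar F)) (Subtype.ext
          (LinearEquiv.toLinearMap_injective (lf_inj h (by
            rw [← hφ, ← hφ, map_pow, map_one]; exact congrArg _ h6))))))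
      exact Subtype.ext h8 ▸ h7⟩
  exact or_iff_not_imp_right.2 fun hE => hq.elim (fun h => K.le_three h.1 hE) (K.le_big hE)

theorem OT.not_le {V T : Type*} [AddCommGroup V] [Module F V] [FiniteDimensional F V] [Finite T]
    {s : T → End F U →ₐ[F] End F V} {Q : QuadraticForm F V} (H : OT s P Q) {i j : T} (hij : i ≠ j) :
    ∃ x a, Q x = 0 ∧ polar Q x a = 0 ∧ (eich Q x a).1 ∉ H.Wr := by
  by_contra! h
  have := H.nt
  have : Fact (ringChar F).Prime := ⟨CharP.char_is_prime F _⟩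
  obtain ⟨x, y, hx⟩ := H.nP.exists_hyp_of_three H.h3
  obtain ⟨h1, h2⟩ := H.uni_mem hij hx.he x y
  have h3 := pb_ne H.nP hx.e_ne
  have c1 : nn P (s j) x y ∈ Cm (s i) := nn_eq (s := s j) ▸ H.comm hij _
  have h4 : nn P (s j) x y ∉ Cm (s j) := fun h => by
    have := Cm_r h x (polarBilin P x)
    simp only [mul_sub, sub_mul, r_mul, polarBilin_apply_apply, hx.hee, hx.hef, hx.hfe, one_smul,
      zero_smul, sub_zero, zero_sub, eq_neg_iff_add_eq_zero, ← two_smul F] at this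
    exact smul_ne_zero H.h2 (r_ne_zero hx.e_ne h3) this
  have h5 : ee P (s i) x * nn P (s j) x y ≠ 0 := fun e =>
    h4 (r_mul_eq_zero hx.e_ne h3 c1 e ▸ zero_mem _)
  obtain ⟨a, b, h6⟩ := H.rec_odd H.h2 (OrthE.E_le (H := H.Wr.subgroupOf (O Q)) h (comm_le_E H.nQ
    (H.three i) (mem_comm_of_odd H.nQ H.h2 (H.three i) (g := ⟨_, h2⟩) (odd_char H.h2 (ringChar F))
      (Subtype.ext (uni_pow h1))))) (uni_coe _ h1) h1 h5
  by_cases e : a = i
  · exact h4 (cm_cancel (H.comm hij) (smulRight_ne_zero hx.e_ne h3)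
      c1 (h6 ▸ H.comm (e ▸ hij.symm) b :))
  obtain ⟨θ, hθ⟩ := exists_dual_one_of_ne (F := F) hx.e_ne
  have := Cm_r (h6 ▸ H.comm (Ne.symm e) b) x θ
  rw [mul_assoc, Cm_r c1, r_mul', r_mul', hθ, one_smul] at this
  exact h5 (this.symm.trans (by simp [hx.he]))

open Cfsg Cfsg.Geo in
/-- The stabiliser of a tensor power of an odd-dimensional orthogonal space is maximal in `Ω`. -/
theorem isMaximalIn_omega_pow {F : Type*} [Field F] [Fintype F] (hodd : Odd (Fintype.card F))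
    {k t : ℕ} (hk : 3 ≤ k) (ht : 2 ≤ t) (hex : ¬ (Fintype.card F = 3 ∧ k = 3))
    {ι : Type} [Fintype ι] [DecidableEq ι] (hι : Odd (Fintype.card ι))
    {Q : QuadraticForm F (ι → F)} (hQ : Nondeg Q) {e : ι ≃ (Fin t → Fin k)} {P : GL ι F}
    {f₁ : (Fin k → F) → (Fin k → F) → F} (hf₁ : IsSymmetricForm f₁)
    (hT : IsTensorPowerFormStructure id (polar Q) f₁ e P) :
    IsMaximalIn (omegaGL ⇑Q) (tensorWreathSubgroup k t e P ⊓ omegaGL ⇑Q) := by
  have h2 := two_ne_zero_of_odd hodd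
  obtain ⟨c, hc, hτ⟩ := C7.form_pvc (σ := RingHom.id F) (Asch.isSesq0_of_bilin hf₁.bilinear) hT
  have hv := pv_sl e P
  have H : OT (sl e P) (NonMax.diagQF hf₁.bilinear) Q := ⟨tp_sl e P (by omega), h2,
    (nondeg_iff _).2 (NonMax.diagQF_nd h2 hf₁), hQ, by simpa, fun i a a' ha v w => by
      have key : ∀ xs ys, polar Q (sl e P i a (pvc e P xs)) (pvc e P ys) =
          polar Q (pvc e P xs) (sl e P i a' (pvc e P ys)) := fun xs ys => by
        have h1 := ha (xs i) (ys i)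
        rw [NonMax.polar_diagQF hf₁, NonMax.polar_diagQF hf₁] at h1
        rw [hv.act, hv.act, hτ, hτ, ← Finset.mul_prod_erase _ _ (Finset.mem_univ i),
          ← Finset.mul_prod_erase _ _ (Finset.mem_univ i), Function.update_self,
          Function.update_self, mul_left_cancel₀ h2 h1]
        congr 2
        exact Finset.prod_congr rfl fun j hj => by simp [Finset.ne_of_mem_erase hj]
      exact hv.ind (Z := LinearMap.eqLocus (polarBilin Q (sl e P i a v))
        (polarBilin Q v ∘ₗ sl e P i a')) (fun ys => hv.ind (Z := LinearMap.eqLocus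
          ((polarBilin Q).flip (pvc e P ys) ∘ₗ sl e P i a)
          ((polarBilin Q).flip (sl e P i a' (pvc e P ys)))) (key · ys) v) w⟩
  have hc : Fintype.card ι = k ^ t := by simp [Fintype.card_congr e]
  have h4 : Odd k := (Nat.odd_pow_iff (by omega)).1 (hc ▸ hι)
  refine isMaximalIn_omega hQ (hc ▸ le_trans (by nlinarith) (Nat.pow_le_pow_right (by omega) ht)) _
    (fun g => g.1 ∈ H.Wr) (fun g k hk => by rw [mem_Wr_sl e P (by omega) (by omega), hk])
    (H.not_le (i := ⟨0, by omega⟩) (j := ⟨1, by omega⟩) (by simp)) fun X _ hX g hg hg' => ?_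
  refine ((le_or ?_ _ H (X.map (O Q).subtype) rfl (by simpa) (Subgroup.map_subtype_le _)
    fun g h1 h2 => ⟨g, hX g h1 h2, rfl⟩).resolve_left fun h => hg' (h ⟨g, hg, rfl⟩)).trans
    fun g ⟨_, h1, h2⟩ => Subtype.ext h2 ▸ h1
  obtain ⟨a, rfl⟩ := h4
  obtain ⟨b, hb⟩ := hodd
  have := Fintype.one_lt_card (α := F)
  simp only [finrank_fintype_fun_eq_card, Fintype.card_fin, Nat.card_eq_fintype_card]
  omega

end CfsgLib.C7O
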