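import Mathlib
import Cfsg.Agent.Lib.C7O.Main

/-!
Four-dimensional orthogonal spaces of Witt index one: frames and similarities.
-/

set_option autoImplicit false
set_option linter.unusedSectionVars false

namespace CfsgLib.C7O

open Module CfsgLib.ClMax CfsgLib.ClMax.Ten CfsgLib.OrthE CfsgLib.OMax QuadraticMap CfsgLib.C7

variable {F U : Type*} [Field F] [AddCommGroup U] [Module F U] {P : QuadraticForm F U}

/-- A four-dimensional space of Witt index one. -/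
structure M4 (P : QuadraticForm F U) : Prop where
  nd : Nondeg P
  h2 : (2 : F) ≠ 0
  h4 : finrank F U = 4
  an : An P

/-- Two orthogonal nonsingular vectors. -/
structure Pr2 (P : QuadraticForm F U) (a b : U) : Prop where
  ha : P a ≠ 0
  hb : P b ≠ 0
  ab : polar P a b = 0

/-- An orthogonal frame. -/
structure Fr (P : QuadraticForm F U) (a b c d : U) : Prop extends Pr2 P a b where
  hc : P c ≠ 0
  hd : P d ≠ 0
  ac : polar P a c = 0
  ad : polar P a d = 0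
  bc : polar P b c = 0
  bd : polar P b d = 0
  cd : polar P c d = 0

/-- A similarity. -/
def Sim (P : QuadraticForm F U) (α : End F U) (μ : F) : Prop :=
  ∀ u w, polar P (α u) (α w) = μ * polar P u w

variable {a b c d e u v w x x' : U}

theorem Pr2.symm (h : Pr2 P a b) : Pr2 P b a := ⟨h.hb, h.ha, pc h.ab⟩

theorem Fr.swap (f : Fr P a b c d) : Fr P c d a b :=
  ⟨⟨f.hc, f.hd, f.cd⟩, f.ha, f.hb, pc f.ac, pc f.bc, pc f.ad, pc f.bd, f.ab⟩

theorem Fr.rot (f : Fr P a b c d) : Fr P b c d a :=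
  ⟨⟨f.hb, f.hc, f.bc⟩, f.hd, f.ha, f.bd, pc f.ab, f.cd, pc f.ac, pc f.ad⟩

theorem Sim.Q {α : End F U} {μ : F} (h : Sim P α μ) (h2 : (2 : F) ≠ 0) (u : U) :
    P (α u) = μ * P u := mul_left_cancel₀ h2 (by
  rw [← polar_self', h, polar_self']; ring)

theorem Sim.conj_refl {α : U ≃ₗ[F] U} {μ : F} (h : Sim P α μ) (h2 : (2 : F) ≠ 0) (hμ : μ ≠ 0)
    (u : U) : α * (refl P u).1 * α⁻¹ = (refl P (α u)).1 := LinearEquiv.ext fun z => by
  obtain ⟨z, rfl⟩ := α.surjective z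
  have e1 := h.Q h2 u
  have e2 := h u z
  simp only [LinearEquiv.coe_coe] at e1 e2
  simp only [LinearEquiv.mul_apply, inv_apply_apply, refl_ap, map_sub, map_smul, e1, e2]
  congr 2
  rw [mul_inv, mul_mul_mul_comm, inv_mul_cancel₀ hμ, one_mul]

variable [FiniteDimensional F U]

namespace M4

variable (M : M4 P)
include M

theorem h3 : 3 ≤ finrank F U := by rw [M.h4]; omega

theorem eq_zero (f : Fr P a b c d) {z : U} (h1 : polar P a z = 0) (h2 : polar P b z = 0)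
    (h3 : polar P c z = 0) (h4 : polar P d z = 0) : z = 0 := by
  have h7 : LinearIndependent F ![a, b, c, d] := by
    rw [Fintype.linearIndependent_iff]
    intro g hg i
    simp only [Fin.sum_univ_four, Matrix.cons_val] at hg
    fin_cases i
    · simpa [f.ab, f.ac, f.ad, M.h2, f.ha] using congrArg (polar P a) hg
    · simpa [pc f.ab, f.bc, f.bd, M.h2, f.hb] using congrArg (polar P b) hg
    · simpa [pc f.ac, pc f.bc, f.cd, M.h2, f.hc] using congrArg (polar P c) hg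
    · simpa [pc f.ad, pc f.bd, pc f.cd, M.h2, f.hd] using congrArg (polar P d) hg
  refine M.nd z fun y => ?_
  have hy : y ∈ Submodule.span F (Set.range ![a, b, c, d]) :=
    h7.span_eq_top_of_card_eq_finrank' (by simp [M.h4]) ▸ Submodule.mem_top
  obtain ⟨g, rfl⟩ := (Submodule.mem_span_range_iff_exists_fun F).1 hy
  simp [Fin.sum_univ_four, pc h1, pc h2, pc h3, pc h4]

theorem expand (f : Fr P a b c d) (z : U) : z = (polar P a z / (2 * P a)) • a +
    (polar P b z / (2 * P b)) • b + (polar P c z / (2 * P c)) • c +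
      (polar P d z / (2 * P d)) • d := by
  have h2 := M.h2
  have ha := f.ha
  have hb := f.hb
  have hc := f.hc
  have hd := f.hd
  refine sub_eq_zero.1 (M.eq_zero f ?_ ?_ ?_ ?_) <;>
    simp [f.ab, f.ac, f.ad, f.bc, f.bd, f.cd, pc f.ab, pc f.ac, pc f.ad, pc f.bc, pc f.bd,
      pc f.cd] <;> field_simp <;> ring

theorem ext (f : Fr P a b c d) {N : Type*} [AddCommGroup N] [Module F N] {g k : U →ₗ[F] N}
    (h1 : g a = k a) (h2 : g b = k b) (h3 : g c = k c) (h4 : g d = k d) : g = k :=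
  LinearMap.ext fun z => by rw [M.expand f z]; simp only [map_add, map_smul, *]

theorem plane (f : Fr P a b c d) {z : U} (h3 : polar P c z = 0) (h4 : polar P d z = 0) :
    ∃ s t : F, z = s • a + t • b := ⟨_, _, by simpa [h3, h4] using M.expand f z⟩

theorem line (f : Fr P a b c d) {z : U} (h2 : polar P b z = 0) (h3 : polar P c z = 0)
    (h4 : polar P d z = 0) : ∃ s : F, z = s • a := ⟨_, by simpa [h2, h3, h4] using M.expand f z⟩

theorem fr_hyp (h : Hyp P x x') (p : Pr2 P c d) (h1 : polar P x c = 0) (h2 : polar P x' c = 0)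
    (h3 : polar P x d = 0) (h4 : polar P x' d = 0) :
    Fr P (x' + (1 : F) • x) (x' + (-1 : F) • x) c d :=
  ⟨⟨by simp [h.Q_add_smul, -one_smul], by simp [h.Q_add_smul, -neg_smul],
    by simp [h.he, h.hf, h.hef, h.hfe]⟩, p.ha, p.hb, by simp [h1, h2], by simp [h3, h4],
    by simp [h1, h2], by simp [h3, h4], p.ab⟩

theorem mem_span (he : P e = 0) (h0 : e ≠ 0) (p : Pr2 P u w) (h1 : polar P e u = 0)
    (h2 : polar P e w = 0) (h3 : polar P e v = 0) (h4 : polar P u v = 0) (h5 : polar P w v = 0) :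
    v ∈ Submodule.span F {e} := by
  obtain ⟨y, h⟩ := M.nd.exists_hyp he h0
  have k : ∀ {u}, polar P e u = 0 → pr P e y u = u - polar P u y • e := fun h => by
    simp [pr_def, pc h]
  have k2 : ∀ {u w}, polar P e u = 0 → polar P e w = 0 →
      polar P (pr P e y u) (pr P e y w) = polar P u w := fun h h' => by
    simp [k h, k h', he, h', pc h]
  have k3 : ∀ {u}, polar P e u = 0 → P u ≠ 0 → P (pr P e y u) ≠ 0 := fun h h' e =>
    polar_self_ne M.h2 h' (by rw [← k2 h h, pself e])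
  have := M.eq_zero (M.fr_hyp h ⟨k3 h1 p.ha, k3 h2 p.hb, (k2 h1 h2).trans p.ab⟩ (h.e_pr _) (h.f_pr _)
    (h.e_pr _) (h.f_pr _)) (z := pr P e y v) (by simp [h.e_pr, h.f_pr]) (by simp [h.e_pr, h.f_pr])
    ((k2 h1 h3).trans h4) ((k2 h2 h3).trans h5)
  rw [k h3, sub_eq_zero] at this
  exact this ▸ Submodule.smul_mem _ _ (Submodule.mem_span_singleton_self _)

theorem exists_ne3 (a b c : U) :
    ∃ d, d ≠ 0 ∧ polar P a d = 0 ∧ polar P b d = 0 ∧ polar P c d = 0 := by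
  obtain ⟨d, -, h1, h2⟩ := OMax.exists_orth_not_mem M.nd ⊤ ⊥ [a, b, c] (by simp [M.h4])
  exact ⟨d, by simpa using h1, by simpa using h2⟩

theorem exists_ns2 (a b : U) : ∃ d, P d ≠ 0 ∧ polar P a d = 0 ∧ polar P b d = 0 := by
  by_contra! h
  have h' : ∀ d, polar P a d = 0 → polar P b d = 0 → P d = 0 := fun d h1 h2 =>
    by_contra fun h3 => h d h3 h1 h2
  obtain ⟨d, h0, h1, h2, -⟩ := M.exists_ne3 a b a
  obtain ⟨e, -, h3, h4⟩ := OMax.exists_orth_not_mem M.nd ⊤ (Submodule.span F {d}) [a, b]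
    (by simp [M.h4, finrank_span_singleton h0])
  simp only [List.mem_cons, List.not_mem_nil, or_false, forall_eq_or_imp, forall_eq] at h4
  refine h3 (M.an d e (h' d h1 h2) h0 (h' e h4.1 h4.2) ?_)
  simpa [Q_add, h' d h1 h2, h' e h4.1 h4.2] using h' (d + e) (by simp [h1, h4]) (by simp [h2, h4])

theorem exists_hyp3 (h : Hyp P x x') (u : U) :
    ∃ c, P c ≠ 0 ∧ polar P x c = 0 ∧ polar P x' c = 0 ∧ polar P u c = 0 := by
  obtain ⟨c, h0, h1, h2, h3⟩ := M.exists_ne3 x x' u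
  refine ⟨c, fun h4 => h0 ?_, h1, h2, h3⟩
  obtain ⟨s, rfl⟩ := Submodule.mem_span_singleton.1 (M.an x c h.he h.e_ne h4 h1)
  simp_all [h.hfe]

theorem exists_pr2 (h : Hyp P x x') : ∃ c d, Pr2 P c d ∧ polar P x c = 0 ∧ polar P x' c = 0 ∧
    polar P x d = 0 ∧ polar P x' d = 0 :=
  let ⟨c, h1, h2, h3, _⟩ := M.exists_hyp3 h 0
  let ⟨d, h4, h5, h6, h7⟩ := M.exists_hyp3 h c
  ⟨c, d, ⟨h1, h4, h7⟩, h2, h3, h5, h6⟩

theorem exists_fr3 (p : Pr2 P a b) (hc : P c ≠ 0) (h1 : polar P a c = 0) (h2 : polar P b c = 0) :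
    ∃ d, Fr P a b c d := by
  obtain ⟨d, h0, h3, h4, h5⟩ := M.exists_ne3 a b c
  refine ⟨d, p, hc, fun h6 => hc ?_, h1, h3, h2, h4, h5⟩
  obtain ⟨s, rfl⟩ := Submodule.mem_span_singleton.1
    (M.mem_span h6 h0 p (pc h3) (pc h4) (pc h5) h1 h2)
  simp [Q_smul, h6]

theorem exists_fr (p : Pr2 P a b) : ∃ c d, Fr P a b c d :=
  let ⟨c, h1, h2, h3⟩ := M.exists_ns2 a b
  ⟨c, M.exists_fr3 p h1 h2 h3⟩

theorem exists_fr1 (ha : P a ≠ 0) : ∃ b c d, Fr P a b c d :=
  let ⟨b, h1, h2, _⟩ := M.exists_ns2 a a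
  ⟨b, M.exists_fr ⟨ha, h1, h2⟩⟩

/-- A unipotent isometry moves some vector by a fixed singular vector. -/
theorem unip {α : End F U} (hα : Sim P α 1) (hn : IsNilpotent (α - 1)) {Z : Submodule F U}
    (hZ : ∀ v ∈ Z, α v ∈ Z) (h : ∀ v ∈ Z, ∀ e ∈ Z, P e = 0 → e ≠ 0 → polar P e v = 0 →
      (∀ z, α z = z → polar P z e = 0) → v ∈ Submodule.span F {e}) {b : U} (hb : b ∈ Z) :
    α b = b := by
  by_contra h0
  obtain ⟨a, h3, h4, h5⟩ : ∃ a ∈ Z, α a - a ≠ 0 ∧ α (α a - a) = α a - a := by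
    by_contra! h4
    obtain ⟨n, hn⟩ := hn
    have : ∀ k : ℕ, ((α - 1) ^ k : End F U) b ∈ Z ∧ ((α - 1) ^ (k + 1) : End F U) b ≠ 0 :=
      fun k => by
        induction k with
        | zero => simpa [sub_eq_zero, hb] using h0
        | succ k ih =>
          rw [pow_succ'] at ih
          rw [pow_succ' _ (k + 1), pow_succ']
          exact ⟨sub_mem (hZ _ ih.1) ih.1, sub_ne_zero.2 (h4 _ ih.1 ih.2)⟩
    exact (this n).2 (by simp [pow_succ, hn])
  have k : ∀ z, α z = z → polar P z (α a - a) = 0 := fun z hz => by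
    rw [polar_sub_right, ← one_mul (polar P z a), ← hα z a, hz, sub_self]
  have h6 := hα.Q M.h2 a
  have h7 := k _ h5
  have h8 := sub_mem (hZ a h3) h3
  rw [← sub_add_cancel (α a) a] at h6
  generalize he : α a - a = e at *
  have h9 : P e = 0 := by simpa [M.h2] using h7
  obtain ⟨s, rfl⟩ := Submodule.mem_span_singleton.1
    (h a h3 e h8 h9 h4 (by simpa [Q_add, h9] using h6) k)
  simp [h5] at he
  exact h4 he.symm

variable [Finite F]

theorem skew {N : End F U} {t : F} (h1 : ∀ u w, polar P (N u) w = -polar P u (N w))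
    (h2 : ∀ u, N (N u) = t • u) : N = 0 := by
  have k : ∀ u, polar P u (N u) = 0 := fun u =>
    mul_left_cancel₀ M.h2 (by linear_combination h1 u u - polar_comm P (N u) u)
  obtain ⟨s, hs⟩ := scalar_of_sing M.nd M.h2 M.h3 (e := N) fun u hu => by
    by_cases h0 : u = 0
    · simp [h0]
    exact M.an u _ hu h0 (by simpa [h2, hu, M.h2] using h1 u (N u)) (k u)
  obtain ⟨v, -, hv⟩ := exists_nonsing M.nd (S := ⊤) (by simp [M.h4])
  have : s = 0 := by simpa [hs, M.h2, hv] using k v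
  exact LinearMap.ext fun u => by simp [hs, this]

theorem nsq (f : Fr P a b c d) : ¬ IsSquare (P a * P b * P c * P d) := fun ⟨r, hr⟩ => by
  have hb := f.hb
  have hr0 : r ≠ 0 := by rintro rfl; simp [f.ha, f.hb, f.hc, f.hd] at hr
  obtain ⟨s, t, h⟩ := Orth.exists_sq_add_sq_eq f.hc f.hd (-P a)
  obtain ⟨k, hk⟩ := Submodule.mem_span_singleton.1 (M.an (a + (s • c + t • d))
    (b + (P b / r) • ((-t * P d) • c + (s * P c) • d))
    (by simp [Q_add, Q_smul, f.ac, f.ad, f.cd, h])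
    (fun e => by simpa [f.ac, f.ad, f.ha, M.h2] using congrArg (polar P a) e)
    (by simp only [Q_add, Q_smul, polar_smul_right, polar_smul_left, polar_add_right, f.bc, f.bd,
          f.cd, smul_zero, add_zero]
        field_simp
        linear_combination P b * (P b * P c * P d * h - hr))
    (by simp [f.ab, f.ac, f.ad, pc f.bc, pc f.bd, f.cd, pc f.cd]; ring_nf))
  simpa [f.bc, f.bd, pc f.ab, f.hb, M.h2] using congrArg (polar P b) hk

theorem exists_val (p : Pr2 P a b) (t : F) (ht : t ≠ 0) : ∃ c d, Fr P a b c d ∧ P c = t := by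
  obtain ⟨c, d, f⟩ := M.exists_fr p
  obtain ⟨r, s, h⟩ := Orth.exists_sq_add_sq_eq f.hc f.hd t
  have h1 : P (r • c + s • d) = t := by simp [Q_add, Q_smul, f.cd, h]
  obtain ⟨e, g⟩ := M.exists_fr3 p (h1 ▸ ht) (by simp [f.ac, f.ad]) (by simp [f.bc, f.bd])
  exact ⟨_, e, g, h1⟩

theorem iso (f : Fr P a b c d) : (∃ x, x ≠ 0 ∧ P x = 0 ∧ polar P c x = 0 ∧ polar P d x = 0) ∨
    ∃ x, x ≠ 0 ∧ P x = 0 ∧ polar P a x = 0 ∧ polar P b x = 0 := by
  have k : ∀ {a b c d}, Fr P a b c d → IsSquare (-(P a * P b)) →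
      ∃ x, x ≠ 0 ∧ P x = 0 ∧ polar P c x = 0 ∧ polar P d x = 0 := fun {a b c d} f ⟨r, hr⟩ =>
    ⟨r • a + P a • b, fun e => by simpa [pc f.ab, f.ha, f.hb, M.h2] using congrArg (polar P b) e,
      by simp only [Q_add, Q_smul, polar_smul_left, polar_smul_right, f.ab, smul_zero, ← hr]; ring,
      by simp [pc f.ac, pc f.bc], by simp [pc f.ad, pc f.bd]⟩
  by_contra h
  rw [not_or] at h
  refine M.nsq f ?_
  convert (Orth.isSquare_mul_iff_of_finite (neg_ne_zero.2 (mul_ne_zero f.ha f.hb))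
    (neg_ne_zero.2 (mul_ne_zero f.hc f.hd))).2 (iff_of_false (fun e => h.1 (k f e))
      fun e => h.2 (k f.swap e)) using 1
  ring

theorem exists_sim (ha : P a ≠ 0) (hb : P b ≠ 0) :
    ∃ (δ : U ≃ₗ[F] U) (μ : F), μ ≠ 0 ∧ Sim P δ μ ∧ δ a = b := by
  have h2 := M.h2
  obtain ⟨a₂, a₃, a₄, f⟩ := M.exists_fr1 ha
  have hμ := div_ne_zero hb ha
  have h1 : P b = P b / P a * P a := by field_simp
  generalize P b / P a = μ at *
  obtain ⟨b₂, -, h3, h4⟩ := exists_norm_polar M.nd h2 (nd_top M.nd) (by simp [M.h4]) trivial hb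
    (μ * P a₂) 0
  obtain ⟨b₃, b₄, g, h5⟩ := M.exists_val ⟨hb, h3 ▸ mul_ne_zero hμ f.hb, h4⟩ _ (mul_ne_zero hμ f.hc)
  obtain ⟨r, hr⟩ := (Orth.isSquare_mul_iff_of_finite (by simp [f.ha, f.hb, f.hc, f.hd])
    (by simp [g.ha, g.hb, g.hc, g.hd])).2 (iff_of_false (M.nsq f) (M.nsq g))
  have h6 := f.hb
  have h7 := f.hc
  have h8 := f.hd
  have h9 := g.hd
  obtain ⟨b₄, g, h10⟩ : ∃ b₄, Fr P b b₂ b₃ b₄ ∧ P b₄ = μ * P a₄ := by
    have e : P ((r / (μ * P a * P a₂ * P a₃ * P b₄)) • b₄) = μ * P a₄ := by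
      rw [Q_smul]; field_simp; rw [h1, h3, h5] at hr; linear_combination -hr
    exact ⟨_, ⟨g.toPr2, g.hc, e ▸ mul_ne_zero hμ h8, g.ac, by simp [g.ad], g.bc, by simp [g.bd],
      by simp [g.cd]⟩, e⟩
  let δ : End F U := ((2 * P a)⁻¹ • polarBilin P a).smulRight b +
    ((2 * P a₂)⁻¹ • polarBilin P a₂).smulRight b₂ + ((2 * P a₃)⁻¹ • polarBilin P a₃).smulRight b₃ +
      ((2 * P a₄)⁻¹ • polarBilin P a₄).smulRight b₄
  have hδ : Sim P δ μ := fun u w => by
    conv_rhs => rw [M.expand f u]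
    simp [δ, g.ab, g.ac, g.ad, g.bc, g.bd, g.cd, pc g.ab, pc g.ac, pc g.ad, pc g.bc, pc g.bd,
      pc g.cd, h3, h5, h10]
    rw [h1]; field_simp
  exact ⟨LinearEquiv.ofInjectiveEndo δ (LinearMap.ker_eq_bot.1 (LinearMap.ker_eq_bot'.2
    fun u hu => M.nd u fun w => by simpa [hu, hμ] using hδ u w)), μ, hμ, hδ, by
      simp [δ, pc f.ab, pc f.ac, pc f.ad, inv_mul_cancel₀ (mul_ne_zero h2 ha), -mul_inv_rev]⟩

theorem exists_inv (hx : P x = 0) (hc : polar P x c = 0) :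
    ∃ σ ∈ E P, σ * eich P x c * σ⁻¹ = (eich P x c)⁻¹ := by
  by_cases h0 : x = 0
  · exact ⟨1, one_mem _, by simp [h0, eich_zero_left]⟩
  obtain ⟨y, h⟩ := M.nd.exists_hyp hx h0
  rw [h.eich_eq_pr hc, ← eich_neg]
  have h1 := h.pr_e c
  have h2 := h.pr_f c
  generalize pr P x y c = c at h1 h2
  by_cases hs : IsSquare (-1 : F)
  · obtain ⟨r, hr⟩ := hs
    have h3 : r ≠ 0 := by rintro rfl; simp at hr
    exact ⟨_, tor_mem_E M.nd M.h3 h h3, by
      rw [h.conj_tor_eich (mul_ne_zero h3 h3) h1 h2, ← hr, neg_one_smul]⟩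
  obtain ⟨a, b, p, h3, h4, h5, h6⟩ := M.exists_pr2 h
  have f := M.fr_hyp h p h3 h4 h5 h6
  have h7 := M.nsq f
  rw [h.Q_add_smul, h.Q_add_smul, one_mul, mul_assoc, Orth.isSquare_mul_iff_of_finite (by simp)
    (mul_ne_zero p.ha p.hb)] at h7
  obtain ⟨r, hr⟩ : IsSquare (P a * P b) := by tauto
  have h8 := p.ha
  have h9 : r ≠ 0 := by rintro rfl; simp [p.ha, p.hb] at hr
  obtain ⟨s, t, rfl⟩ := M.plane f.swap (z := c) (by simp [pc h1, pc h2]) (by simp [pc h1, pc h2])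
  exact ⟨_, refl_mem_E M.nd M.h3 p.ha (div_ne_zero h9 h8) (b := b) (by
    field_simp; linear_combination hr), by
      rw [conj_eich]
      simp [O_mul_apply, refl_apply_of_orth, refl_apply_self, h3, h5, p.ab, pc p.ab, p.ha,
        p.hb, add_comm]⟩

end M4

end CfsgLib.C7O
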