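import Mathlib
import Cfsg.Agent.Lib.C7O.Four

/-!
Four-dimensional orthogonal spaces of Witt index one: involutions.
-/

set_option autoImplicit false
set_option linter.unusedSectionVars false

namespace CfsgLib.C7O

open Module CfsgLib.ClMax CfsgLib.ClMax.Ten CfsgLib.OrthE CfsgLib.OMax QuadraticMap CfsgLib.C7

variable {F U : Type*} [Field F] [AddCommGroup U] [Module F U] {P : QuadraticForm F U}
  {a b c d e u v w x x' y y' z : U}

variable (P u w) in
/-- The product of two reflections. -/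
def iv : O P := refl P u * refl P w

variable (P u w) in
/-- The rotation of order four. -/
def bb : O P := refl P u * refl P (u - w)

/-- Two orthogonal vectors of the same norm. -/
structure PI (P : QuadraticForm F U) (a b : U) : Prop extends Pr2 P a b where
  eq : P b = P a

/-- A self-adjoint map with scalar square. -/
structure SA (P : QuadraticForm F U) (α : End F U) (l : F) : Prop where
  adj : ∀ u w, polar P (α u) w = polar P u (α w)
  sq : ∀ u, α (α u) = l • u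
  ne : l ≠ 0

theorem iv_fix (h1 : polar P u z = 0) (h2 : polar P w z = 0) : (iv P u w).1 z = z := by
  simp [iv, O_mul_apply, refl_ap, h1, h2]

theorem conj_iv (g : O P) (u w : U) : g * iv P u w * g⁻¹ = iv P (g.1 u) (g.1 w) := by
  rw [iv, ← conj_mul, conj_refl, conj_refl, iv]

theorem Sim.conj_iv {α : U ≃ₗ[F] U} {μ : F} (h : Sim P α μ) (h2 : (2 : F) ≠ 0) (hμ : μ ≠ 0)
    (u w : U) : α * (iv P u w).1 * α⁻¹ = (iv P (α u) (α w)).1 := by
  rw [iv, Subgroup.coe_mul, ← conj_mul, h.conj_refl h2 hμ, h.conj_refl h2 hμ]; rfl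

theorem orth_of_ev (h2 : (2 : F) ≠ 0) {α : End F U} (hα : Sim P α 1) (h1 : α y = y) (h3 : α z = -z) :
    polar P y z = 0 := by
  have := hα y z
  rw [h1, h3, polar_neg_right] at this
  exact mul_left_cancel₀ h2 (by linear_combination -this)

theorem sim_O (g : O P) : Sim P g.1 1 := fun u w => by simp [O_polar]

namespace Pr2

variable (p : Pr2 P u w)
include p

theorem iv_apply (z : U) : (iv P u w).1 z =
    z - ((P u)⁻¹ * polar P u z) • u - ((P w)⁻¹ * polar P w z) • w := by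
  simp [iv, O_mul_apply, refl_ap, p.ab]; abel

theorem iv_left : (iv P u w).1 u = -u := by
  rw [iv, O_mul_apply, refl_apply_of_orth p.ab, refl_apply_self p.ha]

theorem iv_right : (iv P u w).1 w = -w := by
  rw [iv, O_mul_apply, refl_apply_self p.hb, map_neg, refl_apply_of_orth (pc p.ab)]

theorem iv_comm : iv P w u = iv P u w := by
  rw [iv, iv]; exact (mul_inv_eq_iff_eq_mul.1 (by rw [conj_refl, refl_apply_of_orth (pc p.ab)])).symm

theorem iv_sq : iv P u w * iv P u w = 1 := by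
  nth_rw 1 [← p.iv_comm]
  rw [iv, iv, mul_assoc, ← mul_assoc (refl P u), refl_mul_self, one_mul, refl_mul_self]

theorem iv_iv (z : U) : (iv P u w).1 ((iv P u w).1 z) = z := by
  rw [← O_mul_apply, p.iv_sq]; rfl

theorem orth (h2 : (2 : F) ≠ 0) (h : (iv P u w).1 z = z) : polar P u z = 0 ∧ polar P w z = 0 :=
  ⟨pc (orth_of_ev h2 (sim_O _) h p.iv_left), pc (orth_of_ev h2 (sim_O _) h p.iv_right)⟩

theorem span (h2 : (2 : F) ≠ 0) (h : (iv P u w).1 z = -z) : ∃ s t : F, z = s • u + t • w :=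
  ⟨(P u)⁻¹ * polar P u z / 2, (P w)⁻¹ * polar P w z / 2, smul_right_injective _ h2 (by
    rw [p.iv_apply] at h
    simp only [smul_add, smul_smul, mul_div_cancel₀ _ h2]
    linear_combination (norm := module) h)⟩

theorem comm {α : End F U} (h1 : ∀ u w, polar P (α u) w = polar P u (α w)) {s t : F}
    (h2 : α u = s • u) (h3 : α w = t • w) : α * (iv P u w).1 = (iv P u w).1 * α :=
  LinearMap.ext fun z => by
    simp [p.iv_apply, ← h1, h2, h3, smul_smul, mul_comm, mul_left_comm]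

end Pr2

namespace PI

variable (p : PI P u w) (h2 : (2 : F) ≠ 0)
include p h2

theorem sub : P (u - w) ≠ 0 := by
  rw [Q_sub, p.eq, p.ab, sub_zero, ← two_mul]; exact mul_ne_zero h2 p.ha

theorem bb_left : (bb P u w).1 u = w := by
  rw [bb, O_mul_apply, refl_sub_apply p.eq.symm (p.sub h2), refl_apply_of_orth (pc p.ab)]

theorem bb_right : (bb P u w).1 w = -u := by
  rw [bb, O_mul_apply, ← refl_neg (u - w), neg_sub, refl_sub_apply p.eq
    (by rw [← neg_sub, Q_neg]; exact p.sub h2), refl_apply_self p.ha]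

end PI

theorem bb_fix (h1 : polar P u z = 0) (h2 : polar P w z = 0) : (bb P u w).1 z = z := by
  simp [bb, O_mul_apply, refl_ap, h1, h2]

theorem SA.sim {α : End F U} {l : F} (h : SA P α l) : Sim P α l := fun u w => by
  rw [h.adj, h.sq, polar_smul_right, smul_eq_mul]

theorem SA.no_ev {α : End F U} {l : F} (h : SA P α l) (hl : ¬ IsSquare l) {s : F}
    (e : α z = s • z) : z = 0 := by
  by_contra h0
  have := h.sq z
  rw [e, map_smul, e, smul_smul] at this
  exact hl ⟨s, (smul_left_injective F h0 this).symm⟩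

variable [FiniteDimensional F U]

namespace M4

variable (M : M4 P)
include M

theorem O_ext4 (f : Fr P a b c d) {g k : O P} (h1 : g.1 a = k.1 a) (h2 : g.1 b = k.1 b)
    (h3 : g.1 c = k.1 c) (h4 : g.1 d = k.1 d) : g = k :=
  O_ext (LinearMap.congr_fun (M.ext f (g := (g.1 : End F U)) (k := (k.1 : End F U)) h1 h2 h3 h4))

theorem iv_eq (p : Pr2 P u w) (q : Pr2 P y y') (h1 : (iv P u w).1 y = -y)
    (h2 : (iv P u w).1 y' = -y') : iv P y y' = iv P u w := by
  obtain ⟨c, d, f⟩ := M.exists_fr p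
  have hc := iv_fix f.ac f.bc
  have hd := iv_fix f.ad f.bd
  have k := fun {y z} h h' => pc (orth_of_ev M.h2 (sim_O (iv P u w)) (y := y) (z := z) h h')
  exact M.O_ext4 ⟨q, f.hc, f.hd, k hc h1, k hd h1, k hc h2, k hd h2, f.cd⟩
    (q.iv_left.trans h1.symm) (q.iv_right.trans h2.symm)
    ((iv_fix (k hc h1) (k hc h2)).trans hc.symm) ((iv_fix (k hd h1) (k hd h2)).trans hd.symm)

theorem iv_neg (f : Fr P a b c d) : ((iv P c d).1 : End F U) = -(iv P a b).1 :=
  M.ext f (by simp [iv_fix (pc f.ac) (pc f.ad), f.iv_left])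
    (by simp [iv_fix (pc f.bc) (pc f.bd), f.iv_right])
    (by simp [iv_fix f.ac f.bc, f.swap.iv_left]) (by simp [iv_fix f.ad f.bd, f.swap.iv_right])

theorem bb_sq (p : PI P u w) : bb P u w * bb P u w = iv P u w := by
  obtain ⟨c, d, f⟩ := M.exists_fr p.toPr2
  refine M.O_ext4 f ?_ ?_ ?_ ?_ <;>
    simp [O_mul_apply, p.bb_left M.h2, p.bb_right M.h2, p.iv_left, p.iv_right, bb_fix, iv_fix,
      f.ac, f.ad, f.bc, f.bd]

theorem eq_bb (p : PI P u w) {g : O P} (h1 : g * g = iv P u w)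
    (h2 : ∀ z, polar P u z = 0 → polar P w z = 0 → g.1 z = z) :
    g = bb P u w ∨ g = (bb P u w)⁻¹ := by
  obtain ⟨c, d, f⟩ := M.exists_fr p.toPr2
  have hc := h2 c f.ac f.bc
  have hd := h2 d f.ad f.bd
  have h3 : g.1 (g.1 u) = -u := by rw [← O_mul_apply, h1, p.iv_left]
  obtain ⟨s, hs⟩ := M.line f.rot (z := g.1 u) (by rw [← hc, O_polar, pc f.ac])
    (by rw [← hd, O_polar, pc f.ad]) (mul_left_cancel₀ M.h2 (by
      have := O_polar g (g.1 u) u
      rw [h3, polar_neg_left, polar_comm P (g.1 u)] at this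
      linear_combination -this))
  have h4 := O_map g u
  rw [hs, Q_smul, p.eq, mul_eq_right₀ p.ha, mul_self_eq_one_iff] at h4
  rw [hs, map_smul] at h3
  rcases h4 with rfl | rfl
  · exact .inl (M.O_ext4 f (by simp [hs, p.bb_left M.h2]) (by simpa [p.bb_right M.h2] using h3)
      (by rw [hc, bb_fix f.ac f.bc]) (by rw [hd, bb_fix f.ad f.bd]))
  · refine .inr (eq_inv_of_mul_eq_one_left (M.O_ext4 f ?_ ?_ ?_ ?_)) <;>
      simp_all [O_mul_apply, p.bb_left M.h2, p.bb_right M.h2, bb_fix, f.ac, f.ad, f.bc, f.bd]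

theorem exists_ev {α : End F U} (h : SA P α 1) : ∃ a b c d, Fr P a b c d ∧
    (∃ s : F, α a = s • a) ∧ (∃ s : F, α b = s • b) ∧ ∃ s : F, α c = s • c := by
  have k : ∀ w, P w ≠ 0 → ∃ z, P z ≠ 0 ∧ (∃ s : F, α z = s • z) ∧
      ∀ y, (∃ s : F, α y = s • y) → polar P y w = 0 → polar P y z = 0 := fun w hw => by
    by_cases h1 : P (w + α w) = 0
    · refine ⟨w - α w, fun h2 => hw ?_, ⟨-1, by simp [h.sq]⟩, fun y ⟨s, e⟩ h3 => by
        simp [← h.adj, e, h3]⟩
      rw [Q_add, h.sim.Q M.h2] at h1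
      rw [Q_sub, h.sim.Q M.h2] at h2
      exact mul_left_cancel₀ (mul_ne_zero M.h2 M.h2) (by linear_combination h1 + h2)
    · exact ⟨_, h1, ⟨1, by simp [h.sq, add_comm]⟩, fun y ⟨s, e⟩ h3 => by simp [← h.adj, e, h3]⟩
  obtain ⟨w, hw, -⟩ := M.exists_ns2 0 0
  obtain ⟨a, h1, h2, -⟩ := k w hw
  obtain ⟨w, hw, h3, -⟩ := M.exists_ns2 a a
  obtain ⟨b, h4, h5, h6⟩ := k w hw
  obtain ⟨w, hw, h7, h8⟩ := M.exists_ns2 a b
  obtain ⟨c, h9, h10, h11⟩ := k w hw
  obtain ⟨d, f⟩ := M.exists_fr3 ⟨h1, h4, h6 a h2 h3⟩ h9 (h11 a h2 h7) (h11 b h5 h8)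
  exact ⟨a, b, c, d, f, h2, h5, h10⟩

theorem diag (f : Fr P a b c d) {β : End F U} {μ : F} (h : Sim P β μ)
    (h1 : β * (iv P a b).1 = (iv P a b).1 * β) (h2 : β * (iv P a c).1 = (iv P a c).1 * β) :
    β * β = μ • 1 := by
  have p : Pr2 P a c := ⟨f.ha, f.hc, f.ac⟩
  have k : ∀ {g : O P} {y z}, β * g.1 = g.1 * β → g.1 y = y → g.1 z = -z →
      polar P y (β z) = 0 ∧ polar P z (β y) = 0 := fun {g y z} e h3 h4 =>
    ⟨orth_of_ev M.h2 (sim_O g) h3 ((LinearMap.congr_fun e z).symm.trans (by simp [h4])),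
      pc (orth_of_ev M.h2 (sim_O g) ((LinearMap.congr_fun e y).symm.trans (by simp [h3])) h4)⟩
  have k2 : ∀ {a}, P a ≠ 0 → (∃ s : F, β a = s • a) → (β * β) a = (μ • 1 : End F U) a :=
    fun {a} ha ⟨s, e⟩ => by
      have := h.Q M.h2 a
      rw [e, Q_smul, mul_left_inj' ha] at this
      simp [e, smul_smul, this]
  have c1 := iv_fix f.ac f.bc
  have d1 := iv_fix f.ad f.bd
  have b2 := iv_fix f.ab (pc f.bc)
  have d2 := iv_fix f.ad f.cd
  exact M.ext f
    (k2 f.ha (M.line f (k h2 b2 p.iv_left).1 (k h1 c1 f.iv_left).1 (k h1 d1 f.iv_left).1))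
    (k2 f.hb (M.line f.rot (k h1 c1 f.iv_right).1 (k h1 d1 f.iv_right).1 (k h2 b2 p.iv_left).2))
    (k2 f.hc (M.line f.swap (k h2 d2 p.iv_right).1 (k h1 c1 f.iv_left).2 (k h1 c1 f.iv_right).2))
    (k2 f.hd (M.line f.swap.rot (k h1 d1 f.iv_left).2 (k h1 d1 f.iv_right).2 (k h2 d2 p.iv_right).2))

theorem eq_one_of_hyp (h : Hyp P x x') {α : End F U} (hα : Sim P α 1) (hn : IsNilpotent (α - 1))
    (h1 : α x = x) (h2 : α x' = x') (z : U) : α z = z :=
  M.unip hα hn (Z := ⊤) (fun _ _ => trivial) (fun v _ e _ h3 h4 _ h5 => by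
    obtain ⟨s, rfl⟩ := Submodule.mem_span_singleton.1 (M.an x e h.he h.e_ne h3 (h5 x h1))
    have := h5 x' h2
    simp_all [h.hfe]) trivial

theorem eq_one_of_iv (p : Pr2 P u w) {α : End F U} (hα : Sim P α 1) (hn : IsNilpotent (α - 1))
    (h : α * (iv P u w).1 = (iv P u w).1 * α) : α = 1 := by
  have k : ∀ {u w}, Pr2 P u w → α * (iv P u w).1 = (iv P u w).1 * α → ∀ z, (iv P u w).1 z = z →
      α z = z := fun {u w} p h z hz =>
    M.unip hα hn (Z := fixSp (iv P u w)) (fun v hv => mem_fixSp.2 ((LinearMap.congr_fun h v).symm.trans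
      (congrArg α (mem_fixSp.1 hv)))) (fun v hv e he h1 h2 h3 _ =>
        have he := p.orth M.h2 (mem_fixSp.1 he)
        have hv := p.orth M.h2 (mem_fixSp.1 hv)
        M.mem_span h1 h2 p (pc he.1) (pc he.2) h3 hv.1 hv.2) (mem_fixSp.2 hz)
  obtain ⟨c, d, f⟩ := M.exists_fr p
  have h' : α * (iv P c d).1 = (iv P c d).1 * α := by rw [M.iv_neg f, mul_neg, neg_mul, h]
  exact M.ext f (k f.swap.toPr2 h' _ (iv_fix (pc f.ac) (pc f.ad)))
    (k f.swap.toPr2 h' _ (iv_fix (pc f.bc) (pc f.bd))) (k p h _ (iv_fix f.ac f.bc))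
    (k p h _ (iv_fix f.ad f.bd))

theorem scalar_of_ns {π : End F U} (h1 : ∀ u w, polar P (π u) w = polar P u (π w))
    (h : ∀ u w, Pr2 P u w → ∃ c : F, polar P u (π u) = c * polar P u u ∧
      polar P w (π w) = c * polar P w w) : ∃ c : F, π = c • 1 := by
  obtain ⟨v, hv, -⟩ := M.exists_ns2 0 0
  obtain ⟨v', hv', h2, -⟩ := M.exists_ns2 v v
  obtain ⟨c, hc, -⟩ := h v v' ⟨hv, hv', h2⟩
  have k : ∀ u, P u ≠ 0 → polar P u (π u) = c * polar P u u := fun u hu => by
    obtain ⟨z, h3, h4, h5⟩ := M.exists_ns2 u v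
    obtain ⟨a, h6, h7⟩ := h u z ⟨hu, h3, h4⟩
    obtain ⟨b, h8, h9⟩ := h v z ⟨hv, h3, h5⟩
    rw [h6, mul_right_cancel₀ (polar_self_ne M.h2 h3) (h7.symm.trans h9),
      mul_right_cancel₀ (polar_self_ne M.h2 hv) (h8.symm.trans hc)]
  have k2 : ∀ u, polar P u (π u) = c * polar P u u := fun u => by
    by_cases hu : P u = 0
    · obtain ⟨z, h3, h4, -⟩ := M.exists_ns2 u u
      have e1 := k (u + z) (by simpa [Q_add, hu, h4] using h3)
      have e2 := k (u - z) (by simpa [Q_sub, hu, h4] using h3)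
      have e3 := k z h3
      simp only [map_add, map_sub, polar_add_left, polar_add_right, polar_sub_left,
        polar_sub_right] at e1 e2
      exact mul_left_cancel₀ M.h2 (by linear_combination e1 + e2 - 2 * e3)
    · exact k u hu
  refine ⟨c, LinearMap.ext fun w => polar_ext M.nd fun u => mul_left_cancel₀ M.h2 ?_⟩
  have e := k2 (u + w)
  simp only [map_add, polar_add_left, polar_add_right, k2 u, k2 w, ← h1 w u, polar_comm P (π w),
    polar_comm P w u] at e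
  simp only [LinearMap.smul_apply, End.one_apply, polar_smul_right, smul_eq_mul]
  rw [← h1, polar_comm P (π u)] at *
  linear_combination e

theorem ki {α : End F U} {l : F} (h : SA P α l) (hl : ¬ IsSquare l) (hv : P v ≠ 0) :
    ∃ w, Pr2 P v w ∧ α * (iv P v w).1 = (iv P v w).1 * α ∧
      ∀ z, (iv P v w).1 z = -z → ∃ s t : F, z = s • v + t • α v := by
  have h2 := M.h2
  obtain ⟨r, hr⟩ : ∃ r, r = polar P v (α v) / (2 * P v) := ⟨_, rfl⟩
  obtain ⟨w, hw⟩ : ∃ w, w = α v - r • v := ⟨_, rfl⟩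
  have h1 : polar P v w = 0 := by simp [hw, hr]; field_simp; ring
  have e1 : α v = w + r • v := by simp [hw]
  have e2 : α w = (l - r * r) • v - r • w := by simp only [hw, map_sub, map_smul, h.sq]; module
  have e3 : P w = (l - r * r) * P v := by
    have := h.sim.Q h2 v
    rw [e1, Q_add, Q_smul, polar_smul_right, pc h1] at this
    linear_combination (norm := (simp; ring_nf)) this
  have h3 : l - r * r ≠ 0 := fun e => hl ⟨r, sub_eq_zero.1 e⟩
  have p : Pr2 P v w := ⟨hv, e3 ▸ mul_ne_zero h3 hv, h1⟩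
  refine ⟨w, p, LinearMap.ext fun z => ?_, fun z hz => ?_⟩
  · simp only [End.mul_apply, LinearEquiv.coe_coe, p.iv_apply, map_sub, map_smul, ← h.adj, e1, e2,
      e3, polar_add_left, polar_sub_left, polar_smul_left, smul_eq_mul]
    obtain ⟨k, rfl⟩ : ∃ k, l = k + r * r := ⟨l - r * r, by ring⟩
    rw [add_sub_cancel_right] at h3 ⊢
    match_scalars <;> field_simp <;> ring
  · obtain ⟨s, t, rfl⟩ := p.span h2 hz
    exact ⟨s - t * r, t, by rw [hw]; module⟩

variable [Finite F]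

theorem sa_of {α : End F U} {μ l : F} (h : Sim P α μ) (hμ : μ ≠ 0) (h1 : ∀ u, α (α u) = l • u) :
    SA P α l := by
  obtain ⟨v, hv, -⟩ := M.exists_ns2 0 0
  have h2 := h.Q M.h2 (α v)
  rw [h1, Q_smul, h.Q M.h2, ← mul_assoc, mul_left_inj' hv, mul_self_eq_mul_self_iff] at h2
  have h3 : ∀ u w, l * polar P (α u) w = μ * polar P u (α w) := fun u w => by
    rw [← h, h1, polar_smul_right, smul_eq_mul]
  rcases h2 with rfl | rfl
  · exact ⟨fun u w => mul_left_cancel₀ hμ (h3 u w), h1, hμ⟩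
  · have h4 := h.Q M.h2 v
    rw [M.skew (fun u w => mul_left_cancel₀ hμ (by linear_combination -h3 u w)) h1] at h4
    simp [hμ, hv] at h4

theorem exists_comm {α : End F U} {l : F} (h : SA P α l) :
    ∃ u w, Pr2 P u w ∧ α * (iv P u w).1 = (iv P u w).1 * α := by
  by_cases hl : IsSquare l
  · obtain ⟨r, rfl⟩ := hl
    have hr := left_ne_zero_of_mul h.ne
    obtain ⟨a, b, c, d, f, ⟨s, h1⟩, ⟨t, h2⟩, -⟩ := M.exists_ev (α := r⁻¹ • α)
      ⟨by simp [h.adj], fun u => by simp [h.sq, smul_smul, hr], one_ne_zero⟩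
    rw [LinearMap.smul_apply, inv_smul_eq_iff₀ hr, smul_smul] at h1 h2
    exact ⟨a, b, f.toPr2, f.comm h.adj h1 h2⟩
  · obtain ⟨v, hv, -⟩ := M.exists_ns2 0 0
    obtain ⟨w, h1, h2, -⟩ := M.ki h hl hv
    exact ⟨v, w, h1, h2⟩

theorem pi_false (p : PI P u w) (q : PI P y y') (h1 : (iv P u w).1 y = y)
    (h2 : (iv P u w).1 y' = y') : False :=
  M.nsq ⟨p.toPr2, q.ha, q.hb, (p.orth M.h2 h1).1, (p.orth M.h2 h2).1, (p.orth M.h2 h1).2,
    (p.orth M.h2 h2).2, q.ab⟩ ⟨P u * P y, by rw [p.eq, q.eq]; ring⟩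

theorem sign (p : Pr2 P u w) : ∃ y y', PI P y y' ∧ ∃ s : F, s * s = 1 ∧
    ((iv P u w).1 : End F U) = s • (iv P y y').1 := by
  have k : ∀ {u w}, Pr2 P u w → IsSquare (P u * P w) → ∃ w', PI P u w' ∧ iv P u w' = iv P u w :=
    fun {u w} p ⟨r, hr⟩ => by
      have h1 : r ≠ 0 := by rintro rfl; simp [p.ha, p.hb] at hr
      have h2 : P ((P u / r) • w) = P u := by rw [Q_smul]; field_simp; linear_combination P u * hr
      exact ⟨_, ⟨⟨p.ha, h2.trans_ne p.ha, by simp [p.ab]⟩, h2⟩, by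
        rw [iv, refl_smul (div_ne_zero p.ha h1), iv]⟩
  obtain ⟨c, d, f⟩ := M.exists_fr p
  by_cases h : IsSquare (P u * P w)
  · obtain ⟨w', h1, h2⟩ := k p h
    exact ⟨u, w', h1, 1, by simp, by simp [h2]⟩
  · have h3 := M.nsq f
    rw [mul_assoc, Orth.isSquare_mul_iff_of_finite (mul_ne_zero f.ha f.hb)
      (mul_ne_zero f.hc f.hd)] at h3
    obtain ⟨w', h1, h2⟩ := k f.swap.toPr2 (by tauto)
    exact ⟨c, w', h1, -1, by simp, by simp [h2, M.iv_neg f]⟩

theorem pi_mul (p : PI P u w) (q : PI P y y') (hne : iv P u w ≠ iv P y y')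
    (hc : Commute (iv P u w) (iv P y y')) : ∃ a b, PI P a b ∧ iv P u w * iv P y y' = iv P a b := by
  have h2 := M.h2
  have hc' : ∀ z, (iv P u w).1 ((iv P y y').1 z) = (iv P y y').1 ((iv P u w).1 z) := fun z => by
    rw [← O_mul_apply, hc.eq, O_mul_apply]
  have rot : ∀ {u w e}, PI P u w → P e ≠ 0 → (iv P u w).1 e = -e →
      ∃ e', PI P e e' ∧ iv P e e' = iv P u w := fun {u w e} p he h => by
    obtain ⟨s, t, rfl⟩ := p.span h2 h
    have h3 : P (-t • u + s • w) = P (s • u + t • w) := by simp [Q_add, Q_smul, p.ab, p.eq]; ring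
    have h4 : Pr2 P (s • u + t • w) (-t • u + s • w) :=
      ⟨he, h3 ▸ he, by simp [p.ab, pc p.ab, p.eq]; ring⟩
    exact ⟨_, ⟨h4, h3⟩, M.iv_eq p.toPr2 h4 h (by simp [p.iv_left, p.iv_right, add_comm])⟩
  obtain ⟨e, he, h3, h4⟩ : ∃ e, P e ≠ 0 ∧ (iv P u w).1 e = -e ∧ (iv P y y').1 e = -e := by
    obtain ⟨z, h3, h4, h5⟩ : ∃ z, P z ≠ 0 ∧ (iv P u w).1 z = -z ∧ (iv P y y').1 z ≠ z := by
      by_contra! h
      exact M.pi_false q p (h u p.ha p.iv_left) (h w p.hb p.iv_right)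
    refine ⟨z - (iv P y y').1 z, fun h6 => ?_, by rw [map_sub, hc', h4]; simp; abel,
      by simp [q.iv_iv]⟩
    obtain ⟨c, d, f⟩ := M.exists_fr p.toPr2
    have k := fun {c z} h h' => pc (orth_of_ev M.h2 (sim_O (iv P u w)) (y := c) (z := z) h h')
    have h7 : (iv P u w).1 ((iv P y y').1 z) = -(iv P y y').1 z := by rw [hc', h4, map_neg]
    have hc := iv_fix f.ac f.bc
    have hd := iv_fix f.ad f.bd
    obtain ⟨s, hs⟩ := Submodule.mem_span_singleton.1 (M.mem_span h6 (sub_ne_zero.2 h5.symm)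
      f.swap.toPr2 (v := z + (iv P y y').1 z) (by simp [k hc h4, k hc h7])
      (by simp [k hd h4, k hd h7]) (by simp [O_map, polar_comm P z])
      (by simp [pc (k hc h4), pc (k hc h7)]) (by simp [pc (k hd h4), pc (k hd h7)]))
    have h8 := congrArg P hs
    rw [Q_smul, h6, Q_add, O_map] at h8
    rw [Q_sub, O_map] at h6
    exact h3 (mul_left_cancel₀ (mul_ne_zero h2 h2) (by linear_combination h6 - h8))
  obtain ⟨a, h5, h6⟩ := rot p he h3
  obtain ⟨b, h7, h8⟩ := rot q he h4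
  have h9 : iv P u w * iv P y y' = iv P a b := by
    rw [← h6, ← h8, ← h5.iv_comm, iv, iv, mul_assoc, ← mul_assoc (refl P e), refl_mul_self, one_mul,
      iv]
  refine ⟨a, b, ⟨⟨h5.hb, h7.hb, by_contra fun h10 => hne ?_⟩, h7.eq.trans h5.eq.symm⟩, h9⟩
  have h11 := hc' b
  rw [← h6, ← h8, h7.iv_right, map_neg, h5.iv_apply, h7.ab] at h11
  simp only [mul_zero, zero_smul, sub_zero, map_sub, map_smul, h7.iv_right] at h11
  have h12 : (iv P e b).1 a = -a := smul_right_injective _ (mul_ne_zero (inv_ne_zero h5.hb) h10)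
    (by linear_combination (norm := module) h11)
  rw [← h6, ← h8, M.iv_eq h7.toPr2 h5.toPr2 h7.iv_left h12]

theorem kk (p : Pr2 P u w) {τ τ' : End F U} {l l' t : F} (h : SA P τ l) (h' : SA P τ' l')
    (hl : ¬ IsSquare l) (hl' : ¬ IsSquare l') (h1 : τ * (iv P u w).1 = (iv P u w).1 * τ)
    (h1' : τ' * (iv P u w).1 = (iv P u w).1 * τ') (h2 : τ * τ' = t • (τ' * τ)) :
    ∃ s : F, τ * τ' = s • 1 ∨ τ * τ' * (iv P u w).1 = s • 1 := by
  have h2' : ∀ z, τ (τ' z) = t • τ' (τ z) := LinearMap.congr_fun h2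
  obtain ⟨v, hv, -⟩ := M.exists_ns2 0 0
  have h3 : t * t = 1 := by
    have := congrArg P (h2' v)
    simp only [Q_smul, h.sim.Q M.h2, h'.sim.Q M.h2] at this
    exact mul_right_cancel₀ (mul_ne_zero h.ne (mul_ne_zero h'.ne hv)) (by linear_combination -this)
  obtain rfl : t = 1 := (mul_self_eq_one_iff.1 h3).resolve_right (by
    rintro rfl
    have := congrArg (P <| · v) (M.skew (N := τ * τ') (t := -(l * l'))
      (fun u w => by simp [h.adj, h'.adj, h2']) fun u => by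
        simp [h2', h.sq, h'.sq, smul_smul, mul_comm])
    simp [h.sim.Q M.h2, h'.sim.Q M.h2, h.ne, h'.ne, hv] at this)
  obtain ⟨s, hs⟩ := (Orth.isSquare_mul_iff_of_finite h.ne h'.ne).2 (iff_of_false hl hl')
  have hs0 : s ≠ 0 := by rintro rfl; simp [h.ne, h'.ne] at hs
  simp only [one_smul] at h2'
  have n1 : ∀ z, τ (τ' (τ (τ' z))) = (s * s) • z := fun z => by
    simp [h2', h.sq, h'.sq, smul_smul, ← hs, mul_comm]
  have k : ∀ {u w}, Pr2 P u w → τ * (iv P u w).1 = (iv P u w).1 * τ →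
      τ' * (iv P u w).1 = (iv P u w).1 * τ' → ∃ r : F, r * r = s * s ∧
        ∀ z, (iv P u w).1 z = z → τ (τ' z) = r • z := fun {u w} p h1 h1' => by
    by_cases h4 : ∀ z, (iv P u w).1 z = z → τ (τ' z) = s • z
    · exact ⟨s, rfl, h4⟩
    refine ⟨-s, by ring, fun z hz => by_contra fun h5 => h4 fun z' hz' => by_contra fun h6 => ?_⟩
    have c1 : ∀ z, (iv P u w).1 z = z → (iv P u w).1 (τ z) = τ z := fun z hz =>
      (LinearMap.congr_fun h1 z).symm.trans (congrArg τ hz)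
    have c2 : ∀ z, (iv P u w).1 z = z → (iv P u w).1 (τ' z) = τ' z := fun z hz =>
      (LinearMap.congr_fun h1' z).symm.trans (congrArg τ' hz)
    obtain ⟨a, h7, h8, h9⟩ : ∃ a, a ≠ 0 ∧ (iv P u w).1 a = a ∧ τ (τ' a) = s • a :=
      ⟨τ (τ' z) + s • z, fun e => h5 (by simpa using eq_neg_of_add_eq_zero_left e),
        by simp [c1, c2, hz], by simp only [map_add, map_smul, n1]; module⟩
    obtain ⟨b, h10, h11, h12⟩ : ∃ b, b ≠ 0 ∧ (iv P u w).1 b = b ∧ τ (τ' b) = -s • b :=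
      ⟨τ (τ' z') - s • z', sub_ne_zero.2 h6, by simp [c1, c2, hz'],
        by simp only [map_sub, map_smul, n1]; module⟩
    have o : ∀ a, τ (τ' a) = s • a → polar P b a = 0 := fun a ha => by
      have := (h.adj (τ' b) a).trans (h'.adj b (τ a))
      rw [h12, ← h2', ha] at this
      simp only [polar_smul_left, polar_smul_right, smul_eq_mul] at this
      exact mul_left_cancel₀ (mul_ne_zero M.h2 hs0) (by linear_combination -this)
    by_cases h13 : P b = 0
    · obtain ⟨r, rfl⟩ := Submodule.mem_span_singleton.1 (M.mem_span h13 h10 p (pc (p.orth M.h2 h11).1)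
        (pc (p.orth M.h2 h11).2) (o a h9) (p.orth M.h2 h8).1 (p.orth M.h2 h8).2)
      rw [map_smul, map_smul, h12, smul_comm] at h9
      exact mul_ne_zero M.h2 hs0 (by linear_combination -smul_left_injective F h7 h9)
    obtain ⟨d, f⟩ := M.exists_fr3 p h13 (p.orth M.h2 h11).1 (p.orth M.h2 h11).2
    obtain ⟨r, rfl⟩ := M.line f.swap.rot (p.orth M.h2 h8).1 (p.orth M.h2 h8).2 (o a h9)
    obtain ⟨r', e⟩ := M.line f.swap.rot (p.orth M.h2 (c1 _ h8)).1 (p.orth M.h2 (c1 _ h8)).2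
      (o _ (by rw [← h2', h9, map_smul]))
    exact h7 (h.no_ev hl (s := r' / r) (by
      rw [e, smul_smul, div_mul_cancel₀ _ (left_ne_zero_of_smul h7)]))
  obtain ⟨c, d, f⟩ := M.exists_fr p
  obtain ⟨r, e1, e2⟩ := k p h1 h1'
  obtain ⟨r', e3, e4⟩ := k f.swap.toPr2 (by rw [M.iv_neg f, mul_neg, neg_mul, h1])
    (by rw [M.iv_neg f, mul_neg, neg_mul, h1'])
  have a1 := e4 _ (iv_fix (pc f.ac) (pc f.ad))
  have a2 := e4 _ (iv_fix (pc f.bc) (pc f.bd))
  have a3 := iv_fix f.ac f.bc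
  have a4 := iv_fix f.ad f.bd
  refine ⟨r, (mul_self_eq_mul_self_iff.1 (e3.trans e1.symm)).imp (fun e => ?_) fun e => ?_⟩
  · exact M.ext f (e ▸ a1) (e ▸ a2) (e2 _ a3) (e2 _ a4)
  · exact M.ext f (by simp [p.iv_left, a1, e]) (by simp [p.iv_right, a2, e])
      (by simp [a3, e2 _ a3]) (by simp [a4, e2 _ a4])

theorem t3 {α : End F U} {l : F} (h : SA P α l) (hl : ¬ IsSquare l) : ∃ u w y y', Pr2 P u w ∧
    Pr2 P y y' ∧ α * (iv P u w).1 = (iv P u w).1 * α ∧ α * (iv P y y').1 = (iv P y y').1 * α ∧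
      ∃ s t : F, t ≠ 0 ∧ ∀ ρ : O P, ρ = iv P u w * iv P y y' * (iv P u w * iv P y y') →
        (ρ.1 : End F U) + (ρ⁻¹).1 = s • 1 + t • α := by
  have h2 := M.h2
  obtain ⟨v, hv, -⟩ := M.exists_ns2 0 0
  obtain ⟨w, h1, h3, h4⟩ : ∃ w, P w ≠ 0 ∧ P (v + w) ≠ 0 ∧ polar P v w = 0 ∧ polar P (α v) w = 0 := by
    obtain ⟨w, h1, h3, h4⟩ := M.exists_ns2 v (α v)
    by_cases h5 : P (v + w) = 0
    · refine ⟨α w, by simp [h.sim.Q h2, h.ne, h1], fun h6 => hl ⟨1, ?_⟩, h.adj v w ▸ h4, by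
        simp [h.sim v w, h3]⟩
      rw [Q_add, h.sim.Q h2, ← h.adj, h4] at h6
      rw [Q_add, h3] at h5
      exact mul_right_cancel₀ h1 (by linear_combination h6 - h5)
    · exact ⟨w, h1, h5, h3, h4⟩
  obtain ⟨v₁, p, c1, s1⟩ := M.ki h hl hv
  obtain ⟨v₂, q, c2, s2⟩ := M.ki h hl h3
  obtain ⟨w₁, p', c3, s3⟩ := M.ki h hl h1
  refine ⟨v, v₁, _, v₂, p, q, c1, c2, ?_⟩
  have c1' : ∀ z, (iv P v v₁).1 (α z) = α ((iv P v v₁).1 z) := fun z => (LinearMap.congr_fun c1 z).symm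
  have c2' : ∀ z, (iv P (v + w) v₂).1 (α z) = α ((iv P (v + w) v₂).1 z) :=
    fun z => (LinearMap.congr_fun c2 z).symm
  obtain ⟨a₁, b₁, e1⟩ := s1 _ p.iv_right
  obtain ⟨a₂, b₂, e2⟩ := s3 _ p'.iv_right
  have f : Fr P v v₁ w w₁ := ⟨p, h1, p'.hb, h4.1, by simp [e2, h4, ← h.adj], by simp [e1, h4],
    by simp [e1, e2, h4, ← h.adj, h.sq], p'.ab⟩
  have ex : ∀ {g : End F U}, g * α = α * g → g v = 0 → g w = 0 → g = 0 := fun {g} e h5 h6 => by
    have e' : ∀ z, g (α z) = α (g z) := LinearMap.congr_fun e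
    exact M.ext f h5 (by simp [e1, e', h5]) h6 (by simp [e2, e', h6])
  obtain ⟨c, d, f'⟩ := M.exists_fr q
  have i1 := p.iv_iv
  have i2 := q.iv_iv
  have i3 := p.iv_left
  have i4 := q.iv_left
  have i5 := iv_fix f.ac f.bc
  have i6 := iv_fix f'.ac f'.bc
  have i7 := inv_eq_of_mul_eq_one_right p.iv_sq
  have i8 := inv_eq_of_mul_eq_one_right q.iv_sq
  generalize iv P v v₁ = i, iv P (v + w) v₂ = j at *
  obtain ⟨σ, hσ⟩ : ∃ σ : End F U, ∀ z, σ z = i.1 (j.1 (i.1 (j.1 z))) + j.1 (i.1 (j.1 (i.1 z))) :=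
    ⟨(i * j * (i * j)).1 + (j * i * (j * i)).1, fun _ => rfl⟩
  obtain ⟨s, t, e3⟩ := s1 (σ v) (by simp [hσ, i1, i3, add_comm])
  have e4 : σ - (s • 1 + t • α) = 0 := by
    refine ex (LinearMap.ext fun z => by simp [hσ, c1', c2']) (by simp [e3]) ?_
    obtain ⟨a, b, e4⟩ := s2 ((σ - (s • 1 + t • α) : End F U) (v + w)) (by
      have : ∀ z, j.1 (σ z) = σ (j.1 z) := fun z => by simp [hσ, i2, add_comm]
      simp only [LinearMap.sub_apply, LinearMap.add_apply, LinearMap.smul_apply, End.one_apply,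
        map_sub j.1, map_add j.1 (s • _), map_smul, this, c2', i4, map_neg]
      module)
    rw [map_add, show (σ - (s • 1 + t • α) : End F U) v = 0 by simp [e3], zero_add] at e4
    have e5 : i.1 ((σ - (s • 1 + t • α) : End F U) w) = (σ - (s • 1 + t • α) : End F U) w := by
      simp [hσ, i1, i5, c1', add_comm]
    rw [e4] at e5
    simp only [map_add, map_smul, c1', i3, i5, map_neg] at e5
    have e6 : b • α v = -a • v :=
      smul_right_injective _ h2 (by linear_combination (norm := module) -e5)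
    obtain rfl : b = 0 := by_contra fun hb => ne_zero_of_Q hv (h.no_ev hl (s := b⁻¹ * -a) (by
      rw [← smul_smul, ← e6, inv_smul_smul₀ hb]))
    obtain rfl : a = 0 := by simpa [ne_zero_of_Q hv] using e6
    simpa using e4
  refine ⟨s, t, fun ht => ?_, fun ρ e => LinearMap.ext fun z => ?_⟩
  · have e5 := LinearMap.congr_fun (M.skew (N := (i * j).1 - (j * i).1) (t := s - 2)
      (fun a b => by simp [O_polar_left, i7, i8]) fun z => by
        have := LinearMap.congr_fun e4 z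
        simp [ht, hσ] at this
        simp [i1, i2]
        linear_combination (norm := module) this) (v + w)
    simp only [LinearMap.sub_apply, LinearEquiv.coe_coe, O_mul_apply, i4, map_neg, map_add i.1, i3,
      i5, map_add j.1 (-v), LinearMap.zero_apply] at e5
    rw [map_add] at i4
    have e6 := LinearMap.congr_fun (ex (g := j.1 + 1) (by rw [add_mul, mul_add, c2]; simp)
      (smul_right_injective _ h2 (by simp; linear_combination (norm := module) e5 + i4))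
      (smul_right_injective _ h2 (by simp; linear_combination (norm := module) i4 - e5))) c
    simp [i6, ← two_smul F, h2, ne_zero_of_Q f'.hc] at e6
  · rw [← sub_eq_zero.1 e4, hσ, e]
    simp [i7, i8]

end M4

end CfsgLib.C7O
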