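import Mathlib
import Cfsg.Agent.Lib.C7O.Four2

/-!
Tensor powers of a four-dimensional orthogonal space: conjugation by root elements.
-/

set_option autoImplicit false
set_option linter.unusedSectionVars false

namespace CfsgLib.C7O

open Module CfsgLib.ClMax CfsgLib.ClMax.Ten CfsgLib.OrthE CfsgLib.OMax QuadraticMap CfsgLib.C7

variable {F U V : Type*} [Field F] [AddCommGroup U] [Module F U] [AddCommGroup V] [Module F V]
  {P : QuadraticForm F U} {Q : QuadraticForm F V} [FiniteDimensional F U] [FiniteDimensional F V]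

section One

variable {s : End F U →ₐ[F] End F V} {y y' : U} {E N n : End F V}

theorem co_mul_Cm (hE : E ∈ Cm s) (φ : Dual F U) (z : U) : co s (N * E) φ z = co s N φ z * E := by
  simp only [co_def, Finset.sum_mul, mul_assoc, Cm_r hE]

variable (s P y y') in
/-- The maps raising the flag of `y` by at least one step. -/
def Sh3 : AddSubgroup (End F V) where
  carrier := {n | ee P s y * n = 0 ∧ n * ee P s y = 0 ∧
    (1 - r s y (polarBilin P y')) * n * (1 - r s y' (polarBilin P y)) = 0}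
  add_mem' ha hb := ⟨by rw [mul_add, ha.1, hb.1, add_zero], by rw [add_mul, ha.2.1, hb.2.1, add_zero],
    by rw [mul_add, add_mul, ha.2.2, hb.2.2, add_zero]⟩
  zero_mem' := by simp
  neg_mem' ha := ⟨by rw [mul_neg, ha.1, neg_zero], by rw [neg_mul, ha.2.1, neg_zero],
    by rw [mul_neg, neg_mul, ha.2.2, neg_zero]⟩

theorem Sh3_conj (hn : n ∈ Sh3 P s y y') (hE : E ∈ Cm s) (hN : N ∈ Cm s) :
    E * n * N ∈ Sh3 P s y y' := by
  have k : ∀ {E}, E ∈ Cm s → ∀ u φ, E * (1 - r s u φ) = (1 - r s u φ) * E := fun h u φ => by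
    rw [mul_sub, sub_mul, Cm_r h, mul_one, one_mul]
  refine ⟨by rw [← mul_assoc, ← mul_assoc, ← Cm_r hE, mul_assoc E, hn.1]; simp,
    by rw [mul_assoc, Cm_r hN, ← mul_assoc, mul_assoc E, hn.2.1]; simp, ?_⟩
  rw [mul_assoc, mul_assoc, k hN, ← mul_assoc, ← mul_assoc, ← mul_assoc, ← k hE, mul_assoc E,
    mul_assoc E, hn.2.2]
  simp

theorem Sh3_sq (h : Hyp P y y') (hn : n ∈ Sh3 P s y y') : r s y (polarBilin P y') * (n * n) = n * n ∧
    n * n * r s y' (polarBilin P y) = n * n ∧ n * (n * n) = 0 := by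
  have h1 : r s y' (polarBilin P y) * n = 0 := by
    simpa [h.hfe] using congrArg (r s y' (polarBilin P y') * ·) hn.1
  have h2 : n * r s y (polarBilin P y') = 0 := by
    simpa [h.hef, mul_assoc] using congrArg (· * r s y' (polarBilin P y')) hn.2.1
  have h3 := congrArg (· * n) hn.2.2
  have h4 := congrArg (n * ·) hn.2.2
  simp only [mul_assoc, sub_mul _ _ n, h1, one_mul, sub_zero, zero_mul, sub_mul, sub_eq_zero] at h3
  simp only [← mul_assoc, mul_sub n, h2, mul_one, sub_zero, mul_zero, mul_sub, sub_eq_zero] at h4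
  exact ⟨h3.symm, h4.symm, by rw [h3, ← mul_assoc, h2, zero_mul]⟩

theorem M4.step [Finite F] (M : M4 P) {A : AddSubgroup (End F V)}
    (hA : ∀ x c, P x = 0 → polar P x c = 0 → ∀ m ∈ A,
      s (eich P x c).1 * m * s (eich P x (-c)).1 ∈ A) (red : ∀ m ∈ A, m * m = 0 → m = 0)
    {m : End F V} (hm : m ∈ A) (h0 : m ∉ Cm s) :
    ∃ y y', Hyp P y y' ∧ ∃ n ∈ A, n ≠ 0 ∧ n ∈ Sh3 P s y y' := by
  have h2 := M.h2
  have k : ∀ y d, P y = 0 → polar P y d = 0 → (-(2 * P d)) • (ee P s y * m + m * ee P s y) -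
      (2 : F) • (nn P s y d * m * nn P s y d) + (2 * P d * P d) • (ee P s y * m * ee P s y) ∈ A :=
    fun y d hy hd => by
      have e1 := hA y ((1 : F) • d) hy (by simp [hd]) m hm
      have e2 := hA y ((-1 : F) • d) hy (by simp [hd]) m hm
      rw [← neg_smul, s_eich hy hd, s_eich hy hd, conj_exp] at e1 e2
      convert sub_mem (sub_mem (add_mem e1 e2) hm) hm using 1
      simp only [smul_mul_assoc, mul_smul_comm]
      module
  have k4 : ∀ {y y'}, Hyp P y y' → ee P s y * m * ee P s y = 0 := fun {y y'} h => by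
    obtain ⟨c, d, p, h1, -, h3, -⟩ := M.exists_pr2 h
    have e1 := k y (c + d) h.he (by simp [h1, h3])
    have e2 := k y (c - d) h.he (by simp [h1, h3])
    have e3 := k y c h.he h1
    have e4 := k y d h.he h3
    have h4 : (8 * P c * P d) • (ee P s y * m * ee P s y) ∈ A := by
      convert sub_mem (sub_mem (add_mem e1 e2) (add_mem e3 e3)) (add_mem e4 e4) using 1
      simp only [Q_add, Q_sub, p.ab, map_add, map_sub, LinearMap.add_apply, LinearMap.sub_apply,
        mul_add, mul_sub, add_mul, sub_mul]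
      module
    have h6 : (8 : F) ≠ 0 := by rw [show (8 : F) = 2 ^ 3 by norm_num]; exact pow_ne_zero _ h2
    exact (smul_eq_zero.1 (red _ h4 (by simp [mul_assoc, h.he]))).resolve_left
      (by simp [h6, p.ha, p.hb])
  obtain ⟨x, u, hx, h1, h3, h4⟩ : ∃ x u, P x = 0 ∧ x ≠ 0 ∧ polar P x u = 0 ∧
      co s m (polarBilin P x) u ≠ 0 := by
    by_contra! h
    exact h0 (cm_of_co M.nd h2 M.h3 h)
  obtain ⟨x', h⟩ := M.nd.exists_hyp hx h1
  obtain ⟨c, h5, h6, h7, h8⟩ := M.exists_hyp3 h u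
  have h9 : ∀ w φ E, r s w (polarBilin P x) * (m * (r s x φ * E)) = 0 := fun w φ E => by
    simpa [mul_assoc, h.hef, h.hfe] using
      congrArg (r s w (polarBilin P x') * · * (r s x' φ * E)) (k4 h)
  have h10 := fun w φ => h9 w φ 1
  simp only [mul_one] at h10
  refine ⟨x, x', h, _, k x c hx h6, fun e => h4 (r_mul_eq_zero h1 (pb_ne M.nd h1) (co_mem _ _ _) ?_),
    ?_, ?_, ?_⟩
  · have := congrArg (r s x (polarBilin P x') * · * r s u (polarBilin P x)) e
    simp [mul_sub, sub_mul, mul_add, add_mul, mul_assoc, h.hfe, h7, h3, pc h8, h9, h10, h2,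
      h5] at this
    rw [← r_co, mul_assoc, this]
  all_goals simp [mul_sub, sub_mul, mul_add, add_mul, mul_assoc, h.hef, h.hfe, h7, h6, pc h6, hx,
    h9, h10]

end One

variable {T : Type*} {s : T → End F U →ₐ[F] End F V}

/-- A commutative family normalised by the root elements of the other factors is scalar. -/
theorem OT.cl4 (H : OT s P Q) [Finite F] (M : M4 P) {i : T}
    {G : Set (End F V)} (hC : ∀ a ∈ G, a ∈ Cm (s i)) (hc : ∀ a ∈ G, ∀ b ∈ G, a * b = b * a)
    (hG : ∀ l ≠ i, ∀ x c, P x = 0 → polar P x c = 0 → ∀ a ∈ G,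
      s l (eich P x c).1 * a * s l (eich P x (-c)).1 ∈ G) {a : End F V} (ha : a ∈ G) :
    ∃ c : F, a = c • 1 := by
  have := H.nt
  let A := Subalgebra.centralizer F (Subalgebra.centralizer F G : Set (End F V))
  have hA : ∀ {a}, a ∈ A ↔ ∀ K, (∀ g ∈ G, g * K = K * g) → K * a = a * K := Iff.rfl
  have h1 : ∀ a ∈ A, ∀ b ∈ A, a * b = b * a := fun a ha b hb =>
    hA.1 hb a fun g hg => hA.1 ha g fun k hk => hc k hk g hg
  have inv : ∀ l x c, s l (eich P x c).1 * s l (eich P x (-c)).1 = 1 ∧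
      s l (eich P x (-c)).1 * s l (eich P x c).1 = 1 := fun l x c => by
    simp [← map_mul, eich_neg, coe_mul_inv, coe_inv_mul]
  have h3 : ∀ l ≠ i, ∀ x c, P x = 0 → polar P x c = 0 → ∀ a ∈ A,
      s l (eich P x c).1 * a * s l (eich P x (-c)).1 ∈ A := fun l hl x c hx hc a ha =>
    hA.2 fun K hK => by
      obtain ⟨e1, e2⟩ := inv l x c
      have hG := hG l hl x c hx hc
      generalize s l (eich P x c).1 = y, s l (eich P x (-c)).1 = y' at *
      have := hA.1 ha (y' * K * y) fun g hg => by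
        simpa only [mul_assoc, ← mul_assoc y' y, e2, one_mul, mul_one] using
          congrArg (y' * · * y) (hK _ (hG g hg))
      simpa only [mul_assoc, ← mul_assoc y y', e1, one_mul, mul_one] using
        congrArg (y * · * y') this
  have red : ∀ a ∈ A, a * a = 0 → a = 0 := by
    obtain ⟨Z, ⟨h4, h5⟩, h6⟩ := (wellFounded_lt (α := Submodule F V)).has_min
      {Z | Z ≠ ⊥ ∧ ∀ a ∈ A, ∀ v ∈ Z, a v ∈ Z} ⟨⊤, top_ne_bot, fun _ _ _ _ => trivial⟩
    obtain ⟨z, hz, hz0⟩ := (Submodule.ne_bot_iff Z).1 h4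
    let Z₀ : Submodule F V :=
      { carrier := {v | ∀ a ∈ A, a * a = 0 → a v = 0}
        add_mem' h1 h2 a ha h := by rw [map_add, h1 a ha h, h2 a ha h, add_zero]
        zero_mem' _ _ _ := map_zero _
        smul_mem' c v h1 a ha h := by rw [map_smul, h1 a ha h, smul_zero] }
    have h7 : z ∈ Z₀ := fun a ha h => by
      refine (eq_of_le_of_not_lt (inf_le_left (b := LinearMap.ker a)) (h6 _ ⟨?_, fun b hb v hv =>
        ⟨h5 b hb v hv.1, ?_⟩⟩)).ge hz |>.2
      · by_cases h8 : a z = 0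
        · exact (Submodule.ne_bot_iff _).2 ⟨z, ⟨hz, h8⟩, hz0⟩
        · exact (Submodule.ne_bot_iff _).2 ⟨a z, ⟨h5 a ha z hz, LinearMap.congr_fun h z⟩, h8⟩
      · change (a * b) v = 0
        rw [h1 a ha b hb, End.mul_apply, hv.2, map_zero]
    refine fun a ha h => LinearMap.ext fun v => H.eq_top (Z := Z₀) (fun l b => ?_) h7 hz0 v a ha h
    by_cases hl : l = i
    · intro v hv a ha h
      rw [← End.mul_apply, ← hA.1 ha _ fun g hg => (mem_Cm.1 (hl ▸ hC g hg) b).symm, End.mul_apply,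
        hv a ha h, map_zero]
    refine gen_E H.nP H.h2 H.h3
      { carrier := {b | ∀ v ∈ Z₀, s l b v ∈ Z₀}
        mul_mem' ha hb v hv := by rw [map_mul]; exact ha _ (hb v hv)
        add_mem' ha hb v hv := by rw [map_add]; exact Z₀.add_mem (ha v hv) (hb v hv)
        algebraMap_mem' c v hv := by rw [AlgHom.commutes]; exact Z₀.smul_mem c hv }
      (fun x c hx hc v hv a ha h => ?_) b
    obtain ⟨e1, e2⟩ := inv l x c
    have h8 := hv _ (h3 l hl x (-c) hx (by simp [hc]) a ha)
    rw [neg_neg] at h8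
    generalize s l (eich P x c).1 = y, s l (eich P x (-c)).1 = y' at *
    have h9 := congrArg y (h8 (by
      simp only [mul_assoc, ← mul_assoc y y', e1, one_mul, ← mul_assoc a a, h, zero_mul, mul_zero]))
    rwa [← End.mul_apply, ← mul_assoc, ← mul_assoc, e1, one_mul, map_zero] at h9
  refine H.scalar fun l => ?_
  by_cases hl : l = i
  · exact hl ▸ hC a ha
  by_contra h4
  obtain ⟨y, y', h, n, h5, h6, h7⟩ := M.step (A := A.toSubring.toAddSubgroup) (h3 l hl) red
    (hA.2 fun K hK => (hK a ha).symm) h4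
  exact h6 (red n h5 (red _ (mul_mem h5 h5) (by rw [mul_assoc, (Sh3_sq h h7).2.2, mul_zero])))

end CfsgLib.C7O
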