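import Mathlib
import Cfsg.Agent.Lib.C7O.Step

/-!
Overgroups of the stabiliser of a tensor power of an even-dimensional orthogonal space: there are no
skew maps.
-/

set_option autoImplicit false
set_option linter.unusedSectionVars false

namespace CfsgLib.C7O

open Module CfsgLib.ClMax CfsgLib.ClMax.Ten CfsgLib.OrthE CfsgLib.OMax QuadraticMap CfsgLib.C7

variable {F U V : Type*} [Field F] [AddCommGroup U] [Module F U] [AddCommGroup V] [Module F V]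
  {P : QuadraticForm F U} {Q : QuadraticForm F V} [FiniteDimensional F U] [FiniteDimensional F V]

theorem an_of_one {W : Type*} [AddCommGroup W] [Module F W] {τ : W →ₗ[F] U →ₗ[F] V}
    {h : IsTensorProduct τ} {R : QuadraticForm F W} [FiniteDimensional F W] (S : TenO R P Q h)
    (h1 : finrank F W = 1) (hP : An P) : An Q := by
  have : Nontrivial W := nontrivial_of_finrank_pos (R := F) (by omega)
  obtain ⟨w, hw⟩ := S.n₁.exists_nonsingular
  have k : ∀ v, ∃ u, v = τ w u := fun v => by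
    induction v using h.inductionOn with
    | zero => exact ⟨0, by simp⟩
    | tmul a b =>
      obtain ⟨c, rfl⟩ := (finrank_eq_one_iff_of_nonzero' w (ne_zero_of_Q hw)).1 h1 a
      exact ⟨c • b, by simp⟩
    | add a b ha hb =>
      obtain ⟨u, rfl⟩ := ha
      obtain ⟨u', rfl⟩ := hb
      exact ⟨u + u', by simp⟩
  intro x y h2 h3 h4 h5
  obtain ⟨u, rfl⟩ := k x
  obtain ⟨u', rfl⟩ := k y
  obtain ⟨c, rfl⟩ := Submodule.mem_span_singleton.1 (hP u u' (by simpa [S.Q_tau, S.two, hw] using h2)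
    (by rintro rfl; simp at h3) (by simpa [S.Q_tau, S.two, hw] using h4)
    (by simpa [S.eq, S.two, hw] using h5))
  exact Submodule.mem_span_singleton.2 ⟨c, by simp⟩

variable {T : Type*} {s : T → End F U →ₐ[F] End F V} [Finite T] [Finite F]

/-- An overgroup of the stabiliser of the decomposition. -/
structure OV (H : OT s P Q) (X : Subgroup (V ≃ₗ[F] V)) : Prop where
  nt : Nontrivial T
  hq : M4 P ∨ 5 ≤ finrank F U
  hX : X ≤ O Q
  hW : ∀ g ∈ commutator (O Q), g.1 ∈ H.Wr → g.1 ∈ X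
  di : ∀ j (Γ : Subgroup (V ≃ₗ[F] V)), (∀ g ∈ X, (g : End F V) ∈ Cm (s j) → g ∈ Γ) →
    (∀ β ∈ O Q, (β : End F V) ∈ Cm (s j) → β ∈ Γ → β ∈ H.Wr) ∨
      ∀ β ∈ O Q, (β : End F V) ∈ Cm (s j) → β ^ ringChar F = 1 → β ∈ Γ

variable {H : OT s P Q} {X : Subgroup (V ≃ₗ[F] V)} {i j : T} {x : U} {m : End F V}

namespace OV

variable (K : OV H X)
include K

theorem mem_odd {g : V ≃ₗ[F] V} (h1 : g ∈ O Q) (h2 : g ∈ H.Wr) {n : ℕ} (hn : Odd n)
    (e : g ^ n = 1) : g ∈ X :=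
  have := K.nt
  K.hW ⟨g, h1⟩ (mem_comm_of_odd H.nQ H.h2 (H.three (Classical.arbitrary T)) hn (Subtype.ext e)) h2

theorem mem_char {g : V ≃ₗ[F] V} (h1 : g ∈ O Q) (h2 : g ∈ H.Wr) (e : g ^ ringChar F = 1) : g ∈ X :=
  have : Fact (ringChar F).Prime := ⟨CharP.char_is_prime F _⟩
  K.mem_odd h1 h2 (odd_char H.h2 _) e

theorem sh_mem (i : T) {g : O P} (hg : g ∈ E P) : sh (s i) g.1 ∈ X :=
  OrthE.E_le (H := X.comap ((sh (s i)).comp (O P).subtype)) (fun u v hu hv =>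
    K.mem_char (H.sh_mem i _) (H.mem_Wr_of_eq (sh_coe _ _)) (by
      rw [← map_pow, eich_pow hu hv]; simp [eich_zero_right])) hg

theorem exists_ob' (i : T) : ∃ (W : Submodule F V) (τ : W →ₗ[F] U →ₗ[F] V) (h : IsTensorProduct τ)
    (R : QuadraticForm F W), Sl (s i) P Q h R ∧ OB R P Q h X ∧ (An R ∨ 5 ≤ finrank F W) := by
  obtain ⟨W, τ, h, R, s', S, H', -⟩ := H.split i
  have := K.nt
  obtain ⟨l, hl⟩ := exists_ne i
  refine ⟨W, τ, h, R, S, ⟨S.toTenO, H'.three ⟨l, hl⟩, H.h3, K.hX, fun {β} hβ =>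
    LinearEquiv.toLinearMap_injective ((sh_coe _ _).trans (S.rhom_eq β).symm) ▸ K.sh_mem i hβ⟩, ?_⟩
  obtain ⟨W', τ', h', R', s'', S', H'', -⟩ := H'.split ⟨l, hl⟩
  have := H''.nt
  have h1 := finrank_eq h'
  have h2 := finrank_pos (R := F) (M := W')
  have h3 := H.h3
  by_cases h4 : finrank F W' = 1
  · exact K.hq.imp (fun M => an_of_one S'.toTenO h4 M.an) fun h => by rwa [h1, h4, one_mul]
  · exact .inr (by nlinarith [show 2 ≤ finrank F W' by omega])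

theorem exists_ob (i : T) : ∃ (W : Submodule F V) (τ : W →ₗ[F] U →ₗ[F] V) (h : IsTensorProduct τ)
    (R : QuadraticForm F W), Sl (s i) P Q h R ∧ OB R P Q h X :=
  let ⟨W, τ, h, R, S, B, _⟩ := K.exists_ob' i
  ⟨W, τ, h, R, S, B⟩

theorem skew {hx : P x = 0} (hx0 : x ≠ 0) (hm : m ∈ Zj (s j) X hx) (a b : V) :
    polar Q (m a) b = -polar Q a (m b) := by
  obtain ⟨g, hg, e⟩ := hm.2.exists
  obtain ⟨y, hy⟩ := H.nP.exists_hyp hx hx0
  have k : ∀ u w a b, polar Q (m a) (r (s j) u (polarBilin P w) b) =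
      -polar Q a (m (r (s j) u (polarBilin P w) b)) := fun u w a b => by
    have := O_polar ⟨g, K.hX hg⟩ (r (s j) y (polarBilin P u) a) (r (s j) y (polarBilin P w) b)
    simp only [e, End.mul_apply, Cm_r_apply hm.1, r_r, polar_add_left, polar_add_right, H.adj_r,
      polarBilin_apply_apply, hy.hef, hy.hfe, hy.hee, hy.hff, one_smul, zero_smul,
      polar_zero_right] at this
    rw [Cm_r_apply hm.1]
    linear_combination this
  rw [← LinearMap.congr_fun (sum_r (s j)) b |>.trans (End.one_apply b)]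
  simp only [LinearMap.sum_apply, map_sum, ← polarBilin_apply_apply, ← Finset.sum_neg_distrib]
  refine Finset.sum_congr rfl fun l _ => ?_
  obtain ⟨w, hw⟩ := exists_polar_dual H.nP ((finBasis F U).coord l)
  exact hw ▸ k _ w a b

theorem z_move {hx : P x = 0} (hm : m ∈ Zj (s j) X hx) {g : O P} (hg : g ∈ E P) :
    UIn X (ee P (s j) (g.1 x) * m) :=
  hm.2.conj' (K.sh_mem j hg) (LinearMap.congr_fun (f := ee P (s j) (g.1 x) * m * s j g.1)
    (g := s j g.1 * (ee P (s j) x * m)) (by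
      rw [mul_assoc, ← mem_Cm.1 hm.1, ← mul_assoc, ← conj_ee, mul_assoc]))

theorem z_move' {hx : P x = 0} (hx0 : x ≠ 0) (hm : m ∈ Zj (s j) X hx) {y : U} (hy : P y = 0)
    (hy0 : y ≠ 0) : ∃ c : F, c ≠ 0 ∧ c • m ∈ Zj (s j) X hy := by
  obtain ⟨x', h⟩ := H.nP.exists_hyp hx hx0
  obtain ⟨g, hg, b, hb, e⟩ := h.exists_E_singular H.nP (h.exists_nonsingular H.nP H.h3) hx0 hy0 hx hy
  exact ⟨b * b, mul_ne_zero hb hb, Subalgebra.smul_mem _ hm.1 _,
    (K.z_move hm hg).of_eq (by simp [e, ee, smul_smul])⟩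

theorem z_conj {hx : P x = 0} (hm : m ∈ Zj (s j) X hx) {g : V ≃ₗ[F] V} (hg : g ∈ X)
    (h : Nma g (s j) (s i) 1) : g * m * (g⁻¹ : V ≃ₗ[F] V) ∈ Zj (s i) X hx :=
  have := H.nt
  have := H.ntU
  ⟨h.nm.conj_Cm hm.1 (by rw [mul_assoc, coe_inv_mul, mul_one]), (hm.2.conj hg).of_eq (by
    rw [← mul_assoc, h]; simp only [mul_assoc]; rfl)⟩

theorem z_eich {hx : P x = 0} (hm : m ∈ Zj (s j) X hx) (hij : i ≠ j) (y c : U) :
    s i (eich P y c).1 * m * s i (eich P y (-c)).1 ∈ Zj (s j) X hx := by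
  have := K.z_conj hm (K.sh_mem i (eich_mem_E y c)) (Cm_r (H.comm hij.symm _))
  rwa [← map_inv, ← Subgroup.coe_inv, ← eich_neg] at this

theorem E_le_of_big {hx : P x = 0} (hx0 : x ≠ 0) (hm : m ∈ Zj (s j) X hx) (hm0 : m ≠ 0)
    (hB : ∀ β ∈ O Q, (β : End F V) ∈ Cm (s j) → β ^ ringChar F = 1 → β ∈ Lf (s j) X x) :
    E Q ≤ X.subgroupOf (O Q) := by
  obtain ⟨W, τ, h, R, S, B, hU⟩ := K.exists_ob' j
  have := H.ntU
  obtain ⟨n, rfl⟩ := S.eq_lf hm.1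
  have hL : ∀ α ∈ E R, ∃ g ∈ X, ∀ u, g (τ u x) = τ (α.1 u) x := fun α hα => by
    obtain ⟨-, g, hg, e⟩ := OrthE.E_le (H := (Lf (s j) X x).comap ((O Q).subtype.comp S.flip.rhom))
      (fun u v hu hv => hB _ (Subtype.prop _) (S.lhom_eq _ ▸ S.lf_mem _) (pow_eich S.flip hu hv)) hα
    exact ⟨g, hg, fun u => (e _ (S.tau_mem u x)).trans (S.lhom_apply ..)⟩
  obtain ⟨u, hu0, hu, h1⟩ := B.wedge_of_Z (fun u d h1 h2 h3 h4 h5 =>
    hU.resolve_left fun e => h5 (e u d h2 h1 h3 h4)) hx hx0 hL (m := n) (hm.2.of_eq (ext h fun w z => by simp [S.r_tau]))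
    (by rintro rfl; simp at hm0)
  exact B.E_le_of_wedge (K.hq.imp_left M4.an) hx hx0 hL hu hu0 h1

variable (hS : ∀ j x, P x = 0 → x ≠ 0 → ∀ β ∈ O Q, (β : End F V) ∈ Cm (s j) → β ∈ Lf (s j) X x →
  β ∈ H.Wr)
include hS

theorem z_third {hx : P x = 0} (hx0 : x ≠ 0) (hm : m ∈ Zj (s j) X hx) (hij : i ≠ j)
    (h : m ∈ Cm (s i)) : m = 0 := by
  by_contra h0
  obtain ⟨g, hg, e⟩ := hm.2
  have h1 : (g : End F V) ∈ Cm (s i) := e ▸ add_mem (one_mem _) (mul_mem (H.r_mem hij _ _) h)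
  have h2 : ee P (s j) x * m ≠ 0 := fun e => h0 (r_mul_eq_zero hx0 (pb_ne H.nP hx0) hm.1 e)
  obtain ⟨a, b, h3⟩ := H.rec_odd H.h2 (hS i x hx hx0 g (K.hX hg) h1 ⟨h1, g, hg, fun _ _ => rfl⟩) e
    (by simp [mul_assoc, Cm_r' hm.1, hx]) h2
  obtain rfl : a = j := by
    by_contra h4
    obtain ⟨θ, hθ⟩ := exists_dual_one_of_ne (F := F) hx0
    have := Cm_r (h3 ▸ H.comm (Ne.symm h4) b) x θ
    simp [mul_assoc, Cm_r hm.1, hx, hθ] at this
    exact h2 this.symm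
  obtain ⟨c, rfl⟩ := H.scalar (E := m) fun l => by
    by_cases hl : l = a
    · exact hl ▸ hm.1
    · exact cm_cancel (H.comm (Ne.symm hl)) (smulRight_ne_zero hx0 (pb_ne H.nP hx0)) hm.1
        (h3 ▸ H.comm hl b :)
  have := H.nt
  obtain ⟨v, hv⟩ := H.nQ.exists_nonsingular
  have h4 := K.skew hx0 hm v v
  simp only [LinearMap.smul_apply, End.one_apply, polar_smul_left, polar_smul_right, smul_eq_mul,
    polar_self'] at h4
  exact left_ne_zero_of_smul h0 (mul_right_cancel₀ (mul_ne_zero (mul_ne_zero H.h2 H.h2) hv)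
    (by linear_combination h4))

variable (hT : ∀ i j : T, ∃ k, k ≠ i ∧ k ≠ j)
include hT

theorem z_sq {hx : P x = 0} (hx0 : x ≠ 0) (hm : m ∈ Zj (s j) X hx) (h : m * m = 0) : m = 0 := by
  by_contra h0
  obtain ⟨y, hy⟩ := H.nP.exists_hyp hx hx0
  obtain ⟨d, h1, h2, h3⟩ := hy.exists_nonsingular H.nP H.h3
  have k : ∀ a b : End F U, s j a * m * (s j b * m) = 0 := fun a b => by
    rw [mul_assoc, ← mul_assoc m, ← mem_Cm.1 hm.1, mul_assoc, h, mul_zero, mul_zero]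
  obtain ⟨g, hg, e⟩ := ((((K.z_move hm (eich_mem_E y d)).add (K.z_move hm (eich_mem_E y (-d)))
    (k _ _)).sub hm.2 (by simp only [add_mul, r_def, k, add_zero]) (k _ _)).sub hm.2
    (by simp only [add_mul, sub_mul, r_def, k, add_zero, sub_zero]) (k _ _)).exists
  have h4 : (-(2 * P d) • m) * (-(2 * P d) • m) = 0 := by simp [h]
  have h5 : (uni _ h4 : End F V) ∈ Cm (s j) := add_mem (one_mem _) (Subalgebra.smul_mem _ hm.1 _)
  have h6 := neg_ne_zero.2 (mul_ne_zero H.h2 h3)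
  obtain ⟨a, b, h7⟩ := H.rec_odd H.h2 (hS j y hy.hf hy.f_ne _ (mem_O_of_polar H.h2 fun v w => by
    simp [uni_apply, K.skew hx0 hm, ← End.mul_apply, h]) h5 ⟨h5, g, hg, fun v hv => by
      obtain ⟨θ, hθ⟩ := exists_dual_one_of_ne (F := F) hy.f_ne
      rw [← r_eq_of_mem_L hθ hv, e, uni_apply]
      simp only [hy.symm.eich_apply_f h2 h1, hy.symm.eich_apply_f (w := -d) (by simp [h2])
        (by simp [h1]), LinearMap.sub_apply, LinearMap.add_apply, End.mul_apply, Cm_r_apply hm.1,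
        r_r, polarBilin_apply_apply, polar_sub_left, polar_smul_left, polar_neg_left, hy.hef, h2,
        hy.hff, Q_neg]
      simp only [map_sub, map_smul, map_neg, LinearMap.sub_apply, LinearMap.smul_apply,
        LinearMap.neg_apply, Cm_r_apply hm.1]
      module⟩) (uni_coe _ _) h4 (smul_ne_zero h6 h0)
  obtain ⟨o, h8, h9⟩ := hT a j
  have h10 : -(2 * P d) • m ∈ Cm (s o) := h7 ▸ H.comm h8 b
  exact h0 (K.z_third hS hx0 hm h9
    (inv_smul_smul₀ h6 m ▸ (Cm (s o)).smul_mem h10 (-(2 * P d))⁻¹))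

end OV

namespace OV

variable (K : OV H X)
include K

theorem cyc {i j k : T} (hij : i ≠ j) (hik : i ≠ k) (hjk : j ≠ k) :
    ∃ g ∈ X, Nma g (s j) (s i) 1 := by
  obtain ⟨g, h1, h2, -, h3⟩ := H.exists_cycle hij hik hjk (X := O Q) fun _ _ _ => H.swap_mem
  rw [← Subgroup.map_subtype_commutator] at h1
  obtain ⟨g, h1, rfl⟩ := h1
  exact ⟨g, K.hW g h1 h2, h3⟩

section

variable (hS : ∀ j x, P x = 0 → x ≠ 0 → ∀ β ∈ O Q, (β : End F V) ∈ Cm (s j) → β ∈ Lf (s j) X x →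
  β ∈ H.Wr) (hT : ∀ i j : T, ∃ k, k ≠ i ∧ k ≠ j)
include hS hT

theorem z_big (h5 : 5 ≤ finrank F U) {hx : P x = 0} (hx0 : x ≠ 0) (hm : m ∈ Zj (s j) X hx) :
    m = 0 := by
  by_contra h0
  obtain ⟨l, hl, -⟩ := hT j j
  obtain ⟨y, c, T, h1⟩ := exists_tsp_ne H.nP H.h2 h5 fun h => h0 (K.z_third hS hx0 hm hl h)
  have e1 := K.z_eich hm hl y ((1 : F) • c)
  have e2 := K.z_eich hm hl y ((-1 : F) • c)
  rw [← neg_smul, s_eich T.sy T.orth, s_eich T.sy T.orth] at e1 e2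
  have h2 : nn P (s l) y c * nn P (s l) y c = 0 := by
    simpa [T.sc] using nn_sq (s := s l) T.sy T.orth
  generalize nn P (s l) y c = A at *
  have e3 : -(2 : F) • (A * m * A) ∈ Zj (s j) X hx := by
    convert sub_mem (sub_mem (add_mem e1 e2) hm) hm using 1
    simp only [T.sc, conj_exp, neg_zero, zero_smul, zero_mul, mul_zero]
    module
  exact smul_ne_zero (neg_ne_zero.2 H.h2) h1 (K.z_sq hS hT hx0 e3 (by
    simp [mul_assoc, ← mul_assoc A A, h2]))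

theorem z_four (M : M4 P) {hx : P x = 0} (hx0 : x ≠ 0) (hm : m ∈ Zj (s j) X hx) : m = 0 := by
  by_contra h0
  obtain ⟨l, hl, -⟩ := hT j j
  obtain ⟨o, ho, ho'⟩ := hT j l
  obtain ⟨y, y', h2, n, h4, h5, h6⟩ := M.step (fun y c _ _ _ h => K.z_eich h hl y c)
    (fun _ => K.z_sq hS hT hx0) hm fun h => h0 (K.z_third hS hx0 hm hl h)
  obtain ⟨z, z', h7, n, ⟨h11, h8⟩, h12, h9⟩ := M.step (A := Zj (s j) X hx ⊓ Sh3 P (s l) y y')
    (fun y c _ _ _ h => ⟨K.z_eich h.1 ho y c, Sh3_conj h.2 (H.comm ho'.symm _) (H.comm ho'.symm _)⟩)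
    (fun _ h => K.z_sq hS hT hx0 h.1) ⟨h4, h6⟩ fun h => h5 (K.z_third hS hx0 h4 ho h)
  have hy := h2.he
  have h1 := h2.e_ne
  obtain ⟨a1, a2, a3⟩ := Sh3_sq h2 h8
  obtain ⟨a4, a5, -⟩ := Sh3_sq h7 h9
  obtain ⟨G, hG⟩ : ∃ G, G = co (s l) (n * n) (polarBilin P y') y' := ⟨_, rfl⟩
  have e1 : n * n = ee P (s l) y * G := by rw [hG, ← r_co, a1, a2]
  have e2 : ee P (s l) y * G * n = 0 := by rw [← e1, mul_assoc, a3]
  have g1 : G ∈ Cm (s j) := hG ▸ co_mem_Cm (H.comm hl) (mul_mem h11.1 h11.1) _ _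
  have g2 : G ∈ Cm (s l) := hG ▸ co_mem _ _ _
  have g3 : G * G = 0 := by
    have b1 := co_Cm_mul (N := n * n) (H.r_mem ho'.symm z (polarBilin P z')) (polarBilin P y') y'
    have b2 := co_mul_Cm (N := n * n) (H.r_mem ho'.symm z' (polarBilin P z)) (polarBilin P y') y'
    rw [a4, ← hG] at b1
    rw [a5, ← hG] at b2
    nth_rw 1 [b2]
    nth_rw 2 [b1]
    simp [mul_assoc, h7.he]
  obtain ⟨w, hw⟩ := H.nP.exists_hyp hx hx0
  obtain ⟨b, hb, h13⟩ := K.z_move' hx0 h11 hw.hf hw.f_ne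
  have e3 : ∀ E, n * (n * (n * E)) = 0 := fun E => by
    rw [← mul_assoc, ← mul_assoc, e1, e2, zero_mul]
  have e4 := e3 1
  rw [mul_one] at e4
  have h14 : b • (nn P (s j) x w * G) ∈ Zj (s l) X hy := by
    refine ⟨Subalgebra.smul_mem _ (mul_mem (nn_eq (s := s j) ▸ H.comm hl _) g2) _,
      ((h13.2.conj_uni h11.2 ?_).sub h13.2 ?_ ?_).of_eq ?_⟩
    · simp [mul_assoc, Cm_r' h11.1, hx]
    · simp [mul_assoc, mul_sub, add_mul, sub_mul, Cm_r' h11.1, hw.hf, e3, e4]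
    · simp [mul_assoc, Cm_r' h11.1, hw.hf]
    · rw [mul_smul_comm _ (ee P (s l) y), ← mul_assoc (ee P (s l) y), nn_eq,
        ← mem_Cm.1 (H.r_mem hl.symm _ _), mul_assoc (s j _), ← e1, ← nn_eq]
      simp [mul_assoc, mul_sub, add_mul, sub_mul, Cm_r' h11.1, hw.hef, hw.hfe, e4, smul_sub]
      abel
  have h15 := K.z_sq hS hT h1 h14 (by
    rw [smul_mul_smul_comm, mul_assoc, ← mul_assoc G, nn_eq, ← mem_Cm.1 g1, mul_assoc, g3]; simp)
  have h16 := nn_cancel H.nP hx0 (fun h => by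
    obtain ⟨a, rfl⟩ := Submodule.mem_span_singleton.1 h
    simpa [hx] using hw.hef) g1 ((smul_eq_zero.1 h15).resolve_left hb)
  exact h12 (K.z_sq hS hT hx0 h11 (by rw [e1, h16, mul_zero]))

end

theorem noZ (hE : ¬ E Q ≤ X.subgroupOf (O Q)) {hx : P x = 0} (hx0 : x ≠ 0)
    (hm : m ∈ Zj (s j) X hx) : m = 0 := by
  by_contra h0
  have := K.nt
  by_cases hT : ∀ i j : T, ∃ k, k ≠ i ∧ k ≠ j
  swap
  · obtain ⟨i, hi⟩ := two_slot hT j
    refine hE (K.E_le_of_big hx0 hm h0 fun β h1 h2 h3 => ⟨h2, β, ?_, fun _ _ => rfl⟩)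
    obtain ⟨a, ha⟩ := H.mem_range (i := i) fun l hl => hi l hl ▸ h2
    exact K.mem_char h1 (H.mem_Wr_of_eq ha) h3
  by_cases hS : ∀ j x, P x = 0 → x ≠ 0 → ∀ β ∈ O Q, (β : End F V) ∈ Cm (s j) →
      β ∈ Lf (s j) X x → β ∈ H.Wr
  · exact h0 (K.hq.elim (fun h => K.z_four hS hT h hx0 hm) fun h => K.z_big hS hT h hx0 hm)
  simp only [not_forall] at hS
  obtain ⟨i, y, hy, hy0, β, h1, h2, h3, h4⟩ := hS
  have hB := (K.di i (Lf (s i) X y) fun g hg h => ⟨h, g, hg, fun _ _ => rfl⟩).resolve_left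
    fun h => h4 (h β h1 h2 h3)
  obtain ⟨n, hn, hn0⟩ : ∃ n ∈ Zj (s i) X hx, n ≠ 0 := by
    by_cases e : i = j
    · exact e ▸ ⟨m, hm, h0⟩
    obtain ⟨k, h5, h6⟩ := hT i j
    obtain ⟨g, hg, h7⟩ := K.cyc e h5.symm h6.symm
    exact ⟨_, K.z_conj hm hg h7, conj_ne_zero g h0⟩
  obtain ⟨c, hc, h5⟩ := K.z_move' hx0 hn hy hy0
  exact hE (K.E_le_of_big hy0 h5 (smul_ne_zero hc hn0) hB)

end OV

end CfsgLib.C7O
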