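import Mathlib
import Cfsg.Agent.Lib.C7O.Ov

/-!
Overgroups of the stabiliser of a tensor power of a four-dimensional orthogonal space: products of
reflections.
-/

set_option autoImplicit false
set_option linter.unusedSectionVars false

namespace CfsgLib.C7O

open Module CfsgLib.ClMax CfsgLib.ClMax.Ten CfsgLib.OrthE CfsgLib.OMax QuadraticMap CfsgLib.C7

variable {F U V : Type*} [Field F] [AddCommGroup U] [Module F U] [AddCommGroup V] [Module F V]
  {P : QuadraticForm F U} {Q : QuadraticForm F V} [FiniteDimensional F U] [FiniteDimensional F V]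

section One

variable {s : End F U →ₐ[F] End F V} {a b c d : U} {e e' : End F V}

variable (P s) in
/-- The projection on `a ⊗ W`. -/
noncomputable def pj (a : U) : End F V := r s a ((2 * P a)⁻¹ • polarBilin P a)

theorem pj_sq (h2 : (2 : F) ≠ 0) (ha : P a ≠ 0) : pj P s a * pj P s a = pj P s a := by
  simp [pj, smul_smul, h2, ha, -mul_inv_rev]

theorem pj_orth (h : polar P a b = 0) : pj P s a * pj P s b = 0 := by simp [pj, h]

theorem s_refl (h2 : (2 : F) ≠ 0) (a : U) : s (refl P a).1 = 1 - (2 : F) • pj P s a := by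
  rw [pj, r_def, ← map_smul, ← map_one s, ← map_sub]
  congr 1; ext v
  simp [refl_ap, smul_smul, ← mul_assoc, h2, mul_comm _ (2 : F)⁻¹]

theorem M4.pj_sum (M : M4 P) (f : Fr P a b c d) :
    pj P s a + pj P s b + pj P s c + pj P s d = 1 := by
  simp only [pj, r_def, ← map_add, ← map_one s]
  congr 1; ext v
  conv_rhs => rw [End.one_apply, M.expand f v]
  simp [div_eq_inv_mul, smul_smul]

theorem Sim.pj {δ : U ≃ₗ[F] U} {μ : F} (h : Sim P δ μ) (h2 : (2 : F) ≠ 0) (hμ : μ ≠ 0) (a : U) :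
    s δ * pj P s a = pj P s (δ a) * s δ := by
  rw [C7O.pj, C7O.pj, s_mul_r, r_mul_s]
  congr 1; ext v
  have e1 := h.Q h2 a
  have e2 := h a v
  simp only [LinearEquiv.coe_coe] at e1 e2
  simp [e1, e2]
  field_simp

/-- The involution attached to an idempotent. -/
def zt (e : End F V) (h : e * e = e) : V ≃ₗ[F] V :=
  have : (1 - (2 : F) • e) * (1 - (2 : F) • e) = 1 := by
    simp only [mul_sub, sub_mul, smul_mul_smul_comm, h, mul_one, one_mul]; module
  LinearEquiv.ofLinearMap (1 - (2 : F) • e) (1 - (2 : F) • e) this this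

theorem zt_coe (h : e * e = e) : (zt e h : End F V) = 1 - (2 : F) • e := rfl

theorem zt_sq (h : e * e = e) : zt e h * zt e h = 1 := LinearEquiv.toLinearMap_injective (by
  simp only [LinearEquiv.coe_toLinearMap_mul, zt_coe, mul_sub, sub_mul, smul_mul_smul_comm, h,
    mul_one, one_mul, LinearEquiv.coe_toLinearMap_one, ← End.one_eq_id]; module)

theorem zt_mem (h2 : (2 : F) ≠ 0) (h : e * e = e) (h1 : ∀ v w, polar Q (e v) w = polar Q v (e w)) :
    zt e h ∈ O Q := mem_O_of_polar h2 fun v w => by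
  have : ∀ v, zt e h v = v - (2 : F) • e v := fun _ => rfl
  simp [this, h1, ← End.mul_apply, h]
  ring

theorem zt_conj (h : e * e = e) (h' : e' * e' = e') {g : V ≃ₗ[F] V} (e1 : g * e = e' * g) :
    g * zt e h * g⁻¹ = zt e' h' := mul_inv_eq_iff_eq_mul.2 (LinearEquiv.toLinearMap_injective (by
  simp [zt_coe, mul_sub, sub_mul, e1]))

theorem mem_comm_of_conj {G : Type*} [Group G] {x y : G} (h : IsConj x y) (h1 : x * x = 1) :
    x * y ∈ commutator G := by
  obtain ⟨g, rfl⟩ := isConj_iff.1 h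
  have := Subgroup.commutator_mem_commutator (Subgroup.mem_top x) (Subgroup.mem_top g)
  rwa [commutatorElement_def, inv_eq_of_mul_eq_one_right h1, mul_assoc, mul_assoc,
    ← mul_assoc g] at this

theorem M4.av [Nontrivial V] (M : M4 P) {D : Submodule F (End F V × End F V)}
    (hD : ∀ a, P a ≠ 0 → ∀ m n, (m, n) ∈ D →
      (s (refl P a).1 * m * s (refl P a).1, -(s (refl P a).1 * n * s (refl P a).1)) ∈ D)
    (h0 : ∀ m, (m, 0) ∈ D → ∃ c : F, m = c • 1) {π : End F U} {n : End F V} (h : (s π, n) ∈ D)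
    (sa : ∀ u w, polar P (π u) w = polar P u (π w)) : ∃ c : F, π = c • 1 := by
  refine M.scalar_of_ns sa fun u w p => ?_
  obtain ⟨c, d, f⟩ := M.exists_fr p
  have k := fun a ha m n h => D.add_mem h (hD a ha m n h)
  simp only [Prod.mk_add_mk] at k
  have h1 := k c f.hc _ _ (k w f.hb _ _ (k u f.ha _ _ h))
  have o : ∀ {a b}, polar P a b = 0 → ∀ E, pj P s a * (pj P s b * E) = 0 := fun h E => by
    rw [← mul_assoc, pj_orth h, zero_mul]
  obtain ⟨t, ht⟩ := h0 _ (by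
    convert h1 using 2
    simp only [s_refl M.h2, mul_add, add_mul, mul_sub, sub_mul, mul_neg, neg_mul, mul_one, one_mul,
      smul_mul_assoc, mul_smul_comm, mul_assoc, o (pc f.ab), o (pc f.ac), o (pc f.bc), pj_orth f.ab,
      pj_orth f.ac, pj_orth f.bc, mul_zero, smul_zero, zero_mul]
    module)
  have k2 : ∀ {a z} {ε : F} m, ε * ε = 1 → (refl P a).1 z = ε • z →
      ee P s z * (m + s (refl P a).1 * m * s (refl P a).1) * ee P s z =
        (2 : F) • (ee P s z * m * ee P s z) := fun {a z ε} m h1 h2 => by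
    have h3 : polarBilin P z ∘ₗ ((refl P a).1 : End F U) = ε • polarBilin P z :=
      LinearMap.ext fun v => by simp [← O_polar_inv_left, refl_inv, h2]
    simp only [mul_add, add_mul, mul_assoc, s_mul_r, LinearEquiv.coe_coe, h2]
    simp only [← mul_assoc, r_mul_s, h3]
    simp [smul_smul, h1, two_smul]
  have k3 : ∀ {z}, P z ≠ 0 → (8 : F) • (ee P s z * s π * ee P s z) = ee P s z * (t • 1) * ee P s z →
      polar P z (π z) = t / 8 * polar P z z := fun {z} hz e => by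
    have h6 : (8 : F) ≠ 0 := by rw [show (8 : F) = 2 ^ 3 by norm_num]; exact pow_ne_zero _ M.h2
    simp only [mul_assoc, s_mul_r, r_mul, smul_smul, smul_mul_assoc, one_mul, mul_smul_comm,
      polarBilin_apply_apply] at e
    rw [div_mul_eq_mul_div, eq_div_iff h6, mul_comm]
    exact smul_left_injective F (r_ne_zero (ne_zero_of_Q hz) (pb_ne M.nd (ne_zero_of_Q hz))) e
  have e1 : ∀ {a z}, polar P z a = 0 → (refl P a).1 z = (1 : F) • z := fun h => by
    rw [refl_apply_of_orth h, one_smul]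
  have e2 : ∀ {a}, P a ≠ 0 → (refl P a).1 a = (-1 : F) • a := fun h => by
    rw [refl_apply_self h, neg_one_smul]
  exact ⟨t / 8, k3 f.ha (by
    rw [← ht, k2 _ (one_mul _) (e1 f.ac), k2 _ (one_mul _) (e1 f.ab), k2 _ (by simp) (e2 f.ha)]
    module), k3 f.hb (by
    rw [← ht, k2 _ (one_mul _) (e1 f.bc), k2 _ (by simp) (e2 f.hb), k2 _ (one_mul _) (e1 (pc f.ab))]
    module)⟩

end One

variable {T : Type*} {s : T → End F U →ₐ[F] End F V} {i j l o : T} {a b c : U}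

namespace OT

variable (H : OT s P Q)
include H

theorem pol_r (i : T) : ∃ (z : U) (v y : V) (κ : F), κ ≠ 0 ∧ ∀ u u', polar Q
    (r (s i) u (polarBilin P z) v) (r (s i) u' (polarBilin P z) y) = κ * polar P u u' := by
  have := H.nt
  have := H.ntU
  obtain ⟨z, hz⟩ := exists_ne (0 : U)
  obtain ⟨y, hy⟩ : ∃ y, ee P (s i) z y ≠ 0 := by
    by_contra! h; exact r_ne_zero hz (pb_ne H.nP hz) (LinearMap.ext h)
  obtain ⟨v, hv⟩ := H.nQ.exists_ne hy
  exact ⟨z, v, y, _, polar_comm Q v _ ▸ hv, fun u u' => by simp [H.adj_r, mul_comm]⟩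

theorem sa_of_eq {π : End F U} (h : ∀ v w, polar Q (s i π v) w = polar Q v (s i π w)) (u w : U) :
    polar P (π u) w = polar P u (π w) := by
  obtain ⟨z, v, y, κ, h1, h2⟩ := H.pol_r i
  have := h (r (s i) u (polarBilin P z) v) (r (s i) w (polarBilin P z) y)
  rw [← End.mul_apply, ← End.mul_apply, s_mul_r, s_mul_r, h2, h2] at this
  exact mul_left_cancel₀ h1 this

theorem sim_of_nma [Finite F] {g : V ≃ₗ[F] V} (hg : g ∈ O Q) {α : U ≃ₗ[F] U} (h : Nma g (s i) (s j) α) :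
    ∃ μ, μ ≠ 0 ∧ Sim P α μ := by
  obtain ⟨z, v, y, κ, h1, h2⟩ := H.pol_r i
  obtain ⟨z', hz⟩ := exists_polar_dual H.nP (polarBilin P z ∘ₗ α.symm)
  have k : ∀ u w, polar Q (g v) (ee P (s j) z' (g y)) * polar P (α u) (α w) = κ * polar P u w :=
    fun u w => by
      rw [← h2, ← O_polar ⟨g, hg⟩ (r _ _ _ _), h.apply, h.apply, ← hz, H.adj_r]; simp [mul_comm]
  obtain ⟨x, x', hx⟩ := H.nP.exists_hyp_of_three H.h3
  have h3 : polar Q (g v) (ee P (s j) z' (g y)) ≠ 0 := fun e => h1 (by simpa [e, hx.hef] using (k x x').symm)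
  exact ⟨_, div_ne_zero h1 h3, fun u w => by
    rw [div_mul_eq_mul_div, eq_div_iff h3, ← k, mul_comm]; rfl⟩

theorem sim_pol {δ : U ≃ₗ[F] U} {μ : F} (h : Sim P δ μ) (i : T) (v w : V) :
    polar Q (sh (s i) δ v) (sh (s i) δ w) = μ * polar Q v w := by
  rw [sh_apply, H.adj i _ (μ • (δ⁻¹ : U ≃ₗ[F] U)) (fun u w => by
    simpa using h u (δ⁻¹ w)), map_smul, LinearMap.smul_apply, ← sh_apply, map_inv, inv_apply_apply]
  simp

theorem sim_mem {δ : U ≃ₗ[F] U} {μ : F} (h : Sim P δ μ) (hμ : μ ≠ 0) (i l : T) :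
    sh (s i) δ * (sh (s l) δ)⁻¹ ∈ O Q := mem_O_of_polar H.h2 fun v w => by
  rw [LinearEquiv.mul_apply, LinearEquiv.mul_apply, H.sim_pol h, ← H.sim_pol h l]; simp

theorem adj_pj (i : T) (a : U) (v w : V) : polar Q (pj P (s i) a v) w = polar Q v (pj P (s i) a w) := by
  simp [pj, H.adj_r]

theorem pj_mem (h : i ≠ l) (a : U) : pj P (s l) a ∈ Cm (s i) := H.r_mem h _ _

theorem pj_two (h : i ≠ l) (ha : P a ≠ 0) (hb : P b ≠ 0) :
    pj P (s i) a * pj P (s l) b * (pj P (s i) a * pj P (s l) b) = pj P (s i) a * pj P (s l) b := by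
  rw [mul_assoc, pj, Cm_r' (H.pj_mem h b), ← pj, ← mul_assoc, pj_sq H.h2 ha, pj_sq H.h2 hb]

theorem zt_mem (h : i ≠ l) (ha : P a ≠ 0) (hb : P b ≠ 0) : zt _ (H.pj_two h ha hb) ∈ O Q :=
  C7O.zt_mem H.h2 _ fun v w => by
    rw [End.mul_apply, H.adj_pj, H.adj_pj, ← End.mul_apply, pj, pj, Cm_r (H.r_mem h _ _)]

theorem sh_comm (h : i ≠ l) (α β : U ≃ₗ[F] U) : Commute (sh (s i) α) (sh (s l) β) :=
  LinearEquiv.toLinearMap_injective (mem_Cm.1 (H.comm h _) _)

theorem conj_refl [Finite F] [Nontrivial T] (M : M4 P) (i l : T) (ha : P a ≠ 0) (hb : P b ≠ 0) :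
    IsConj (⟨_, H.sh_mem i (refl P a)⟩ : O Q) ⟨_, H.sh_mem l (refl P b)⟩ := by
  obtain ⟨o, ho⟩ := exists_ne i
  obtain ⟨δ, μ, hμ, h1, rfl⟩ := M.exists_sim ha hb
  refine IsConj.trans (b := ⟨_, H.sh_mem i (refl P (δ a))⟩) (isConj_iff.2 ⟨⟨_, H.sim_mem h1 hμ i o⟩,
    Subtype.ext ?_⟩) ?_
  · change _ * _ * _ * (_ * _)⁻¹ = sh _ _
    rw [← h1.conj_refl H.h2 hμ, mul_assoc (sh _ _), (H.sh_comm ho _ _).inv_left.eq, map_mul,
      map_mul, map_inv]
    group
  by_cases e : i = l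
  · subst e; rfl
  obtain ⟨σ, hσ⟩ := H.exists_swap e
  exact isConj_iff.2 ⟨⟨σ, H.swap_mem e hσ⟩, Subtype.ext
    (mul_inv_eq_iff_eq_mul.2 (LinearEquiv.toLinearMap_injective (nma_one hσ.ab _)))⟩

end OT

variable [Finite T] [Finite F] {H : OT s P Q} {X : Subgroup (V ≃ₗ[F] V)}

namespace OV

variable (K : OV H X) (M : M4 P)
include K M

theorem two_refl (i l : T) (ha : P a ≠ 0) (hb : P b ≠ 0) :
    sh (s i) (refl P a).1 * sh (s l) (refl P b).1 ∈ X :=
  have := K.nt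
  K.hW _ (mem_comm_of_conj (H.conj_refl M i l ha hb) (Subtype.ext (by
    change sh _ _ * sh _ _ = 1
    rw [← map_mul, ← Subgroup.coe_mul, refl_mul_self]; exact map_one _)))
    (mul_mem (H.mem_Wr_of_eq (sh_coe _ _)) (H.mem_Wr_of_eq (sh_coe _ _)))

theorem so_mem (i : T) (ha : P a ≠ 0) (hb : P b ≠ 0) : sh (s i) (refl P a * refl P b).1 ∈ X :=
  map_mul (sh (s i)) _ _ ▸ K.two_refl M i i ha hb

theorem refl_mem (hT : ∀ i j : T, ∃ k, k ≠ i ∧ k ≠ j) (i : T) (hc : P c ≠ 0) :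
    sh (s i) (refl P c).1 ∈ X := by
  obtain ⟨l, hl, -⟩ := hT i i
  obtain ⟨o, ho, ho'⟩ := hT i l
  have k : ∀ {a b} (ha : P a ≠ 0) (hb : P b ≠ 0), (⟨_, H.zt_mem hl.symm hc ha⟩ : O Q) *
      ⟨_, H.zt_mem hl.symm hc hb⟩ ∈ commutator (O Q) := fun {a b} ha hb => by
    obtain ⟨δ, μ, hμ, h1, rfl⟩ := M.exists_sim ha hb
    refine mem_comm_of_conj (isConj_iff.2 ⟨⟨_, H.sim_mem h1 hμ l o⟩, Subtype.ext
      (zt_conj (H.pj_two hl.symm hc ha) (H.pj_two hl.symm hc hb) ?_)⟩)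
      (Subtype.ext (zt_sq (H.pj_two hl.symm hc ha)))
    have h2 := inv_mem_Cm (g := sh (s o) δ) (H.comm ho.symm _)
    have h3 := inv_mem_Cm (g := sh (s o) δ) (H.comm ho'.symm _)
    rw [LinearEquiv.coe_toLinearMap_mul, sh_coe, mul_assoc, pj, Cm_r' h2, pj, Cm_r h3,
      Cm_r' (H.comm hl.symm _), ← pj, ← pj, ← mul_assoc (s l _), h1.pj H.h2 hμ]
    simp only [mul_assoc]
  obtain ⟨a, b, d, f⟩ := M.exists_fr1 hc
  refine K.hW ⟨_, H.sh_mem i (refl P c)⟩ ?_ (H.mem_Wr_of_eq (sh_coe _ _))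
  convert mul_mem (k hc f.hb) (k f.hc f.hd) using 1
  refine Subtype.ext (LinearEquiv.toLinearMap_injective ?_)
  have o : ∀ {a b}, polar P a b = 0 → pj P (s i) c * pj P (s l) a * (pj P (s i) c * pj P (s l) b) = 0 :=
    fun {a b} h => by rw [mul_assoc, pj, Cm_r' (H.pj_mem hl.symm a), pj_orth h]; simp
  simp only [Subgroup.coe_mul, LinearEquiv.coe_toLinearMap_mul, zt_coe, sh_coe, s_refl H.h2,
    mul_sub, sub_mul, smul_mul_smul_comm, mul_one, one_mul, o f.ab, o f.cd, o f.ac, o f.ad, o f.bc,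
    o f.bd, smul_zero, sub_zero]
  linear_combination (norm := skip) (2 : F) • congrArg (pj P (s i) c * ·) (M.pj_sum (s := s l) f)
  simp only [mul_add, mul_one]
  module

end OV

end CfsgLib.C7O
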