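import Mathlib
import Cfsg.Agent.Lib.C7O.Ov2

/-!
Overgroups of the stabiliser of a tensor power of an even-dimensional orthogonal space: unipotent
radicals.
-/

set_option autoImplicit false
set_option linter.unusedSectionVars false

namespace CfsgLib.C7O

open Module CfsgLib.ClMax CfsgLib.ClMax.Ten CfsgLib.OrthE CfsgLib.OMax QuadraticMap CfsgLib.C7

variable {F U V : Type*} [Field F] [AddCommGroup U] [Module F U] [AddCommGroup V] [Module F V]
  {P : QuadraticForm F U} {Q : QuadraticForm F V} [FiniteDimensional F U] [FiniteDimensional F V]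
  {X : Subgroup (V ≃ₗ[F] V)}

section One

variable {W : Type*} [AddCommGroup W] [Module F W] {τ : W →ₗ[F] U →ₗ[F] V} {h : IsTensorProduct τ}
  {R : QuadraticForm F W} [FiniteDimensional F W] {x x' c d : U}

theorem M4.hexp (M : M4 P) (hx : Hyp P x x') (p : Pr2 P c d) (h1 : polar P x c = 0)
    (h2 : polar P x' c = 0) (h3 : polar P x d = 0) (h4 : polar P x' d = 0) (z : U) :
    z = polar P x' z • x + polar P x z • x' + (polar P c z / (2 * P c)) • c +
      (polar P d z / (2 * P d)) • d := by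
  have h5 := M.h2
  have hc := p.ha
  have hd := p.hb
  refine sub_eq_zero.1 (M.eq_zero (M.fr_hyp hx p h1 h2 h3 h4) ?_ ?_ ?_ ?_) <;>
    simp [hx.he, hx.hf, hx.hef, hx.hfe, h1, h2, h3, h4, pc h1, pc h2, pc h3, pc h4, p.ab, pc p.ab] <;>
    field_simp <;> ring

theorem ker_four (M : M4 P) (hx : Hyp P x x') (p : Pr2 P c d) (h1 : polar P x c = 0)
    (h2 : polar P x' c = 0) (h3 : polar P x d = 0) (h4 : polar P x' d = 0) {v : V}
    (hv : cP h P x v = 0) : v = τ (cP h P x' v) x + τ ((2 * P c)⁻¹ • cP h P c v) c +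
      τ ((2 * P d)⁻¹ • cP h P d v) d := by
  have := LinearMap.congr_fun (ext h (f := LinearMap.id) (g := τ.flip x ∘ₗ cP h P x' +
    τ.flip x' ∘ₗ cP h P x + τ.flip c ∘ₗ ((2 * P c)⁻¹ • cP h P c) +
      τ.flip d ∘ₗ ((2 * P d)⁻¹ • cP h P d)) fun u z => by
      conv_lhs => rw [M.hexp hx p h1 h2 h3 h4 z]
      simp [smul_smul, div_eq_inv_mul]) v
  simpa [hv] using this

variable (h P x') in
/-- The components of an element of the unipotent radical. -/
noncomputable def aT (t : V ≃ₗ[F] V) : U →ₗ[F] End F W :=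
  LinearMap.lcomp F W (((t : End F V) - 1) ∘ₗ τ.flip x') ∘ₗ cP h P

theorem aT_apply (t : V ≃ₗ[F] V) (y : U) (u : W) :
    aT P h x' t y u = cP h P y (t (τ u x') - τ u x') := rfl

theorem aT_conj {g : V ≃ₗ[F] V} {α : W ≃ₗ[F] W} {ρ : O P} (e : ∀ u w, g (τ u w) = τ (α u) (ρ.1 w))
    (e2 : ρ.1 x' = x') (t : V ≃ₗ[F] V) (z : U) :
    aT P h x' (g * t * g⁻¹) (ρ.1 z) = α.conj (aT P h x' t z) := LinearMap.ext fun u => by
  have e5 : ∀ v, cP h P (ρ.1 z) (g v) = α (cP h P z v) := LinearMap.congr_fun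
    (ext h (f := cP h P (ρ.1 z) ∘ₗ (g : End F V)) (g := (α : End F W) ∘ₗ cP h P z)
      fun a b => by simp [e, O_polar])
  obtain ⟨u, rfl⟩ := α.surjective u
  rw [aT_apply, ← e2, ← e, LinearEquiv.mul_apply, LinearEquiv.mul_apply, inv_apply_apply, ← map_sub,
    e5, e2, LinearEquiv.conj_apply_apply, α.symm_apply_apply, aT_apply]

namespace OZ

variable [Finite F] (H : OZ R P Q h X)
include H

theorem aT_sa (hx : Hyp P x x') (h1 : polar P x c = 0) (h2 : polar P x' c = 0) {t : V ≃ₗ[F] V}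
    (ht : RX h P X x t) (p r : W) : polar R (aT P h x' t c p) r = polar R p (aT P h x' t c r) := by
  have D0 : ∀ v a, polar Q (t v - v) (τ a x) = 0 := fun v a => by
    rw [polar_comm, H.B_tau, H.cP_sub ht, polar_zero_right]
  have := H.rx_comm hx.he hx.e_ne ht (H.rx_eich hx.he h1) (τ p x') (τ r x')
  have e : ∀ a, (H.rhom (eich P x c)).1 (τ a x') - τ a x' = -τ a c - P c • τ a x :=
    fun a => by
      rw [H.rhom_apply, hx.eich_apply_f (pc h1) (pc h2), map_sub, map_sub, map_smul]; abel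
  rw [e, e, polar_sub_right, polar_smul_right, D0, polar_sub_left _ (-_), polar_smul_left,
    pc (D0 _ _), polar_neg_left, polar_neg_right, polar_comm, H.B_tau, H.B_tau, polar_comm,
    sub_left_inj, neg_inj] at this
  exact this

theorem aT_rel (M : M4 P) (hx : Hyp P x x') (p : Pr2 P c d) (h1 : polar P x c = 0)
    (h2 : polar P x' c = 0) (h3 : polar P x d = 0) (h4 : polar P x' d = 0) {t t' : V ≃ₗ[F] V}
    (ht : RX h P X x t) (ht' : RX h P X x t') :
    P d • (aT P h x' t c * aT P h x' t' c) + P c • (aT P h x' t d * aT P h x' t' d) =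
      P d • (aT P h x' t' c * aT P h x' t c) + P c • (aT P h x' t' d * aT P h x' t d) := by
  refine LinearMap.ext fun r => polar_ext H.n₁ fun u => ?_
  have k : ∀ {v w}, cP h P x v = 0 → cP h P x w = 0 → 2 * P c * P d * polar Q v w =
      P d * polar R (cP h P c v) (cP h P c w) + P c * polar R (cP h P d v) (cP h P d w) :=
    fun {v w} hv hw => by
      have := H.two
      have := p.ha
      have := p.hb
      conv_lhs => rw [ker_four M hx p h1 h2 h3 h4 hv]
      simp [H.B_tau, hw]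
      field_simp
  have := congrArg (2 * P c * P d * ·) (H.rx_comm hx.he hx.e_ne ht ht' (τ u x') (τ r x'))
  simp only [k (H.cP_sub ht _) (H.cP_sub ht' _), k (H.cP_sub ht' _) (H.cP_sub ht _), ← aT_apply,
    H.aT_sa hx h1 h2 ht, H.aT_sa hx h1 h2 ht', H.aT_sa hx h3 h4 ht, H.aT_sa hx h3 h4 ht'] at this
  simpa using this

theorem oq4 (M : M4 P)
    (cl : ∀ G : Set (End F W), (∀ a ∈ G, ∀ b ∈ G, a * b = b * a) → (∀ a ∈ G, ∀ g ∈ X,
      ∀ α : W ≃ₗ[F] W, (∀ u w, g (τ u w) = τ (α u) w) → α.conj a ∈ G) →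
        ∀ a ∈ G, ∃ c : F, ∀ u, a u = c • u)
    (av : ∀ c, P c ≠ 0 → ∀ D : Submodule F (End F W × End F W), (∀ m n, (m, n) ∈ D → ∀ g ∈ X,
      ∀ α : W ≃ₗ[F] W, (∀ u w, g (τ u w) = τ (α u) ((refl P c).1 w)) → (α.conj m, -α.conj n) ∈ D) →
        (∀ m, (m, 0) ∈ D → ∃ c : F, ∀ u, m u = c • u) → ∀ m n, (m, n) ∈ D →
          (∀ u w, polar R (m u) w = polar R u (m w)) → ∃ c : F, ∀ u, m u = c • u) :
    OQ R P Q h X := ⟨H, fun {x} hx hx0 t ht => by
  obtain ⟨x', hx'⟩ := H.n₂.exists_hyp hx hx0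
  have k1 : ∀ y, polar P y x = 0 → polar P y x' = 0 →
      ∃ s : F, ∀ u, cP h P y (t (τ u x') - τ u x') = s • u := fun y h1 h2 => by
    by_cases hy : P y = 0
    · obtain ⟨s, rfl⟩ := Submodule.mem_span_singleton.1 (M.an x y hx hx0 hy (pc h1))
      exact ⟨0, fun u => by rw [map_smul, LinearMap.smul_apply, H.cP_sub ht]; simp⟩
    replace h1 := pc h1
    replace h2 := pc h2
    obtain ⟨c, hc, h3, h4, h5⟩ := M.exists_hyp3 hx' y
    let D := Submodule.span F {d | ∃ t, RX h P X x t ∧ d = (aT P h x' t y, aT P h x' t c)}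
    have cj : ∀ (ρ : O P) (ε : F), ρ.1 x = x → ρ.1 x' = x' → ρ.1 y = y → ρ.1 (ε • c) = c →
        ∀ m n, (m, n) ∈ D → ∀ g ∈ X, ∀ α : W ≃ₗ[F] W, (∀ u w, g (τ u w) = τ (α u) (ρ.1 w)) →
          (α.conj m, ε • α.conj n) ∈ D := fun ρ ε e1 e2 e3 e4 m n hm g hg α e => by
      refine (Submodule.span_le (p := D.comap (α.conj.toLinearMap.prodMap
        (ε • α.conj.toLinearMap)))).2 ?_ hm
      rintro _ ⟨t, ht, rfl⟩
      refine Submodule.subset_span ⟨_, H.rx_conj H.toOB ht hg (fun u => by rw [e, e1]), Prod.ext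
        ((aT_conj e e2 t y).symm.trans (by rw [e3])) ?_⟩
      have := aT_conj (h := h) e e2 t (ε • c)
      rw [e4, map_smul, map_smul] at this
      exact this.symm
    have rel : ∀ d ∈ D, ∀ d' ∈ D, P c • (d.1 * d'.1) + P y • (d.2 * d'.2) =
        P c • (d'.1 * d.1) + P y • (d'.2 * d.2) := fun d hd d' hd' => by
      induction hd, hd' using Submodule.span_induction₂ with
      | mem_mem a b ha hb =>
        obtain ⟨t, ht, rfl⟩ := ha
        obtain ⟨t', ht', rfl⟩ := hb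
        exact H.aT_rel M hx' ⟨hy, hc, h5⟩ h1 h2 h3 h4 ht ht'
      | zero_left => simp
      | zero_right => simp
      | add_left a b c _ _ _ h h' =>
        simp only [Prod.fst_add, Prod.snd_add, add_mul, mul_add]
        linear_combination (norm := module) h + h'
      | add_right a b c _ _ _ h h' =>
        simp only [Prod.fst_add, Prod.snd_add, add_mul, mul_add]
        linear_combination (norm := module) h + h'
      | smul_left r a b _ _ h =>
        simp only [Prod.smul_fst, Prod.smul_snd, smul_mul_assoc, mul_smul_comm]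
        linear_combination (norm := module) r • h
      | smul_right r a b _ _ h =>
        simp only [Prod.smul_fst, Prod.smul_snd, smul_mul_assoc, mul_smul_comm]
        linear_combination (norm := module) r • h
    exact av c hc D (fun m n hm g hg α e => by
      simpa using cj (refl P c) (-1) (refl_apply_of_orth h3) (refl_apply_of_orth h4)
        (refl_apply_of_orth h5) (by simp [refl_apply_self hc]) m n hm g hg α e)
      (fun m hm => cl {m | (m, 0) ∈ D} (fun a ha b hb => smul_right_injective _ hc (by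
        simpa using rel _ ha _ hb)) (fun a ha g hg α e => by
          simpa using cj 1 1 rfl rfl rfl (one_smul ..) a 0 ha g hg α e) m hm) _ _
      (Submodule.subset_span ⟨t, ht, rfl⟩) (H.aT_sa hx' h1 h2 ht)
  obtain ⟨u₀, u₁, hu⟩ := H.n₁.exists_hyp_of_three H.ha
  obtain ⟨c, hc⟩ := exists_polar_dual H.n₂
    (-polarBilin R u₀ ∘ₗ (cP h P).flip (t (τ u₁ x') - τ u₁ x'))
  have hc : ∀ y, polar P c y = -polar R u₀ (cP h P y (t (τ u₁ x') - τ u₁ x')) :=
    fun y => LinearMap.congr_fun hc y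
  have hcx : polar P x c = 0 := by rw [polar_comm, hc, H.cP_sub ht]; simp
  have k2 : ∀ y, polar P x y = 0 → ∀ u,
      cP h P y (t (τ u x') - τ u x') = -polar P c y • u := fun y hy u => by
    obtain ⟨s, hs⟩ := k1 _ (hx'.pr_e y) (hx'.pr_f y)
    simp only [pr_def, pc hy, zero_smul, sub_zero, map_sub (cP h P), map_smul,
      LinearMap.sub_apply, LinearMap.smul_apply, H.cP_sub ht, smul_zero] at hs
    rw [hc, hs, hs]; simp [hu.hef]
  refine ⟨c, hcx, H.eq_of_fix hx hx0 ht.mem (H.right (eich_mem_E _ _)) fun v hv => ?_⟩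
  obtain ⟨p, hp⟩ := ht.sub v hv
  rw [hp, H.rhom_eich hx hcx, hv, show p = cP h P c v from polar_ext H.n₁ fun u => ?_]
  · simp
  obtain ⟨z, hz⟩ := H.exists_eq_tau hx0 (v := t (τ u x') - τ u x' + τ u c) fun u' y hy => by
    rw [polar_add_right, H.B_tau, k2 y hy, H.eq, polar_comm P y c]; simp [mul_comm]
  have h1 := H.rx_pol ht hp (τ u x')
  rw [eq_sub_of_add_eq hz, polar_sub_left, H.B_tau, H.B_tau, hv, H.eq, hx'.hfe] at h1
  simpa using h1.symm⟩

end OZ

theorem Sl.lf_adj {s : End F U →ₐ[F] End F V} (S : Sl s P Q h R) {m : End F W}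
    (sa : ∀ u w, polar R (m u) w = polar R u (m w)) (v w : V) :
    polar Q (lf h m v) w = polar Q v (lf h m w) := by
  induction v using h.inductionOn with
  | zero => simp
  | add a b ha hb => simp [ha, hb]
  | tmul a b =>
    induction w using h.inductionOn with
    | zero => simp
    | add a b ha hb => simp only [map_add, polar_add_right, ha, hb]
    | tmul c d => simp [S.eq, sa]

end One

variable {T : Type*} {s : T → End F U →ₐ[F] End F V} [Finite T] [Finite F] {H : OT s P Q}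
  {i j : T} {x : U} {m : End F V}

namespace OV

variable (K : OV H X) (hE : ¬ E Q ≤ X.subgroupOf (O Q))
include K hE

theorem exists_oq (i : T) : ∃ (W : Submodule F V) (τ : W →ₗ[F] U →ₗ[F] V) (h : IsTensorProduct τ)
    (R : QuadraticForm F W), Sl (s i) P Q h R ∧ OQ R P Q h X := by
  obtain ⟨W, τ, h, R, S, B⟩ := K.exists_ob i
  have := H.ntU
  have := H.nt
  have := K.nt
  have Z : OZ R P Q h X := ⟨B, fun x hx hx0 m hm => lf_inj h (by
    rw [map_zero]
    exact K.noZ hE hx0 (hx := hx) ⟨S.lf_mem m, hm.of_eq (ext h fun w z => by simp [S.r_tau])⟩)⟩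
  have sc : ∀ {a : End F W} {c : F}, lf h a = c • 1 → ∀ u, a u = c • u := fun {a c} hc =>
    LinearMap.congr_fun (lf_inj h (hc.trans (by simp)) : a = c • 1)
  have cl : ∀ G : Set (End F W), (∀ a ∈ G, ∀ b ∈ G, a * b = b * a) → (∀ a ∈ G, ∀ g ∈ X,
      ∀ α : W ≃ₗ[F] W, (∀ u w, g (τ u w) = τ (α u) w) → α.conj a ∈ G) →
        ∀ a ∈ G, ∃ c : F, ∀ u, a u = c • u := fun G h1 h2 a ha => by
    have k1 : ∀ a ∈ lf h '' G, a ∈ Cm (s i) := by rintro _ ⟨a, -, rfl⟩; exact S.lf_mem a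
    have k2 : ∀ a ∈ lf h '' G, ∀ b ∈ lf h '' G, a * b = b * a := by
      rintro _ ⟨a, ha, rfl⟩ _ ⟨b, hb, rfl⟩; rw [← map_mul, h1 a ha b hb, map_mul]
    have k3 : ∀ l ≠ i, ∀ x c, P x = 0 → polar P x c = 0 → ∀ a ∈ lf h '' G,
        s l (eich P x c).1 * a * s l (eich P x (-c)).1 ∈ lf h '' G := by
      rintro l hl x c - - _ ⟨a, ha, rfl⟩
      obtain ⟨α, hα⟩ := S.eq_lhom (H.sh_mem l (eich P x c)) (H.comm hl.symm _)
      refine ⟨_, h2 a ha _ (K.sh_mem l (eich_mem_E x c)) α.1 fun u w => hα ▸ S.lhom_apply .., ?_⟩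
      rw [eich_neg, Subgroup.coe_inv, ← sh_coe, ← sh_coe, map_inv, hα, ← Subgroup.coe_inv,
        ← map_inv, S.lhom_eq, S.lhom_eq, ← map_mul, ← map_mul]
      rfl
    obtain ⟨c, hc⟩ := K.hq.elim (fun M => H.cl4 M k1 k2 k3 ⟨a, ha, rfl⟩)
      fun h5 => H.cl (.inr h5) k1 k2 k3 ⟨a, ha, rfl⟩
    exact ⟨c, sc hc⟩
  refine ⟨W, τ, h, R, S, K.hq.elim (fun M => Z.oq4 M cl fun c hc D h1 h2 m n hm sa => ?_)
    fun h5 => Z.oq (.inr h5) cl⟩
  by_cases hT : ∀ i j : T, ∃ k, k ≠ i ∧ k ≠ j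
  · refine h2 m ?_
    convert D.smul_mem (2 : F)⁻¹ (D.add_mem hm (h1 m n hm _ (K.refl_mem M hT i hc) 1
      fun u w => S.act ..)) using 1
    simp [LinearEquiv.one_eq_refl, ← two_smul F m, smul_smul, H.h2, ← add_smul]
  obtain ⟨l, hl⟩ := two_slot hT i
  have hli : i ≠ l := by
    rintro rfl
    obtain ⟨k, hk⟩ := exists_ne i
    exact hk (hl k hk)
  obtain ⟨π, hπ⟩ := H.mem_range (E := lf h m) (i := l) fun o ho => hl o ho ▸ S.lf_mem m
  obtain ⟨t, rfl⟩ := M.av (s := s l) (D := D.map ((lf h).toLinearMap.prodMap (lf h).toLinearMap))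
    (π := π) (n := lf h n) (by
      rintro a ha _ _ ⟨⟨m, n⟩, hm, ⟨⟩⟩
      obtain ⟨α, hα⟩ := S.eq_lhom (H.sh_mem l (refl P a)) (H.comm hli _)
      have e1 : s l (refl P a).1 = lf h α.1 := by rw [← sh_coe, hα, S.lhom_eq]
      have e2 : s l (refl P a).1 = lf h α.1.symm := by
        rw [← refl_inv, Subgroup.coe_inv, ← sh_coe, map_inv, hα, ← Subgroup.coe_inv, ← map_inv,
          S.lhom_eq]; rfl
      refine ⟨_, h1 m n hm _ (K.two_refl M i l hc ha) α.1 fun u w => by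
        rw [LinearEquiv.mul_apply, hα, S.lhom_apply]; exact S.act .., ?_⟩
      have e3 : ∀ m, lf h (α.1.conj m) = s l (refl P a).1 * lf h m * s l (refl P a).1 := fun m => by
        nth_rw 1 [e1]
        rw [e2, ← map_mul, ← map_mul]; rfl
      exact Prod.ext (e3 m) ((map_neg _ _).trans (congrArg _ (e3 n)))) (by
      rintro _ ⟨⟨m, n⟩, hm, e⟩
      obtain rfl : n = 0 := lf_inj h ((congrArg Prod.snd e).trans (map_zero _).symm)
      obtain ⟨c, hc⟩ := h2 m hm
      exact ⟨c, (congrArg Prod.fst e).symm.trans (ext h fun u w => by simp [hc])⟩)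
    ⟨(m, n), hm, Prod.ext hπ rfl⟩ (H.sa_of_eq (i := l) (hπ ▸ S.lf_adj sa))
  exact ⟨t, sc (by simp [hπ])⟩

theorem cm_le {g : V ≃ₗ[F] V} (hg : g ∈ X) (h : (g : End F V) ∈ Cm (s j)) : g ∈ H.Wr := by
  have := K.nt
  by_cases hT : ∀ i j : T, ∃ k, k ≠ i ∧ k ≠ j
  swap
  · obtain ⟨i, hi⟩ := two_slot hT j
    obtain ⟨a, ha⟩ := H.mem_range (i := i) fun l hl => hi l hl ▸ h
    exact H.mem_Wr_of_eq ha
  refine (K.di j X fun _ h _ => h).elim (fun h1 => h1 g (K.hX hg) h hg) fun h1 => False.elim ?_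
  obtain ⟨o, ho, -⟩ := hT j j
  obtain ⟨l, hl, hl'⟩ := hT j o
  obtain ⟨x, y, hx⟩ := H.nP.exists_hyp_of_three H.h3
  obtain ⟨h2, h3⟩ := H.uni_mem hl' hx.he x y
  have h4 := K.noZ hE hx.e_ne (hx := hx.he) (j := l) ⟨nn_eq (s := s o) ▸ H.comm hl' _, _,
    h1 _ h3 (add_mem (one_mem _) (mul_mem (H.r_mem hl.symm _ _)
      (nn_eq (s := s o) ▸ H.comm ho.symm _))) (uni_pow h2), uni_coe _ _⟩
  have := H.nt
  exact one_ne_zero (nn_cancel H.nP hx.e_ne (fun h => by
    obtain ⟨a, rfl⟩ := Submodule.mem_span_singleton.1 h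
    simpa [hx.he] using hx.hef) (one_mem _) ((mul_one _).trans h4))

theorem mem_of_nm {g : V ≃ₗ[F] V} (hg : g ∈ X) (h : Nm g (s i) (s j))
    (rig : ∀ l, ∃ t ∈ X, (∃ b, (t : End F V) = s l b) ∧
      (g * t * g⁻¹ ∈ H.Wr → ∃ a, Nm g (s l) (s a))) : g ∈ H.Wr := fun l => by
  have := H.nt
  have := H.ntU
  by_cases e : l = i
  · exact ⟨j, e ▸ h⟩
  obtain ⟨t, ht, ⟨b, hb⟩, h1⟩ := rig l
  exact h1 (K.cm_le hE (mul_mem (mul_mem hg ht) (inv_mem hg)) (h.conj_Cm
    (hb ▸ H.comm (Ne.symm e) b) (by simp [mul_assoc, coe_inv_mul])))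

variable (h5 : 5 ≤ finrank F U)
include h5

theorem rig_big {y c : U} (T : TSP P y c) {l} {g : V ≃ₗ[F] V} (hg : g ∈ X)
    (h : g * sh (s l) (eich P y c).1 * g⁻¹ ∈ H.Wr) : ∃ a, Nm g (s l) (s a) := by
  have := H.nt
  have := H.ntU
  have e : s l (eich P y c).1 = 1 + nn P (s l) y c := by
    simpa [T.sc] using s_eich (s := s l) T.sy T.orth 1
  obtain ⟨a, b, h1⟩ := H.rec_odd H.h2 h (coe_conj g e)
    (conj_sq g (by simpa [T.sc] using nn_sq (s := s l) T.sy T.orth))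
    (conj_ne_zero g fun e => nn_not_mem H.nP T (e ▸ zero_mem _))
  obtain ⟨W, τ, h, R, S, B⟩ := K.exists_oq hE a
  obtain ⟨W', τ', h', R', S', B'⟩ := K.exists_oq hE l
  obtain ⟨α, hα⟩ := B.map_of_right B' h5 h5 (rank_eq h' h) T (inv_mem hg) (C := b) fun u w => by
    rw [← S.act, ← h1, S'.aN_eq]; simp
  have : Nontrivial W' := nontrivial_of_finrank_pos (R := F) (by have := B'.ha; omega)
  exact ⟨a, S'.nm_of_ex S hα⟩

theorem mem_big {g : V ≃ₗ[F] V} (hg : g ∈ X) (h : Nm g (s i) (s j)) : g ∈ H.Wr := by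
  obtain ⟨x, y, hx⟩ := H.nP.exists_hyp_of_three H.h3
  obtain ⟨c, T⟩ := exists_tsp H.nP h5 hx.he hx.e_ne
  exact K.mem_of_nm hE hg h fun l =>
    ⟨_, K.sh_mem l (eich_mem_E x c), ⟨_, sh_coe _ _⟩, K.rig_big hE h5 T hg⟩

theorem le_big : X ≤ H.Wr := by
  have := K.nt
  have := H.nt
  have := H.ntU
  obtain ⟨W, τ, h, R, S, B⟩ := K.exists_oq hE (Classical.arbitrary T)
  refine B.le_of_rig h5 (fun k hk ⟨α, β, e⟩ => K.mem_big hE h5 hk (S.nm_of S e))
    (fun T k hk e => ?_) fun T g hg e => S.mem_Kron (nm_of_comm H.toTP hg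
      (nn_eq (s := s _) ▸ S.aN_eq _ _ ▸ LinearMap.ext e) (nn_eq (s := s _) ▸ nn_not_mem H.nP T))
  obtain ⟨a, ha⟩ := K.rig_big hE h5 T (inv_mem hk) (by
    rwa [inv_inv, ← LinearEquiv.toLinearMap_injective ((S.rhom_eq _).trans (sh_coe _ _).symm)])
  exact inv_mem_iff.1 (K.mem_big hE h5 (inv_mem hk) ha)

omit h5 in
theorem eq_of_fix (hx : P x = 0) (hx0 : x ≠ 0) {g k : V ≃ₗ[F] V} (hg : g ∈ X) (hk : k ∈ X)
    (hf : ∀ v, ee P (s i) x v = 0 → g v = k v) : g = k :=
  let ⟨_, _, _, _, S, B⟩ := K.exists_oq hE i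
  B.eq_of_fix hx hx0 hg hk fun v hv => hf v ((S.cP_iff hx0).1 hv)

end OV

end CfsgLib.C7O
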