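import Mathlib
import Cfsg.Agent.Lib.C7O.Ov3

/-!
Overgroups of the stabiliser of a tensor power of a four-dimensional orthogonal space: the maps
induced on `x ⊗ W`.
-/

set_option autoImplicit false
set_option linter.unusedSectionVars false

namespace CfsgLib.C7O

open Module CfsgLib.ClMax CfsgLib.ClMax.Ten CfsgLib.OrthE CfsgLib.OMax QuadraticMap CfsgLib.C7

variable {F U V : Type*} [Field F] [AddCommGroup U] [Module F U] [AddCommGroup V] [Module F V]
  {P : QuadraticForm F U} {Q : QuadraticForm F V} [FiniteDimensional F U] [FiniteDimensional F V]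
  {X : Subgroup (V ≃ₗ[F] V)}

theorem eq_one_of_pow_char [Finite F] {μ : F} {n : ℕ} (h : μ ^ ringChar F ^ n = 1) : μ = 1 :=
  have hp : Fact (ringChar F).Prime := ⟨CharP.char_is_prime F _⟩
  sub_eq_zero.1 (pow_eq_zero_iff (pow_ne_zero n hp.1.ne_zero) |>.1 (by
    rw [sub_pow_char_pow, h]; simp))

theorem mem_of_pow_mem {G : Type*} [Group G] {Γ : Subgroup G} {β : G} {p m : ℕ} (hp : p.Prime)
    (h1 : β ^ p = 1) (hm : ¬ p ∣ m) (h : β ^ m ∈ Γ) : β ∈ Γ :=
  let ⟨k, hk⟩ := exists_pow_eq_self_of_coprime (((Nat.Prime.coprime_iff_not_dvd hp).2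
    hm).symm.coprime_dvd_right (orderOf_dvd_of_pow_eq_one h1))
  hk ▸ pow_mem h k

section One

variable {W : Type*} [AddCommGroup W] [Module F W] {τ : W →ₗ[F] U →ₗ[F] V} {h : IsTensorProduct τ}
  {R : QuadraticForm F W} [FiniteDimensional F W] {x x' c d : U} [Finite F]

theorem OQ.plane (H : OQ R P Q h X) (M : M4 P) (hx : Hyp P x x') {k : V ≃ₗ[F] V} (hk : k ∈ X) {n : ℕ}
    (hn : k ^ ringChar F ^ n = 1) {α : W ≃ₗ[F] W} (e : ∀ u, k (τ u x) = τ (α u) x) :
    α ∈ O R ∧ α ^ ringChar F ^ n = 1 ∧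
      ∀ c, polar P x c = 0 → ∀ u, ∃ u', k (τ u c) = τ (α u) c + τ u' x := by
  have hp : Fact (ringChar F).Prime := ⟨CharP.char_is_prime F _⟩
  obtain ⟨μ, -, h4, h5⟩ := H.exists_rel H hx.he hx.e_ne hx.he hx.e_ne hk e
  have h6 : ∀ m u, (k ^ m) (τ u x) = τ ((α ^ m) u) x := fun m => by
    induction m with
    | zero => simp
    | succ m ih => intro u; simp [pow_succ, e, ih]
  have h7 : α ^ ringChar F ^ n = 1 :=
    LinearEquiv.ext fun u => left_inj h hx.e_ne (by rw [← h6, hn]; rfl)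
  obtain ⟨a, b, hab⟩ := H.n₁.exists_hyp_of_three H.ha
  obtain rfl : μ = 1 := by
    have h8 : ∀ m, polar R ((α ^ m) a) ((α ^ m) b) = μ ^ m := fun m => by
      induction m with
      | zero => simpa using hab.hef
      | succ m ih => simp [pow_succ', h4, ih]
    exact eq_one_of_pow_char (n := n) (by rw [← h8, h7]; simp [hab.hef])
  obtain ⟨θ, h1, h2, h3⟩ : ∃ θ : End F U, θ x = x ∧ θ x' = x' ∧ ∀ c, polar P c x = 0 →
      polar P c x' = 0 → polar P (θ c) x = 0 ∧ polar P (θ c) x' = 0 ∧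
        ∀ u, ∃ u', k (τ u c) = τ (α u) (θ c) + τ u' x := by
    obtain ⟨π, hπ⟩ : ∃ π : End F U, ∀ z, π z = pr P x x' z := ⟨1 - (polarBilin P x').smulRight x -
      (polarBilin P x).smulRight x', fun z => by simp [pr_def, polar_comm P z]⟩
    refine ⟨π ∘ₗ cL h (polarBilin R (α b)) ∘ₗ k ∘ₗ τ a ∘ₗ π + 1 - π, by
      simp [hπ, pr_def, hx.he, hx.hef], by simp [hπ, pr_def, hx.hf, hx.hfe], fun c h1 h2 => ?_⟩
    obtain ⟨c₁, h3, h8⟩ := h5 c (pc h1)
    obtain ⟨u, hu⟩ := h8 a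
    have : (π ∘ₗ cL h (polarBilin R (α b)) ∘ₗ k ∘ₗ τ a ∘ₗ π + 1 - π : End F U) c = pr P x x' c₁ := by
      simp [hπ, pr_of_orth h1 h2, hu, h4, hab.hfe, pr_def, hx.he, hx.hef, h1, h2, add_smul]
    rw [this]
    refine ⟨hx.pr_e _, hx.pr_f _, fun u => ?_⟩
    obtain ⟨u', hu'⟩ := h8 u
    exact ⟨u' + polar P c₁ x' • α u, by simp [hu', pr_def, pc h3]⟩
  have ind : ∀ {p : U → Prop}, (∀ s t : F, ∀ c, polar P c x = 0 → polar P c x' = 0 →
      p (s • x + t • x' + c)) → ∀ z, p z := fun h z => eq_add_pr (Q := P) z ▸ h _ _ _ (hx.pr_e z) (hx.pr_f z)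
  have h8 : ∀ m c, polar P c x = 0 → polar P c x' = 0 → polar P ((θ ^ m) c) x = 0 ∧
      polar P ((θ ^ m) c) x' = 0 ∧ ∃ u', (k ^ m) (τ a c) = τ ((α ^ m) a) ((θ ^ m) c) + τ u' x :=
    fun m c h1 h2 => by
      induction m with
      | zero => exact ⟨h1, h2, 0, by simp⟩
      | succ m ih =>
        obtain ⟨h8, h9, u, h10⟩ := ih
        obtain ⟨h11, h12, h13⟩ := h3 _ h8 h9
        obtain ⟨u', h14⟩ := h13 ((α ^ m) a)
        exact ⟨by simpa [pow_succ'], by simpa [pow_succ'], u' + α u, by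
          simp [pow_succ', h10, h14, e, add_assoc]⟩
  have h9 := M.eq_one_of_hyp hx (α := θ) (ind fun s t c h8 h9 => ind fun s' t' c' h10 h11 => by
    obtain ⟨a1, a2, a3⟩ := h3 c h8 h9
    obtain ⟨b1, b2, b3⟩ := h3 c' h10 h11
    obtain ⟨u, hu⟩ := a3 a
    obtain ⟨u', hu'⟩ := b3 b
    have := H.pol hk (τ a c) (τ b c')
    simp [hu, hu', H.eq, h4, hab.hef, a1, pc b1, hx.he] at this
    simp [h1, h2, a1, a2, pc b1, pc b2, h8, h9, pc h10, pc h11, this])
    (have := M.h3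
    have : Nontrivial U := nontrivial_of_finrank_pos (R := F) (by omega)
    nil_of_pow (p := ringChar F) (n := n) (LinearMap.ext (ind fun s t c h10 h11 => by
      obtain ⟨h12, h13, u, h14⟩ := h8 (ringChar F ^ n) c h10 h11
      have h15 := congrArg (cL h (polarBilin R b)) h14
      simp only [hn, h7, LinearEquiv.coe_one, id, map_add, cL_apply, polarBilin_apply_apply,
        hab.hfe, one_smul] at h15
      have h16 := congrArg (polar P · x') h15
      simp only [polar_add_left, polar_smul_left, h11, h13, hx.hef, smul_eq_mul, mul_one,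
        zero_add] at h16
      rw [map_add, map_add, map_smul, map_smul, End.pow_apply, End.pow_apply _ _ x',
        Function.iterate_fixed h1, Function.iterate_fixed h2]
      simpa [← h16] using h15.symm))) h1 h2
  refine ⟨mem_O_of_polar H.two fun a b => by rw [h4, one_mul], h7, ind fun s t c h10 h11 h12 u => ?_⟩
  obtain ⟨u', hu⟩ := (h3 c h10 h11).2.2 u
  obtain rfl : t = 0 := by simpa [hx.he, hx.hef, pc h10] using h12
  exact ⟨u', by simp [hu, h9, e, add_assoc]⟩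

theorem OQ.lift4 (H : OQ R P Q h X) (M : M4 P) (hx : Hyp P x x')
    (so : ∀ c d, Pr2 P c d → (H.rhom (iv P c d)).1 ∈ X) {k : V ≃ₗ[F] V} (hk : k ∈ X) {n : ℕ}
    (hn : k ^ ringChar F ^ n = 1) {α : O R} (e : ∀ u, k (τ u x) = τ (α.1 u) x) :
    ∃ g ∈ X, ∀ v, cP h P x v = 0 → g v = (H.flip.rhom α).1 v := by
  obtain ⟨c, d, p, h1, h2, h3, h4⟩ := M.exists_pr2 hx
  obtain ⟨-, -, h5⟩ := H.plane M hx hk hn e
  have h6 : ∀ v, cP h P x v = 0 → ∃ u, k v = (H.flip.rhom α).1 v + τ u x := fun v hv => by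
    obtain ⟨u, hu⟩ := h5 c h1 ((2 * P c)⁻¹ • cP h P c v)
    obtain ⟨u', hu'⟩ := h5 d h3 ((2 * P d)⁻¹ • cP h P d v)
    rw [ker_four M hx p h1 h2 h3 h4 hv]
    exact ⟨u + u', by simp only [map_add, hu, hu', e, H.lhom_apply, LinearMap.add_apply]; abel⟩
  have h7 := so c d p
  have h8 : ∀ u, (H.rhom (iv P c d)).1 (τ u x) = τ u x := fun u => by
    rw [H.rhom_apply, iv_fix (pc h1) (pc h3)]
  have h9 : ∀ v, cP h P x v = 0 → (H.rhom (iv P c d)).1 v = (2 : F) • τ (cP h P x' v) x - v :=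
    fun v hv => by
      have := ker_four M hx p h1 h2 h3 h4 hv
      generalize cP h P x' v = a, (2 * P c)⁻¹ • cP h P c v = b, (2 * P d)⁻¹ • cP h P d v = b' at this
      simp only [this, map_add, h8, H.rhom_apply _ _ c, H.rhom_apply _ _ d, p.iv_left, p.iv_right,
        map_neg]
      module
  have h10 : (H.rhom (iv P c d)).1⁻¹ = (H.rhom (iv P c d)).1 := by
    rw [← Subgroup.coe_inv, ← map_inv, inv_eq_of_mul_eq_one_right p.iv_sq]
  generalize (H.rhom (iv P c d)).1 = σ at *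
  have h11 : ∀ v u, cP h P x v = 0 → k v = (H.flip.rhom α).1 v + τ u x →
      (k⁻¹ * σ * k * σ⁻¹) v = v + τ ((-2 : F) • α⁻¹.1 u) x := fun v u hv hu => k.injective (by
    have := h9 ((H.flip.rhom α).1 v) (by rw [H.cP_lhom, hv, map_zero])
    simp only [LinearEquiv.mul_apply, apply_inv_apply, h10, h9 v hv, map_sub, map_smul, map_add, e,
      hu, h8, this, H.cP_lhom, O_apply_inv_apply, LinearMap.smul_apply]
    module)
  obtain ⟨z, h12, h13⟩ := H.eq_eich hx.he hx.e_ne (t := k⁻¹ * σ * k * σ⁻¹)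
    ⟨mul_mem (mul_mem (mul_mem (inv_mem hk) h7) hk) (inv_mem h7), fun u => by
      simpa using h11 (τ u x) 0 (by simp [hx.he]) (by simp [e, H.lhom_apply]), fun v hv =>
      let ⟨u, hu⟩ := h6 v hv; ⟨_, h11 v u hv hu⟩⟩
  refine ⟨_, mul_mem hk (H.right (eich_mem_E x ((2 : F)⁻¹ • z))), fun v hv => ?_⟩
  obtain ⟨u, hu⟩ := h6 v hv
  have h14 := h11 v u hv hu
  rw [h13, H.rhom_eich hx.he h12] at h14
  simp only [hv, smul_zero, sub_zero, map_zero, LinearMap.zero_apply, add_right_inj] at h14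
  rw [LinearEquiv.mul_apply, H.rhom_eich hx.he (by simp [h12])]
  simp [hv, h14, hu, e, smul_smul, H.two]

variable {s s' : End F U →ₐ[F] End F V} {a b u w : U}

theorem nma_s {g : V ≃ₗ[F] V} {α : U ≃ₗ[F] U} (h : Nma g s s' α) (a : End F U) :
    g * s a = s' (α.conj a) * g := by
  have : ∀ a, g * s a = s' (α.conj a) * g := fun a => mem_of_rankOne (A := LinearMap.eqLocus
    (LinearMap.mulLeft F (g : End F V) ∘ₗ s.toLinearMap) (LinearMap.mulRight F (g : End F V) ∘ₗ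
      s'.toLinearMap ∘ₗ α.conj.toLinearMap)) (fun u φ => (h u φ).trans
        (congrArg (s' · * (g : End F V)) (by ext; simp [LinearEquiv.conj_apply]))) a
  exact this a

theorem iv_not_mem [Nontrivial V] (M : M4 P) (p : Pr2 P u w) : s (iv P u w).1 ∉ Cm s := fun h => by
  obtain ⟨c, d, f⟩ := M.exists_fr p
  have := Cm_r h c (polarBilin P u)
  rw [s_mul_r, r_mul_s, show polarBilin P u ∘ₗ ((iv P u w).1 : End F U) = -polarBilin P u from
    LinearMap.ext fun v => by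
      simp [← O_polar_inv_left, inv_eq_of_mul_eq_one_right p.iv_sq, p.iv_left],
    LinearEquiv.coe_coe, iv_fix f.ac f.bc, map_neg, eq_neg_iff_add_eq_zero, ← two_smul F] at this
  exact smul_ne_zero M.h2 (r_ne_zero (ne_zero_of_Q f.hc) (pb_ne M.nd (ne_zero_of_Q p.ha))) this

theorem pj_comm (h : a = b ∨ polar P a b = 0) : pj P s a * pj P s b = pj P s b * pj P s a :=
  h.elim (fun e => e ▸ rfl) fun e => by rw [pj_orth e, pj_orth (pc e)]

theorem pj_co (h2 : (2 : F) ≠ 0) (ha : P a ≠ 0) {N : End F V} (h : pj P s a * N = N * pj P s a) :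
    pj P s a * N = pj P s a * co s N ((2 * P a)⁻¹ • polarBilin P a) a := by
  rw [pj, ← r_co, ← pj, mul_assoc, ← h, ← mul_assoc, pj_sq h2 ha]

theorem comm_pj (h2 : (2 : F) ≠ 0) {N : End F V} (h : s (refl P a).1 * N = N * s (refl P a).1) :
    pj P s a * N = N * pj P s a := by
  simpa [s_refl h2, mul_sub, sub_mul, h2] using h

theorem s_iv (h2 : (2 : F) ≠ 0) (p : Pr2 P a b) :
    s (iv P a b).1 = 1 - (2 : F) • (pj P s a + pj P s b) := by
  rw [iv, Subgroup.coe_mul, LinearEquiv.coe_toLinearMap_mul, map_mul, s_refl h2, s_refl h2]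
  simp [mul_sub, sub_mul, pj_orth p.ab, sub_sub]

theorem Fr.mid (f : Fr P a b c d) : Fr P a c b d :=
  ⟨⟨f.ha, f.hc, f.ac⟩, f.hb, f.hd, f.ab, f.ad, pc f.bc, f.cd, f.bd⟩

theorem M4.exists_pi (M : M4 P) : ∃ a b c d, Fr P a b c d ∧ P b = P a := by
  obtain ⟨a, ha, -⟩ := M.exists_ns2 0 0
  obtain ⟨b, c, d, f⟩ := M.exists_fr1 ha
  obtain ⟨c, d, f, e⟩ := M.exists_val f.toPr2 _ ha
  exact ⟨a, c, b, d, f.mid, e⟩

variable (s) in
/-- The invertible maps commuting with a factor. -/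
def CU : Subgroup (V ≃ₗ[F] V) where
  carrier := {g | (g : End F V) ∈ Cm s}
  mul_mem' ha hb := (Cm s).mul_mem ha hb
  one_mem' := one_mem (Cm s)
  inv_mem' := inv_mem_Cm

end One

variable {T : Type*} {s : T → End F U →ₐ[F] End F V} [Finite T] [Finite F] {H : OT s P Q}
  {i j l o : T} {x x' u w : U} {g k : V ≃ₗ[F] V}

theorem OT.cpw (H : OT s P Q) (M : M4 P) (p : Pr2 P u w) (hk : k ∈ O Q) {n : ℕ}
    (hn : k ^ ringChar F ^ n = 1) (h : Nm k (s i) (s i)) (hc : Commute (sh (s i) (iv P u w).1) k) :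
    (k : End F V) ∈ Cm (s i) := by
  have := H.nt
  have := H.ntU
  have hp : Fact (ringChar F).Prime := ⟨CharP.char_is_prime F _⟩
  obtain ⟨α, hα⟩ := h.nma
  obtain ⟨μ, hμ, h1⟩ := H.sim_of_nma hk hα
  have k1 : ∀ {g : V ≃ₗ[F] V} {a b}, s i a * g = s i b * g → a = b := fun {g a b} e =>
    s_inj (s := s i) (by simpa [mul_assoc, coe_mul_inv] using congrArg (· * ((g⁻¹ :) : End F V)) e)
  have h2 := k1 ((nma_s hα _).symm.trans (congrArg LinearEquiv.toLinearMap hc.eq).symm)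
  have h3 : ∀ m a, (k ^ m : V ≃ₗ[F] V) * s i a = s i ((α ^ m).conj a) * (k ^ m :) := fun m => by
    induction m with
    | zero => simp [LinearEquiv.one_eq_refl, ← End.one_eq_id]
    | succ m ih =>
      intro a
      rw [pow_succ', LinearEquiv.coe_toLinearMap_mul, mul_assoc, ih, ← mul_assoc, nma_s hα,
        mul_assoc, pow_succ']
      rfl
  obtain ⟨c, hc⟩ := scalar_of_forall_mem_span (f := ((α ^ ringChar F ^ n :) : End F U)) fun v => by
    by_cases hv : v = 0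
    · simp [hv]
    obtain ⟨θ, hθ⟩ := exists_dual_one_of_ne (F := F) hv
    have := LinearMap.congr_fun (k1 (b := θ.smulRight v) ((h3 (ringChar F ^ n)
      (θ.smulRight v)).symm.trans (by rw [hn]; simp [← End.one_eq_id]))) ((α ^ ringChar F ^ n) v)
    simp [LinearEquiv.conj_apply, hθ] at this
    exact Submodule.mem_span_singleton.2 ⟨_, this.symm⟩
  obtain ⟨c, rfl⟩ := (iterateFrobeniusEquiv F (ringChar F) n).surjective c
  obtain ⟨v, hv⟩ := H.nP.exists_nonsingular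
  have h4 : c ≠ 0 := by rintro rfl; exact ne_zero_of_Q hv (by simpa using hc v)
  have h5 : (c⁻¹ • (α : End F U)) ^ ringChar F ^ n = 1 := LinearMap.ext fun v => by
    rw [smul_pow, ← coe_pow, LinearMap.smul_apply, hc]
    simp [iterateFrobenius_def, h4, smul_smul]
  have h6 : Sim P (c⁻¹ • (α : End F U)) (c⁻¹ * c⁻¹ * μ) := fun a b => by
    simpa [mul_assoc, h4] using h1 a b
  have h7 : ∀ m, P (((c⁻¹ • (α : End F U)) ^ m) v) = (c⁻¹ * c⁻¹ * μ) ^ m * P v := fun m => by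
    induction m with
    | zero => simp
    | succ m ih => rw [pow_succ', End.mul_apply, h6.Q H.h2, ih]; ring
  rw [eq_one_of_pow_char (mul_eq_right₀ hv |>.1 ((h7 _).symm.trans (by rw [h5]; rfl)))] at h6
  have h8 := M.eq_one_of_iv p h6 (nil_of_pow h5) (LinearMap.ext fun z => by
    simpa [LinearEquiv.conj_apply, h4] using LinearMap.congr_fun h2 (α z))
  exact H.Cm_of_scalar hα fun v => Submodule.mem_span_singleton.2 ⟨c, by
    simpa [inv_smul_eq_iff₀ h4, eq_comm] using LinearMap.congr_fun h8 v⟩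

theorem OT.comm_mem (H : OT s P Q) [Nontrivial T] {Γ : Subgroup (V ≃ₗ[F] V)}
    (hB : ∀ β ∈ O Q, (β : End F V) ∈ Cm (s j) → β ^ ringChar F = 1 → β ∈ Γ) (hg : g ∈ O Q)
    (hg' : (g : End F V) ∈ Cm (s j)) (hk : k ∈ O Q) (hk' : (k : End F V) ∈ Cm (s j)) :
    g * k * g⁻¹ * k⁻¹ ∈ Γ := by
  obtain ⟨W, τ, h, R, s', S, H', -⟩ := H.split j
  obtain ⟨l, hl⟩ := exists_ne j
  have := H.ntU
  obtain ⟨α, rfl⟩ := S.eq_lhom hg hg'
  obtain ⟨β, rfl⟩ := S.eq_lhom hk hk'
  simpa [commutatorElement_def] using OrthE.E_le (H := Γ.comap ((O Q).subtype.comp S.flip.rhom))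
    (fun u v hu hv => hB _ (Subtype.prop _) (S.lhom_eq _ ▸ S.lf_mem _) (pow_eich S.flip hu hv))
    (comm_le_E H'.nQ (H'.three ⟨l, hl⟩) (Subgroup.commutator_mem_commutator (Subgroup.mem_top α)
      (Subgroup.mem_top β)))

end CfsgLib.C7O
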