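import Mathlib
import Cfsg.Agent.Lib.C7O.Ov4

/-!
Overgroups of the stabiliser of a tensor power of a four-dimensional orthogonal space: the
stabilisers of the subspaces `x ⊗ W`, `x` singular.
-/

set_option autoImplicit false
set_option linter.unusedSectionVars false

namespace CfsgLib.C7O

open Module CfsgLib.ClMax CfsgLib.ClMax.Ten CfsgLib.OrthE CfsgLib.OMax QuadraticMap CfsgLib.C7

variable {F U V : Type*} [Field F] [AddCommGroup U] [Module F U] [AddCommGroup V] [Module F V]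
  {P : QuadraticForm F U} {Q : QuadraticForm F V} [FiniteDimensional F U] [FiniteDimensional F V]
  {X : Subgroup (V ≃ₗ[F] V)} {T : Type*} {s : T → End F U →ₐ[F] End F V} [Finite T] [Finite F]
  {H : OT s P Q} {i j l o : T} {a b c d x x' u w : U} {g k : V ≃ₗ[F] V}

theorem sh_eich_pow (s : End F U →ₐ[F] End F V) (hx : P x = 0) (hc : polar P x c = 0) :
    sh s (eich P x c).1 ^ ringChar F = 1 := by
  rw [← map_pow, ← Subgroup.coe_pow, eich_pow hx hc]; simp [eich_zero_right]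

theorem sq_mem_of_inv {G : Type*} [Group G] {C : Subgroup G} {γ γ' e e' : G} (h : γ ∈ C) (h' : γ' ∈ C)
    (c : Commute e e') (c1 : Commute e' γ) (c3 : Commute e γ')
    (h1 : γ * e * (γ' * e') * (γ * e)⁻¹ = (γ' * e')⁻¹) : (γ' * e') ^ 2 ∈ C := by
  rw [mul_assoc γ, (c3.mul_right c).eq, mul_inv_rev, mul_assoc, mul_assoc, mul_inv_cancel_left,
    mul_assoc, c1.inv_right.eq, eq_inv_iff_mul_eq_one, ← mul_assoc γ', ← mul_assoc γ, mul_assoc,
    ← inv_eq_iff_mul_eq_one] at h1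
  rw [pow_two, mul_assoc, ← h1]
  exact mul_mem h' (inv_mem (mul_mem h (mul_mem h' (inv_mem h))))

theorem OT.not_wr (H : OT s P Q) (M : M4 P) (hlo : l ≠ o) (p : Pr2 P a b) {β : V ≃ₗ[F] V}
    (e : (β : End F V) = 1 - (2 : F) • (pj P (s l) a * (pj P (s o) a + pj P (s o) b))) :
    β ∉ H.Wr := fun h => by
  have := H.nt
  obtain ⟨m, hm⟩ := h l
  obtain ⟨γ, h1⟩ := hm ((polarBilin P a).smulRight b)
  have h2 : pj P (s o) a + pj P (s o) b ∈ Cm (s l) := add_mem (H.pj_mem hlo _) (H.pj_mem hlo _)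
  have h3 : r (s l) b (polarBilin P a) * s o (iv P a b).1 * s o (iv P a b).1 =
      r (s l) b (polarBilin P a) := by
    rw [mul_assoc, ← map_mul, ← LinearEquiv.coe_toLinearMap_mul, ← Subgroup.coe_mul, p.iv_sq]
    exact (congrArg _ (map_one _)).trans (mul_one _)
  have h4 : r (s l) b (polarBilin P a) * β = r (s l) b (polarBilin P a) * s o (iv P a b).1 := by
    rw [e, s_iv H.h2 p]
    generalize pj P (s o) a + pj P (s o) b = E
    simp [mul_sub, pj, smul_smul, H.h2, p.ha, -mul_inv_rev]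
  have h5 : β * r (s l) b (polarBilin P a) = r (s l) b (polarBilin P a) := by
    rw [e]
    generalize pj P (s o) a + pj P (s o) b = E at h2
    simp [sub_mul, pj, mul_assoc, Cm_r h2, p.ab]
  have h6 : s m γ = r (s l) b (polarBilin P a) * s o (iv P a b).1 := by
    rw [← mul_one (s m γ), ← coe_mul_inv β, ← mul_assoc, ← h1, ← r_def, h5, eq_comm,
      ← mul_one (_ * s o _), ← coe_mul_inv β, ← mul_assoc, ← Cm_r (H.comm hlo _), mul_assoc (s o _),
      h4, ← mul_assoc, Cm_r (H.comm hlo _), h3]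
  have h7 := smulRight_ne_zero (ne_zero_of_Q p.hb) (pb_ne M.nd (ne_zero_of_Q p.ha))
  by_cases h8 : m = o
  · exact r_not_mem_Cm (ne_zero_of_Q p.hb) (pb_ne M.nd (ne_zero_of_Q p.ha)) p.ab
      (h3 ▸ h6 ▸ mul_mem (H.comm (h8 ▸ hlo) γ) (H.comm hlo _))
  · exact iv_not_mem M p (cm_cancel (H.comm hlo) h7 (H.comm hlo _) (h6 ▸ H.comm (Ne.symm h8) γ :))

theorem OT.diag_zero (H : OT s P Q) (M : M4 P) (hj : l ≠ j) (hj' : o ≠ j) (hlo : l ≠ o)
    (f : Fr P a b c d) (hx : P x = 0) (hg : g ∈ O Q) {N : End F V} (e : (g : End F V) = 1 + ee P (s j) x * N)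
    (h1 : ∀ m, m ≠ l → m ≠ o → N ∈ Cm (s m)) (h2 : ∀ m z, m = l ∨ m = o →
      z = a ∨ z = b ∨ z = c ∨ z = d → pj P (s m) z * N = N * pj P (s m) z) : g = 1 := by
  have k : ∀ y z, P y ≠ 0 → P z ≠ 0 → pj P (s l) y * N = N * pj P (s l) y →
      pj P (s o) z * N = N * pj P (s o) z →
        pj P (s l) y * (pj P (s o) z * (ee P (s j) x * N)) = 0 := fun y z hy hz h3 h4 => by
    obtain ⟨t, ht⟩ := H.scalar (E := co (s l) (co (s o) N ((2 * P z)⁻¹ • polarBilin P z) z)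
      ((2 * P y)⁻¹ • polarBilin P y) y) fun m => by
        by_cases e1 : m = l
        · exact e1 ▸ co_mem _ _ _
        refine co_mem_Cm (H.comm (Ne.symm e1)) ?_ _ _
        by_cases e2 : m = o
        · exact e2 ▸ co_mem _ _ _
        · exact co_mem_Cm (H.comm (Ne.symm e2)) (h1 m e1 e2) _ _
    have h5 : pj P (s l) y * pj P (s o) z * N = t • (pj P (s l) y * pj P (s o) z) := by
      rw [mul_assoc, pj_co H.h2 hz h4, ← mul_assoc, pj, ← Cm_r (H.pj_mem hlo z), ← pj, mul_assoc,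
        pj_co H.h2 hy (co_comm (H.pj_mem hlo.symm y) h3 _ _), ht]
      simp
    have h6 := H.pj_two hlo hy hz
    have h7 : pj P (s l) y * pj P (s o) z ∈ Cm (s j) :=
      mul_mem (H.pj_mem hj.symm _) (H.pj_mem hj'.symm _)
    have h8 : ∀ v w, polar Q ((pj P (s l) y * pj P (s o) z) v) w =
        polar Q v ((pj P (s l) y * pj P (s o) z) w) := fun v w => by
      rw [End.mul_apply, H.adj_pj, H.adj_pj, ← End.mul_apply, pj, pj, Cm_r (H.r_mem hlo _ _)]
    have h9 : N * (pj P (s l) y * pj P (s o) z) = pj P (s l) y * pj P (s o) z * N := by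
      rw [← mul_assoc, ← h3, mul_assoc, ← h4, mul_assoc]
    rw [← mul_assoc]
    generalize pj P (s l) y * pj P (s o) z = E at *
    rw [Cm_r' h7, h5]
    refine LinearMap.ext fun v => H.nQ _ fun w => ?_
    have h10 : ∀ v, g (E v) = E v + t • ee P (s j) x (E v) := fun v => by
      simpa [← End.mul_apply N, h9, h5] using LinearMap.congr_fun e (E v)
    have := O_polar ⟨g, hg⟩ (E v) (E w)
    simp only [h10, polar_add_left, polar_add_right, polar_smul_left, polar_smul_right, H.adj_r, r_r,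
      polarBilin_apply_apply, pself hx, zero_smul, polar_zero_right, smul_eq_mul, h8, map_zero,
      ← Cm_r_apply h7, ← End.mul_apply E E, h6] at this
    simp only [mul_smul_comm, LinearMap.smul_apply, End.mul_apply, polar_smul_left, H.adj_r, h8,
      smul_eq_mul]
    exact mul_left_cancel₀ H.h2 (by linear_combination this)
  have k2 : ∀ y, P y ≠ 0 → pj P (s l) y * N = N * pj P (s l) y →
      pj P (s l) y * (ee P (s j) x * N) = 0 := fun y hy h3 => by
    rw [← one_mul (ee P _ _ * N), ← M.pj_sum (s := s o) f]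
    simp only [add_mul, mul_add, k y a hy f.ha h3 (h2 _ _ (.inr rfl) (by simp)),
      k y b hy f.hb h3 (h2 _ _ (.inr rfl) (by simp)), k y c hy f.hc h3 (h2 _ _ (.inr rfl) (by simp)),
      k y d hy f.hd h3 (h2 _ _ (.inr rfl) (by simp)), add_zero]
  refine LinearEquiv.toLinearMap_injective ?_
  rw [e, ← one_mul (ee P _ _ * N), ← M.pj_sum (s := s l) f]
  simp only [add_mul, k2 a f.ha (h2 _ _ (.inl rfl) (by simp)), k2 b f.hb (h2 _ _ (.inl rfl) (by simp)),
    k2 c f.hc (h2 _ _ (.inl rfl) (by simp)), k2 d f.hd (h2 _ _ (.inl rfl) (by simp)), add_zero]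
  exact M.pj_sum f

namespace OV

variable (K : OV H X) (hE : ¬ E Q ≤ X.subgroupOf (O Q)) (M : M4 P)
include K hE M

theorem small (hx : P x = 0) (hx0 : x ≠ 0) {β : V ≃ₗ[F] V} (h1 : β ∈ O Q)
    (h2 : (β : End F V) ∈ Cm (s j)) (h4 : β ∈ Lf (s j) X x) : β ∈ H.Wr := by
  have := K.nt
  have := H.nt
  have := H.ntU
  have hp : Fact (ringChar F).Prime := ⟨CharP.char_is_prime F _⟩
  have := finite_equiv (F := F) (V := V)
  by_cases hT : ∀ i j : T, ∃ k, k ≠ i ∧ k ≠ j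
  swap
  · obtain ⟨i, hi⟩ := two_slot hT j
    obtain ⟨a, ha⟩ := H.mem_range (i := i) fun l hl => hi l hl ▸ h2
    exact H.mem_Wr_of_eq ha
  refine (K.di j (Lf (s j) X x) fun g hg h => ⟨h, g, hg, fun _ _ => rfl⟩).elim
    (fun h => h β h1 h2 h4) fun hB => False.elim ?_
  clear h1 h2 h4 β
  obtain ⟨o, ho, -⟩ := hT j j
  obtain ⟨l, hl, hl'⟩ := hT j o
  obtain ⟨x', hx'⟩ := H.nP.exists_hyp hx hx0
  let Γ : Subgroup (V ≃ₗ[F] V) :=
    { carrier := {β | (β : End F V) ∈ Cm (s j) ∧ ∃ n ∈ X, ∀ v, ee P (s j) x v = 0 → n v = β v}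
      mul_mem' := fun ⟨h1, g, hg, e⟩ ⟨h2, k, hk, e'⟩ => ⟨mul_mem h1 h2, g * k, mul_mem hg hk,
        fun v hv => by
          rw [LinearEquiv.mul_apply, e' v hv]
          exact e _ ((Cm_r_apply h2 ..).symm.trans (by rw [hv, map_zero]))⟩
      one_mem' := ⟨one_mem _, 1, one_mem _, fun _ _ => rfl⟩
      inv_mem' := fun ⟨h1, g, hg, e⟩ => ⟨inv_mem_Cm h1, g⁻¹, inv_mem hg, fun v hv => g.injective (by
        rw [apply_inv_apply]
        exact ((e _ ((Cm_r_apply (inv_mem_Cm h1) ..).symm.trans (by rw [hv, map_zero]))).trans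
          (apply_inv_apply ..)).symm)⟩ }
  have hΓ : ∀ β ∈ O Q, (β : End F V) ∈ Cm (s j) → β ^ ringChar F = 1 → β ∈ Γ := fun β h1 h2 h3 => by
    obtain ⟨-, g, hg, e⟩ := hB β h1 h2 h3
    obtain ⟨m, n, hm, hn⟩ := exists_ppart (ringChar F) g
    obtain ⟨W, τ, h, R, S, B⟩ := K.exists_oq hE j
    obtain ⟨α, hα⟩ := S.eq_lhom (pow_mem h1 m) (pow_mem_Cm h2 m)
    obtain ⟨k, hk, e'⟩ := B.lift4 M hx' (fun c d p => S.rhom_sh _ ▸ K.so_mem M j p.ha p.hb)
      (pow_mem hg m) hn (α := α) fun u => by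
        rw [pow_eq_of_L h2 e m _ (S.tau_mem u x), hα, S.lhom_apply]
    exact mem_of_pow_mem hp.1 h3 hm ⟨pow_mem_Cm h2 m, k, hk, fun v hv =>
      hα ▸ e' v ((S.cP_iff hx0).2 hv)⟩
  obtain ⟨a, b, c, d, f, hab⟩ := M.exists_pi
  have p : PI P a b := ⟨f.toPr2, hab⟩
  have z1 := H.zt_mem hl' f.ha f.ha
  have z2 : (zt _ (H.pj_two hl' f.ha f.ha) : End F V) ∈ Cm (s j) := sub_mem (one_mem _)
    (Subalgebra.smul_mem _ (mul_mem (H.pj_mem hl.symm _) (H.pj_mem ho.symm _)) _)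
  have z3 := H.comm_mem hΓ z1 z2 (H.sh_mem o (refl P (a - b))) (H.comm ho.symm _)
  have b1 := mul_mem z1 (H.zt_mem hl' f.ha f.hb)
  rw [inv_eq_of_mul_eq_one_right (zt_sq _), mul_assoc, mul_assoc, ← mul_assoc (sh _ _), zt_conj _
    (H.pj_two hl' f.ha f.hb) (by
      rw [sh_coe, pj, Cm_r' (H.comm hl' _), (sim_O _).pj H.h2 one_ne_zero,
        refl_sub_apply hab.symm (p.sub H.h2), mul_assoc])] at z3
  obtain ⟨β, hβ⟩ : ∃ β, β = zt _ (H.pj_two hl' f.ha f.ha) * zt _ (H.pj_two hl' f.ha f.hb) := ⟨_, rfl⟩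
  rw [← hβ] at z3 b1
  obtain ⟨b2, n, hn, e'⟩ := z3
  have b3 : (β : End F V) = 1 - (2 : F) • (pj P (s l) a * (pj P (s o) a + pj P (s o) b)) := by
    have : pj P (s l) a * pj P (s o) a * (pj P (s l) a * pj P (s o) b) = 0 := by
      rw [mul_assoc, pj, Cm_r' (H.pj_mem hl' a), pj_orth f.ab]; simp
    simp [hβ, zt_coe, mul_sub, sub_mul, this, mul_add, sub_sub]
  obtain ⟨D, hD⟩ : ∃ D : End F V, D = n - β := ⟨_, rfl⟩
  have k : ∀ v, ee P (s j) x (v - r (s j) x' (polarBilin P x) v) = 0 := fun v => by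
    simp [hx'.hef]
  have d1 : D * r (s j) x' (polarBilin P x) = D := LinearMap.ext fun v => by
    have := e' _ (k v)
    simp only [map_sub] at this
    simp only [hD, End.mul_apply, LinearMap.sub_apply, LinearEquiv.coe_coe]
    linear_combination (norm := module) -this
  have d2 : r (s j) x (polarBilin P x') * D = D := LinearMap.ext fun v => polar_ext H.nQ fun c => by
    have h11 := k c
    rw [polar_comm, End.mul_apply, H.adj_r, polar_comm Q c, eq_comm, ← sub_eq_zero, ← polar_sub_right]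
    generalize c - _ = c at h11
    obtain ⟨c, rfl⟩ := β.surjective c
    have h12 := e' c (β.injective (((Cm_r_apply b2 ..).trans h11).trans (map_zero _).symm))
    rw [hD, LinearMap.sub_apply, polar_sub_left, LinearEquiv.coe_coe, LinearEquiv.coe_coe,
      O_polar ⟨β, b1⟩, ← h12, O_polar ⟨n, K.hX hn⟩, sub_self]
  have d3 : ∀ w ∈ X, (w : End F V) ∈ Cm (s j) → (w : End F V) * β = β * w →
      w * co (s j) ((β⁻¹ :) * D) (polarBilin P x') x' = co (s j) ((β⁻¹ :) * D) (polarBilin P x') x' * w :=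
    fun w hw h1 h2 => co_comm h1 (by
      have h3 : Commute w β := LinearEquiv.toLinearMap_injective h2
      have h4 : n * w = w * n := K.eq_of_fix hE hx hx0 (mul_mem hn hw) (mul_mem hw hn) (i := j)
        fun v hv => by
          rw [LinearEquiv.mul_apply, e' (w v) ((Cm_r_apply h1 ..).symm.trans (by rw [hv, map_zero])),
            ← LinearEquiv.mul_apply, ← h3.eq, LinearEquiv.mul_apply, ← e' v hv, LinearEquiv.mul_apply]
      simp only [hD, mul_sub, sub_mul, ← LinearEquiv.coe_toLinearMap_mul, mul_assoc, h4, ← h3.eq,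
        ← mul_assoc w, h3.inv_right.eq]) _ _
  have h5 := H.diag_zero M hl ho hl' f hx (mul_mem (inv_mem b1) (K.hX hn))
    (N := co (s j) ((β⁻¹ :) * D) (polarBilin P x') x') (by
      rw [← r_co, ← Cm_r' (inv_mem_Cm b2), d2, mul_assoc, d1, hD, mul_sub, coe_inv_mul]; simp)
    (fun m h1 h2 => by
      by_cases h3 : m = j
      · exact h3 ▸ co_mem _ _ _
      refine cm_of_eich H.nP H.h2 H.h3 fun y z _ _ => d3 _ (K.sh_mem m (eich_mem_E y z))
        (H.comm (Ne.symm h3) _) (mem_Cm.1 ?_ _)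
      exact b3 ▸ sub_mem (one_mem _) (Subalgebra.smul_mem _ (mul_mem (H.pj_mem h1 _)
        (add_mem (H.pj_mem h2 _) (H.pj_mem h2 _))) _))
    fun m z hm hz => by
      have h1 : P z ≠ 0 ∧ (z = a ∨ polar P z a = 0) ∧ (z = b ∨ polar P z b = 0) := by
        rcases hz with rfl | rfl | rfl | rfl <;>
          simp [f.ha, f.hb, f.hc, f.hd, f.ab, pc f.ab, pc f.ac, pc f.ad, pc f.bc, pc f.bd]
      refine comm_pj H.h2 (d3 _ (K.refl_mem M hT m h1.1) (H.comm (by rcases hm with rfl | rfl <;>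
        tauto) _) ?_)
      have h2 : pj P (s m) z * (pj P (s l) a * (pj P (s o) a + pj P (s o) b)) =
          pj P (s l) a * (pj P (s o) a + pj P (s o) b) * pj P (s m) z := by
        rcases hm with rfl | rfl
        · rw [← mul_assoc, pj_comm h1.2.1, mul_assoc, mul_assoc, pj.eq_1 _ _ z,
            Cm_r (add_mem (H.pj_mem hl' _) (H.pj_mem hl' _))]
        · rw [pj.eq_1 _ _ a, Cm_r' (H.pj_mem hl' z), mul_add, pj_comm h1.2.1, pj_comm h1.2.2,
            ← add_mul, mul_assoc]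
      simp only [sh_coe, s_refl H.h2, b3, mul_sub, sub_mul, h2, smul_mul_assoc, mul_smul_comm, mul_one,
        one_mul]
      module
  exact H.not_wr M hl' f.toPr2 b3 (K.cm_le hE (inv_mul_eq_one.1 h5 ▸ hn) b2)

theorem pw (hx : P x = 0) (hx0 : x ≠ 0) (hk : k ∈ X) {n : ℕ} (hn : k ^ ringChar F ^ n = 1)
    (hs : ∀ v ∈ L (s l) x, k v ∈ L (s l) x) : ∃ c, polar P x c = 0 ∧ ∃ γ ∈ X, γ ∈ H.Wr ∧
      (γ : End F V) ∈ Cm (s l) ∧ γ ^ ringChar F ^ n = 1 ∧ k = γ * sh (s l) (eich P x c).1 := by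
  have hp : Fact (ringChar F).Prime := ⟨CharP.char_is_prime F _⟩
  obtain ⟨W, τ, h, R, S, B⟩ := K.exists_oq hE l
  obtain ⟨α, hα⟩ := exists_equiv2 h h rfl hx0 hx0 fun u => S.mem_L hx0 (hs _ (S.tau_mem u x))
  obtain ⟨x', hx'⟩ := H.nP.exists_hyp hx hx0
  obtain ⟨h1, h2, h3⟩ := B.plane M hx' hk hn hα
  obtain ⟨γ, rfl⟩ : ∃ γ : O R, γ.1 = α := ⟨⟨α, h1⟩, rfl⟩
  have h4 : ((S.flip.rhom γ).1 : End F V) ∈ Cm (s l) := S.lhom_eq γ ▸ S.lf_mem _
  have h5 := K.small hE M hx hx0 (S.flip.rhom γ).2 h4 ⟨h4, k, hk, fun v hv => by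
    obtain ⟨u, rfl⟩ := S.mem_L hx0 hv
    rw [hα, S.lhom_apply]⟩
  have h6 : (S.flip.rhom γ).1 ^ ringChar F ^ n = 1 := by
    rw [← Subgroup.coe_pow, ← map_pow, show γ ^ ringChar F ^ n = 1 from Subtype.ext h2]; simp
  have h7 := K.mem_odd (S.flip.rhom γ).2 h5 (odd_char H.h2 _).pow h6
  obtain ⟨c, d, p, a1, a2, a3, a4⟩ := M.exists_pr2 hx'
  obtain ⟨z, h8, h9⟩ := B.eq_eich hx hx0 (t := (S.flip.rhom γ).1⁻¹ * k) ⟨mul_mem (inv_mem h7) hk,
    fun u => by rw [LinearEquiv.mul_apply, hα, ← S.lhom_apply, inv_apply_apply], fun v hv => by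
      obtain ⟨u, hu⟩ := h3 c a1 ((2 * P c)⁻¹ • cP h P c v)
      obtain ⟨u', hu'⟩ := h3 d a3 ((2 * P d)⁻¹ • cP h P d v)
      rw [ker_four M hx' p a1 a2 a3 a4 hv]
      refine ⟨γ⁻¹.1 (u + u'), (S.flip.rhom γ).1.injective ?_⟩
      simp only [LinearEquiv.mul_apply, apply_inv_apply, map_add, hu, hu', hα, S.lhom_apply,
        O_apply_inv_apply, LinearMap.add_apply]
      abel⟩
  exact ⟨z, h8, _, h7, h5, h4, h6, by rw [← S.rhom_sh, ← h9, mul_inv_cancel_left]⟩

theorem sv (hx : P x = 0) (hx0 : x ≠ 0) (hw : P w = 0) (h0 : w ≠ 0) (hg : g ∈ X)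
    (hs : ∀ z ∈ L (s i) x, g z ∈ L (s j) w) : Nm g (s i) (s j) := by
  have := H.nt
  have := H.ntU
  have hp : Fact (ringChar F).Prime := ⟨CharP.char_is_prime F _⟩
  have h1 : (L (s i) x).map (g : End F V) = L (s j) w := Submodule.eq_of_le_of_finrank_eq
    (by rintro _ ⟨z, hz, rfl⟩; exact hs z hz)
    (by rw [LinearEquiv.finrank_map_eq, finrank_L hx0, finrank_L h0])
  have cm : ∀ {γ}, γ ∈ CU (s j) → ∀ c, Commute (sh (s j) (eich P w c).1) γ := fun h c =>
    LinearEquiv.toLinearMap_injective (mem_Cm.1 h _)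
  let Γ : Subgroup (V ≃ₗ[F] V) :=
    { carrier := {y | ∃ c, polar P w c = 0 ∧ ∃ γ ∈ CU (s j), y = γ * sh (s j) (eich P w c).1}
      mul_mem' := by
        rintro _ _ ⟨c, hc, γ, h, rfl⟩ ⟨c', hc', γ', h', rfl⟩
        exact ⟨c + c', by simp [hc, hc'], _, mul_mem h h', by
          rw [← eich_mul hw hc hc', Subgroup.coe_mul, map_mul, (cm h' c).mul_mul_mul_comm]⟩
      one_mem' := ⟨0, by simp, 1, one_mem _, by simp [eich_zero_right]⟩
      inv_mem' := by
        rintro _ ⟨c, hc, γ, h, rfl⟩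
        exact ⟨-c, by simp [hc], _, inv_mem h, by
          rw [← (cm h c).eq, mul_inv_rev, eich_neg, Subgroup.coe_inv, map_inv]⟩ }
  refine inv_inv g ▸ Nm.symm fun a => ?_
  obtain ⟨b, hb⟩ := H.mem_range (E := (g⁻¹ : V ≃ₗ[F] V) * s j a * g) (i := i) fun l hl =>
    cm_of_eich H.nP H.h2 H.h3 fun y c hy hc => by
      have h2 : ∀ {e}, e ∈ E P → g * sh (s l) e.1 * g⁻¹ ∈ Γ := fun he =>
        OrthE.E_le (H := Γ.comap ((MulAut.conj g).toMonoidHom.comp ((sh (s l)).comp (O P).subtype)))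
          (fun y c hy hc => by
            obtain ⟨z, h2, γ, -, -, h3, -, h4⟩ := K.pw hE M hw h0 (mul_mem (mul_mem hg (K.sh_mem l
              (eich_mem_E y c))) (inv_mem hg)) (n := 1) (l := j)
              (by rw [pow_one, conj_pow, sh_eich_pow _ hy hc]; simp) fun v hv => by
                obtain ⟨z, hz, rfl⟩ := h1.ge hv
                simpa [sh_apply] using hs _ (Cm_mem_L (H.comm hl.symm (eich P y c).1) hz)
            exact ⟨z, h2, γ, h3, h4⟩) he
      obtain ⟨σ, h3, h4⟩ := M.exists_inv hy hc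
      obtain ⟨z, h5, γ, h6, h7⟩ := h2 h3
      obtain ⟨z', h8, γ', h9, h10⟩ := h2 (eich_mem_E y c)
      have h11 := congrArg (fun e : O P => g * sh (s l) e.1 * g⁻¹) h4
      simp only [Subgroup.coe_mul, Subgroup.coe_inv, map_mul, map_inv] at h11
      rw [← conj_mul, ← conj_mul, ← conj_inv, ← conj_inv, h7, h10] at h11
      have h12 : Commute (sh (s j) (eich P w z).1) (sh (s j) (eich P w z').1) := by
        rw [Commute, SemiconjBy, ← map_mul, ← map_mul, ← Subgroup.coe_mul, eich_comm hw h5 h8]; rfl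
      have h13 : g * sh (s l) (eich P y c).1 * g⁻¹ ∈ CU (s j) := by
        refine mem_of_pow_mem hp.1 (by rw [conj_pow, sh_eich_pow _ hy hc]; simp) (m := 2)
          (fun e => (odd_char H.h2 (ringChar F)).not_two_dvd_nat
            (((Nat.prime_dvd_prime_iff_eq hp.1 Nat.prime_two).1 e) ▸ dvd_rfl)) ?_
        exact h10 ▸ sq_mem_of_inv h6 h9 h12 (cm h6 z') (cm h9 z) h11
      have h13 := congrArg ((g⁻¹ : V ≃ₗ[F] V) * · * (g : End F V)) (mem_Cm.1 h13 a)
      simpa only [LinearEquiv.coe_toLinearMap_mul, mul_assoc, coe_inv_mul, mul_one, sh_coe,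
        ← mul_assoc ((g⁻¹ : V ≃ₗ[F] V) : End F V) g, one_mul] using h13.symm
  exact ⟨b, by rw [← hb, mul_assoc, coe_mul_inv, mul_one]⟩

end OV

end CfsgLib.C7O
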