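import Mathlib
import Cfsg.Agent.Lib.C7O.Ov5

/-!
Overgroups of the stabiliser of a tensor power of a four-dimensional orthogonal space: centralisers
of involutions of a factor.
-/

set_option autoImplicit false
set_option linter.unusedSectionVars false

namespace CfsgLib.C7O

open Module CfsgLib.ClMax CfsgLib.ClMax.Ten CfsgLib.OrthE CfsgLib.OMax QuadraticMap CfsgLib.C7

variable {F U V : Type*} [Field F] [AddCommGroup U] [Module F U] [AddCommGroup V] [Module F V]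
  {P : QuadraticForm F U} {Q : QuadraticForm F V} [FiniteDimensional F U] [FiniteDimensional F V]
  {X : Subgroup (V ≃ₗ[F] V)}

/-- The centraliser of an element of a factor. -/
def CX (X : Subgroup (V ≃ₗ[F] V)) (s : End F U →ₐ[F] End F V) (ρ : O P) : Subgroup (V ≃ₗ[F] V) where
  carrier := {k | k ∈ X ∧ Commute (sh s ρ.1) k}
  mul_mem' ha hb := ⟨mul_mem ha.1 hb.1, ha.2.mul_right hb.2⟩
  one_mem' := ⟨one_mem _, .one_right _⟩
  inv_mem' ha := ⟨inv_mem ha.1, ha.2.inv_right⟩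

theorem mem_CX {s : End F U →ₐ[F] End F V} {k : V ≃ₗ[F] V} (hk : k ∈ X) (h : (k : End F V) ∈ Cm s)
    (ρ : O P) : k ∈ CX X s ρ := ⟨hk, LinearEquiv.toLinearMap_injective (mem_Cm.1 h _)⟩

theorem nm_sh (s : End F U →ₐ[F] End F V) (α : U ≃ₗ[F] U) : Nm (sh s α) s s := fun a =>
  ⟨α.conj a, by rw [sh_coe, ← map_mul, ← map_mul]; congr 1; ext; simp [LinearEquiv.conj_apply]⟩

variable {T : Type*} {s : T → End F U →ₐ[F] End F V} [Finite T] [Finite F]
  {H : OT s P Q} {i j l o : T} {a b c d x x' u w : U} {g k : V ≃ₗ[F] V}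

theorem OT.range_of_fix (H : OT s P Q) (h0 : w ≠ 0) (hW : g ∈ H.Wr) (e : ∀ v ∈ L (s i) w, g v = v) :
    ∃ b, (g : End F V) = s i b := by
  have := H.nt
  have := H.ntU
  obtain ⟨θ, hθ⟩ := exists_dual_one_of_ne (F := F) h0
  have hθ0 : θ ≠ 0 := by rintro rfl; simp at hθ
  have h1 : g * r (s i) w θ = r (s i) w θ := LinearMap.ext fun v => e _ (r_mem_L _ _ _)
  exact H.mem_range (E := g) (i := i) fun l hl => by
    obtain ⟨m, hm⟩ := hW l
    have k : ∀ {a b}, g * s l a = s m b * g → r (s i) w θ * s l a = s m b * r (s i) w θ :=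
      fun {a b} h => by
        nth_rw 1 [← h1]
        rw [mul_assoc, ← Cm_r (H.comm hl.symm a), ← mul_assoc, h, mul_assoc, h1]
    by_cases h2 : m = i
    · obtain ⟨y, hy, -⟩ := exists_not_mem_two (F := F) H.two w w
      obtain ⟨φ, h4, h5⟩ := exists_dual_one_zero hy
      obtain ⟨b, h6⟩ := hm (φ.smulRight w)
      have h7 := congrArg (r (s i) w θ * ·) (k h6)
      simp only [h2, s_mul_r, r_mul, r_mul', hθ, one_smul] at h7
      refine absurd (?_ : r (s l) w φ ∈ Cm (s l)) (r_not_mem_Cm h0 (by rintro rfl; simp at h4) h5)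
      rw [r_def, r_mul_cancel h0 hθ0 (H.comm hl.symm _) (Subalgebra.smul_mem _ (one_mem _) (θ (b w)))
        (h7.trans (by simp))]
      exact Subalgebra.smul_mem _ (one_mem _) _
    refine mem_Cm.2 fun a => ?_
    obtain ⟨b, h4⟩ := hm a
    rw [h4, r_mul_cancel h0 hθ0 (H.comm hl.symm a) (H.comm (Ne.symm h2) b)
      ((k h4).trans (Cm_r (H.comm (Ne.symm h2) b) _ _))]

theorem OT.nm_of_conj (H : OT s P Q) (h : ∀ l ≠ i, ∀ x c, P x = 0 → polar P x c = 0 →
    ((g * sh (s l) (eich P x c).1 * g⁻¹ :) : End F V) ∈ Cm (s j)) : Nm g (s i) (s j) := by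
  have := H.nt
  have := H.ntU
  refine inv_inv g ▸ Nm.symm fun a => ?_
  obtain ⟨b, hb⟩ := H.mem_range (E := (g⁻¹ : V ≃ₗ[F] V) * s j a * g) (i := i) fun l hl =>
    cm_of_eich H.nP H.h2 H.h3 fun y c hy hc => by
      have h13 := congrArg ((g⁻¹ : V ≃ₗ[F] V) * · * (g : End F V)) (mem_Cm.1 (h l hl y c hy hc) a)
      simpa only [LinearEquiv.coe_toLinearMap_mul, mul_assoc, coe_inv_mul, mul_one, sh_coe,
        ← mul_assoc ((g⁻¹ : V ≃ₗ[F] V) : End F V) g, one_mul] using h13.symm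
  exact ⟨b, by rw [← hb, mul_assoc, coe_mul_inv, mul_one]⟩

theorem fix_of_iv (M : M4 P) (f : Fr P a b c d) {s : End F U →ₐ[F] End F V} {η : End F U}
    (h1 : η c = c) (h2 : η d = d) {v : V} (hv : s (iv P a b).1 v = v) : s η v = v := by
  have h3 : (pj P s a + pj P s b) v = 0 := by simpa [s_iv M.h2 f.toPr2, M.h2, -smul_add] using hv
  have h4 := LinearMap.congr_fun (M.pj_sum (s := s) f) v
  rw [LinearMap.add_apply, LinearMap.add_apply, h3, zero_add, End.one_apply] at h4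
  rw [← h4, map_add, ← End.mul_apply, ← End.mul_apply, pj, pj, s_mul_r, s_mul_r, h1, h2]

theorem apply_of_mem_L {s : End F U →ₐ[F] End F V} {η : End F U} {t : F} (hw : w ≠ 0)
    (h : η w = t • w) {v : V} (hv : v ∈ L s w) : s η v = t • v := by
  obtain ⟨θ, hθ⟩ := exists_dual_one_of_ne (F := F) hw
  rw [← r_eq_of_mem_L hθ hv, ← End.mul_apply, s_mul_r, h, map_smul, LinearMap.smul_apply,
    LinearMap.smul_apply]

namespace OV

variable (K : OV H X) (hE : ¬ E Q ≤ X.subgroupOf (O Q)) (M : M4 P) (p : Pr2 P a b)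
include K hE M p

theorem eq_one (hil : i ≠ l) (hw : P w ≠ 0) (hx : P x = 0) (hx0 : x ≠ 0)
    (hk : k ∈ CX X (s i) (iv P a b)) (hs : ∀ v ∈ L (s l) x, k v ∈ L (s l) x)
    (hf : ∀ v ∈ L (s i) w, ee P (s l) x v = 0 → k v = v) {n : ℕ} (hn : k ^ ringChar F ^ n = 1) :
    k = 1 := by
  have := H.nt
  have := H.ntU
  have h0 := ne_zero_of_Q hw
  obtain ⟨W, τ, h, R, S, B⟩ := K.exists_oq hE l
  obtain ⟨z, h1, γ, h2, h3, h4, h5, h6⟩ := K.pw hE M hx hx0 hk.1 hn hs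
  have h7 : ∀ v ∈ L (s l) x, k v = γ v := fun v hv => by
    rw [h6, LinearEquiv.mul_apply, sh_apply, apply_of_mem_L hx0 (t := 1) (by
      simp [eich_apply_self]) hv, one_smul]
  have h8 : ∀ v ∈ L (s i) w, γ v = v := fun v hv => by
    obtain ⟨θ, hθ⟩ := exists_dual_one_of_ne (F := F) h0
    have h10 := H.r_mem hil.symm w θ
    rw [← r_eq_of_mem_L hθ hv]
    exact LinearMap.congr_fun (Cm_eq_of_L hx0 (mul_mem h4 h10) h10 fun v hv =>
      (h7 _ (Cm_mem_L h10 hv)).symm.trans (hf _ (r_mem_L _ _ _)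
        (Cm_mem_L h10 hv _ (by simp [hx]) _))) v
  obtain ⟨e, he⟩ := H.range_of_fix h0 h3 h8
  have h9 := Cm_eq_of_L h0 (H.cpw M p (K.hX h2) h5 (fun c => by
    obtain ⟨c', hc⟩ := H.mem_range (E := γ * s i c * (γ⁻¹ :)) (i := i) fun o ho =>
      mul_mem (mul_mem (he ▸ H.comm ho _) (H.comm ho _)) (inv_mem_Cm (he ▸ H.comm ho _))
    exact ⟨c', by rw [← hc, mul_assoc, coe_inv_mul, mul_one]⟩)
    (eq_mul_inv_of_mul_eq h6.symm ▸ hk.2.mul_right (H.sh_comm hil _ _).inv_right)) (one_mem _) h8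
  obtain ⟨v, hv, h11⟩ := S.exists_left (H.comm hil.symm) h0
  exact B.eq_one hx hx0 hv hk.1 (fun u => (h7 _ (S.tau_mem u x)).trans (LinearMap.congr_fun h9 _))
    fun z hz => hf _ (h11 z) (by simp [S.r_tau, hz])

theorem cent (hil : i ≠ l) (hw : P w ≠ 0) (hx : P x = 0) (hx0 : x ≠ 0) :
    ¬ ringChar F ∣ Nat.card (KV (CX X (s i) (iv P a b)) w (s i)) ∧ ∀ k ∈ KV (CX X (s i) (iv P a b)) w (s i), ∀ c, polar P x c = 0 →
      Commute k (sh (s l) (eich P x c).1) := by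
  have := H.nt
  have := H.ntU
  have hp : Fact (ringChar F).Prime := ⟨CharP.char_is_prime F _⟩
  have := finite_equiv (F := F) (V := V)
  obtain ⟨W, τ, h, R, S, B⟩ := K.exists_oq hE l
  obtain ⟨x', hx'⟩ := H.nP.exists_hyp hx hx0
  obtain ⟨d, h4, h5, h6⟩ := hx'.exists_nonsingular H.nP H.h3
  have hp : ∀ y ∈ Qx B.toTenO hx, y ^ ringChar F = 1 := by
    rintro _ ⟨c, hc, rfl⟩; exact pow_eich B.toTenO hx hc
  have hn : Qx B.toTenO hx ≤ Subgroup.normalizer (KV (CX X (s i) (iv P a b)) w (s i) : Set _) := by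
    rintro _ ⟨c, hc, rfl⟩
    refine Tech.mem_normalizer_of_forall fun k hk => ?_
    have h7 := mem_CX (B.right (eich_mem_E x c)) (S.rhom_eq _ ▸ H.comm hil _) (iv P a b)
    refine ⟨mul_mem (mul_mem h7 hk.1) (inv_mem h7), fun z hz => ?_⟩
    rw [LinearEquiv.mul_apply, LinearEquiv.mul_apply, hk.2, apply_inv_apply]
    exact Cm_mem_L (inv_mem_Cm (S.rhom_eq _ ▸ H.comm hil _)) hz
  have h7 : ¬ ringChar F ∣ Nat.card (KV (CX X (s i) (iv P a b)) w (s i)) := not_dvd_of_cent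
    (Tech.isPGroup_iff_mem.2 fun y hy => ⟨1, by simpa using hp y hy⟩) hn fun k hk h7 n h8 =>
      K.eq_one hE M p hil hw hx hx0 hk.1 (fun v hv => by
        obtain ⟨u, rfl⟩ := S.mem_L hx0 hv
        obtain ⟨u', hu⟩ := stab_eich B.toTenO hx hx0 (pc h4) h6 (h7 _ ⟨d, pc h4, rfl⟩) u
        exact hu ▸ S.tau_mem _ _) (fun v hv _ => hk.2 v hv) h8
  refine ⟨h7, fun k hk c hc => S.rhom_sh _ ▸
    cent_of_cubic H.h2 hn hp ?_ ?_ ?_ h7 ?_ k hk _ ⟨c, hc, rfl⟩⟩
  · rintro _ ⟨c, hc, rfl⟩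
    ext w
    have := congrArg ((B.rhom (eich P x c)).1 - 1 : End F V) (sq_eich B.toTenO hx hc w)
    simpa [pow_succ', B.rhom_apply, eich_apply_self] using this
  · rintro _ ⟨c, hc, rfl⟩ _ ⟨c', hc', rfl⟩
    rw [← Subgroup.coe_mul, ← Subgroup.coe_mul, ← map_mul, ← map_mul, eich_comm hx hc hc']
  · obtain ⟨v, -, hv⟩ := exists_nonsing B.n₁ (S := ⊤) (by have := B.ha; simp; omega)
    obtain ⟨c, d, q, a1, a2, a3, a4⟩ := M.exists_pr2 hx'
    refine lt_of_lt_of_le (by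
      have := Finite.one_lt_card (α := F)
      rw [Nat.card_prod]; nlinarith) (Nat.card_le_card_of_injective
      (fun s : F × F => (⟨_, s.1 • c + s.2 • d, by simp [a1, a3], rfl⟩ : Qx B.toTenO hx))
        fun s t e => ?_)
    have h8 := fun z => congrArg (fun g : Qx B.toTenO hx => polar Q (τ v z) (g.1 (τ v x'))) e
    have h9 := fun s : F × F => hx'.eich_apply_f (w := s.1 • c + s.2 • d) (by simp [pc a1, pc a3])
      (by simp [pc a2, pc a4])
    exact Prod.ext (by simpa [B.rhom_apply, h9, pc a1, pc a2, B.eq, hv, q.ha, q.ab, B.two] using h8 c)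
      (by simpa [B.rhom_apply, h9, pc a3, pc a4, B.eq, hv, q.hb, pc q.ab, B.two] using h8 d)
  · rintro k hk _ ⟨c, hc, rfl⟩ h8 h9
    obtain ⟨v, hv, h11⟩ := S.exists_left (H.comm hil.symm) (ne_zero_of_Q hw)
    refine B.comm_of_stab hv hx hx0 ⟨hk.1.1, fun z => hk.2 _ (h11 z)⟩
      (stab_eich B.toTenO hx hx0 hc (fun h10 => h8 ?_) h9)
    obtain ⟨s, rfl⟩ := Submodule.mem_span_singleton.1 (M.an x c hx hx0 h10 hc)
    simp [eich_smul_self]

theorem range_of_KV (hw : P w ≠ 0) (hk : k ∈ KV (CX X (s i) (iv P a b)) w (s i)) :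
    ∃ c, (k : End F V) = s i c :=
  H.mem_range fun l hl => cm_of_eich H.nP H.h2 H.h3 fun x c hx hc => by
    by_cases h0 : x = 0
    · simp [h0, eich_zero_left, ← End.one_eq_id]
    exact congrArg LinearEquiv.toLinearMap ((K.cent hE M p hl.symm hw hx h0).2 _ hk c hc).symm.eq

theorem eq_of_KV (hw : P w ≠ 0) {y y' : V ≃ₗ[F] V} (hy : y ∈ X)
    (hy' : y' ∈ CX X (s i) (iv P a b)) (h1 : y ^ ringChar F = 1) (h2 : y' ^ ringChar F = 1)
    (hC : (y : End F V) ∈ Cm (s i)) (e : ∀ v ∈ L (s i) w, y' v = y v) : y' = y := by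
  have hp : Fact (ringChar F).Prime := ⟨CharP.char_is_prime F _⟩
  have := finite_equiv (F := F) (V := V)
  have h4 : y⁻¹ * y' ∈ KV (CX X (s i) (iv P a b)) w (s i) :=
    ⟨mul_mem (inv_mem (mem_CX hy hC _)) hy', fun v hv => by simp [e v hv]⟩
  obtain ⟨c, hb⟩ := K.range_of_KV hE M p hw h4
  have h5 : Commute y (y⁻¹ * y') := LinearEquiv.toLinearMap_injective (by
    rw [LinearEquiv.coe_toLinearMap_mul, hb, ← mem_Cm.1 hC, ← hb]; rfl)
  have h6 := h5.mul_pow (ringChar F)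
  rw [mul_inv_cancel_left, h1, h2, one_mul] at h6
  have := K.nt
  obtain ⟨l, hl⟩ := exists_ne i
  obtain ⟨x, x', hx⟩ := H.nP.exists_hyp_of_three H.h3
  exact (inv_mul_eq_one.1 (eq_one_of_not_dvd (K.cent hE M p hl.symm hw hx.he hx.e_ne).1 h4
    h6.symm)).symm

theorem small' (hw : P w ≠ 0) {β : V ≃ₗ[F] V} (h1 : β ∈ O Q) (h2 : (β : End F V) ∈ Cm (s j))
    (h4 : β ∈ Lf (s j) (CX X (s j) (iv P a b)) w) : β ∈ H.Wr := by
  have := K.nt
  have := H.nt
  have := H.ntU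
  have hp : Fact (ringChar F).Prime := ⟨CharP.char_is_prime F _⟩
  have := finite_equiv (F := F) (V := V)
  by_cases hT : ∀ i j : T, ∃ k, k ≠ i ∧ k ≠ j
  swap
  · obtain ⟨i, hi⟩ := two_slot hT j
    obtain ⟨a, ha⟩ := H.mem_range (i := i) fun l hl => hi l hl ▸ h2
    exact H.mem_Wr_of_eq ha
  refine (K.di j (Lf (s j) (CX X (s j) (iv P a b)) w) fun g hg h =>
    ⟨h, g, mem_CX hg h _, fun _ _ => rfl⟩).elim
    (fun h => h β h1 h2 h4) fun hB => False.elim ?_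
  clear h1 h2 h4 β
  obtain ⟨o, ho, -⟩ := hT j j
  obtain ⟨l, hl, hl'⟩ := hT j o
  obtain ⟨x, x', hx⟩ := H.nP.exists_hyp_of_three H.h3
  obtain ⟨d, h4, -, h6⟩ := hx.exists_nonsingular H.nP H.h3
  obtain ⟨h8, h9⟩ := H.uni_mem hl' hx.he x x'
  have c1 : nn P (s o) x x' ∈ Cm (s l) := nn_eq (s := s o) ▸ H.comm hl' _
  have h10 : (uni _ h8 : End F V) ∈ Cm (s j) := add_mem (one_mem _) (mul_mem (H.r_mem hl.symm _ _)
    (nn_eq (s := s o) ▸ H.comm ho.symm _))
  obtain ⟨-, g, hg, e⟩ := hB _ h9 h10 (uni_pow h8)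
  obtain ⟨m, n, hm, hn⟩ := exists_ppart (ringChar F) g
  replace e := pow_eq_of_L h10 e m
  have h11 : Commute (uni _ h8) (sh (s l) (eich P x d).1) := LinearEquiv.toLinearMap_injective (by
    simp only [LinearEquiv.coe_toLinearMap_mul, uni_coe, sh_coe, add_mul, mul_add, one_mul, mul_one]
    rw [← mul_assoc, conj_ee, eich_apply_self, mul_assoc, mul_assoc, mem_Cm.1 c1])
  have h12 := pow_mem_Cm h10 m
  have h13 : (sh (s l) (eich P x d).1 : End F V) ∈ Cm (s j) := H.comm hl.symm _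
  have h14 := K.sh_mem l (eich_mem_E x d)
  have h15 : sh (s l) (eich P x d).1 ^ ringChar F = 1 := by
    rw [← map_pow, ← Subgroup.coe_pow, eich_pow hx.he (pc h4)]; simp [eich_zero_right]
  have h16 := K.eq_of_KV hE M p hw h14 (mul_mem (mul_mem (pow_mem hg m) (mem_CX h14 h13 _))
    (inv_mem (pow_mem hg m)))
    h15 (by rw [conj_pow, h15]; simp) h13 fun v hv => by
      have h16 : (uni _ h8 ^ m)⁻¹ v ∈ L (s j) w := Cm_mem_L (inv_mem_Cm h12) hv
      rw [← apply_inv_apply (uni _ h8 ^ m) v]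
      nth_rw 1 [← e ((uni _ h8 ^ m)⁻¹ v) h16]
      rw [LinearEquiv.mul_apply, LinearEquiv.mul_apply, inv_apply_apply,
        e (sh (s l) (eich P x d).1 _) (Cm_mem_L h13 h16), ← LinearEquiv.mul_apply,
        (h11.pow_left m).eq, LinearEquiv.mul_apply]
  obtain ⟨W, τ, h, R, S, B⟩ := K.exists_oq hE l
  have h17 := K.eq_one hE M p hl.symm hw hx.he hx.e_ne (pow_mem hg m) (fun v hv => by
    obtain ⟨u, rfl⟩ := S.mem_L hx.e_ne hv
    obtain ⟨u', hu⟩ := stab_eich B.toTenO hx.he hx.e_ne (pc h4) h6 (k := g ^ m)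
      (S.rhom_sh _ ▸ mul_inv_eq_iff_eq_mul.1 h16) u
    exact hu ▸ S.tau_mem _ _) (fun v hv h17 => by
      rw [e v hv, LinearEquiv.pow_apply]
      exact Function.iterate_fixed (by
        rw [uni_apply, End.mul_apply, ← Cm_r_apply c1, h17, map_zero, add_zero]) m) hn
  have h18 : uni _ h8 ^ m = 1 := LinearEquiv.toLinearMap_injective (Cm_eq_of_L (ne_zero_of_Q hw) h12
    (one_mem _) fun v hv => (e v hv).symm.trans (by rw [h17]; rfl))
  have h19 := pow_gcd_eq_one.2 ⟨uni_pow (p := ringChar F) h8, h18⟩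
  rw [(hp.1.coprime_iff_not_dvd.2 hm).gcd_eq_one, pow_one] at h19
  exact one_ne_zero (nn_cancel H.nP hx.e_ne (fun h => by
    obtain ⟨a, rfl⟩ := Submodule.mem_span_singleton.1 h
    simpa [hx.he] using hx.hef) (one_mem _) ((mul_one _).trans (r_mul_eq_zero hx.e_ne
      (pb_ne H.nP hx.e_ne) c1 (add_eq_left.1 ((uni_coe _ h8).symm.trans (by rw [h19]; rfl))))))

omit p in
theorem comm_N (f : Fr P a b c d) {η : O P} (h1 : η.1 c = c) (h2 : η.1 d = d)
    (h3 : sh (s i) η.1 ∈ X) (hk : k ∈ CX X (s i) (iv P a b)) :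
    ∃ e, ((k⁻¹ * sh (s i) η.1 * k :) : End F V) = s i e := by
  have h4 : sh (s i) η.1 ∈ CX X (s i) (iv P a b) := ⟨h3, LinearEquiv.toLinearMap_injective (by
    have := congrArg (fun g : O P => (g.1 : End F U)) (mul_inv_eq_iff_eq_mul.1 (conj_iv η c d))
    simp only [h1, h2, Subgroup.coe_mul, LinearEquiv.coe_toLinearMap_mul, M.iv_neg f, mul_neg,
      neg_mul, neg_inj] at this
    simp only [LinearEquiv.coe_toLinearMap_mul, sh_coe, ← map_mul, this])⟩
  refine K.range_of_KV hE M f.toPr2 f.hc ⟨mul_mem (mul_mem (inv_mem hk) h4) hk, fun v hv => ?_⟩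
  rw [LinearEquiv.mul_apply, LinearEquiv.mul_apply, sh_apply, fix_of_iv M f h1 h2, inv_apply_apply]
  rw [← sh_apply, ← LinearEquiv.mul_apply, hk.2.eq, LinearEquiv.mul_apply, sh_apply,
    apply_of_mem_L (ne_zero_of_Q f.hc) (t := 1) (by simp [iv_fix f.ac f.bc]) hv, one_smul]

omit p in
theorem comm_N' (f : Fr P a b c d) {η : O P} (h1 : η.1 c = c) (h2 : η.1 d = d)
    (h3 : sh (s i) η.1 ∈ X) (hk : k ∈ CX X (s i) (iv P a b)) {y : V ≃ₗ[F] V}
    (hy : (y : End F V) ∈ Cm (s i)) (v : V) : s i η.1 ((k * y * k⁻¹) v) = (k * y * k⁻¹) (s i η.1 v) := by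
  obtain ⟨e, he⟩ := K.comm_N hE M f h1 h2 h3 hk
  have := congrArg k (LinearMap.congr_fun (he ▸ mem_Cm.1 hy e) (k⁻¹ v))
  simpa [sh_apply] using this

theorem r1A (hr : ∀ c, P c ≠ 0 → sh (s i) (refl P c).1 ∈ X) (hk : k ∈ CX X (s i) (iv P a b)) :
    Nm k (s i) (s i) := H.nm_of_conj fun l hl x c hx hc => by
  have h0 := ne_zero_of_Q p.ha
  obtain ⟨W, τ, h, R, S, B⟩ := K.exists_oq hE i
  obtain ⟨u, w, f⟩ := M.exists_fr p
  have h4 := K.sh_mem l (eich_mem_E x c)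
  have h5 := sh_eich_pow (s l) hx hc
  have h6 : (sh (s l) (eich P x c).1 : End F V) ∈ Cm (s i) := H.comm hl.symm _
  generalize sh (s l) (eich P x c).1 = y at *
  have h7 := mul_mem (mul_mem hk (mem_CX h4 h6 _)) (inv_mem hk)
  have h8 : (k * y * k⁻¹) ^ ringChar F = 1 := by rw [conj_pow, h5]; simp
  have h1 := K.comm_N' hE M f (refl_apply_of_orth (pc f.ac)) (refl_apply_of_orth (pc f.ad))
    (hr a p.ha) hk h6
  generalize k * y * k⁻¹ = y' at *
  obtain ⟨α, hα⟩ := exists_equiv2 h h rfl h0 h0 (g := y') fun u => S.mem_L h0 (by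
    have := h1 (τ u a)
    rw [S.act, LinearEquiv.coe_coe, refl_apply_self p.ha, map_neg, map_neg, s_refl H.h2,
      LinearMap.sub_apply, sub_eq_iff_eq_add, ← sub_eq_iff_eq_add', sub_neg_eq_add, End.one_apply,
      ← two_smul F] at this
    exact smul_right_injective _ H.h2 this ▸ r_mem_L _ _ _)
  obtain ⟨γ, rfl⟩ : ∃ γ : O R, γ.1 = α := ⟨⟨α, fun u => by
    simpa [hα, S.Q_tau, H.h2, p.ha] using K.hX h7.1 (τ u a)⟩, rfl⟩
  have h9 : ((S.flip.rhom γ).1 : End F V) ∈ Cm (s i) := S.lhom_eq γ ▸ S.lf_mem _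
  have h10 : ∀ v ∈ L (s i) a, y' v = (S.flip.rhom γ).1 v := fun v hv => by
    obtain ⟨u, rfl⟩ := S.mem_L h0 hv
    rw [hα, S.lhom_apply]
  have h11 : (S.flip.rhom γ).1 ^ ringChar F = 1 := LinearEquiv.toLinearMap_injective
    (Cm_eq_of_L h0 (pow_mem_Cm h9 _) (one_mem _) fun v hv =>
      (pow_eq_of_L h9 h10 _ v hv).symm.trans (by rw [h8]; rfl))
  exact K.eq_of_KV hE M p p.ha (K.mem_char (S.flip.rhom γ).2 (K.small' hE M p p.ha
    (S.flip.rhom γ).2 h9 ⟨h9, _, h7, h10⟩) h11) h7 h11 h8 h9 h10 ▸ h9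

omit p in
theorem r1B {t : F} (ht : t ≠ 0) (ht' : t * t ≠ 1) (f : Fr P a b c d) (hx : P x = 0) (hx0 : x ≠ 0)
    (h1 : polar P c x = 0) (h2 : polar P d x = 0) (hk : k ∈ CX X (s i) (iv P a b)) :
    Nm k (s i) (s i) := H.nm_of_conj fun l hl y z hy hz => by
  obtain ⟨x', hx', h3, h4⟩ : ∃ x', Hyp P x x' ∧ polar P c x' = 0 ∧ polar P d x' = 0 := by
    have h3 : polar P a x ≠ 0 := fun e => by
      obtain ⟨s, rfl⟩ := M.line f.rot h1 h2 e
      simp [Q_smul, f.hb] at hx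
      simp [hx] at hx0
    exact ⟨_, hyp_of_polar hx (y := (polar P a x)⁻¹ • a) (by simp [h3]), by simp [h1, pc f.ac],
      by simp [h2, pc f.ad]⟩
  have h5 := K.sh_mem l (eich_mem_E y z)
  have h6 : (sh (s l) (eich P y z).1 : End F V) ∈ Cm (s i) := H.comm hl.symm _
  have h7 := mul_mem (mul_mem hk (mem_CX h5 h6 _)) (inv_mem hk)
  have h8 : (k * sh (s l) (eich P y z).1 * k⁻¹) ^ ringChar F ^ 1 = 1 := by
    rw [pow_one, conj_pow, sh_eich_pow _ hy hz]; simp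
  have h9 := K.comm_N' hE M f (tor_orth h1 h3 t) (tor_orth h2 h4 t) (K.so_mem M i
    (by rwa [hx'.Q_add_smul]) (by simp [hx'.Q_add_smul, -one_smul])) hk h6
  generalize k * sh (s l) (eich P y z).1 * k⁻¹ = y' at *
  obtain ⟨e, -, γ, -, -, h10, -, h11⟩ := K.pw hE M hx hx0 h7.1 h8 (l := i) fun v hv => by
    have h10 := h9 v
    rw [apply_of_mem_L hx0 (hx'.tor_e ht) hv, map_smul, show ((tor P x x' t).1 : End F U) = 1 +
      (t - 1) • (polarBilin P x').smulRight x + (t⁻¹ - 1) • (polarBilin P x).smulRight x' from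
        LinearMap.ext fun u => by
          rw [eq_add_pr (Q := P) (e := x) (f := x') u]
          simp [hx'.tor_e ht, hx'.tor_f ht, tor_orth (hx'.pr_e u) (hx'.pr_f u), hx, hx'.hf, hx'.hef,
            hx'.hfe, hx'.e_pr, hx'.f_pr]
          module] at h10
    simp only [map_add, map_one, map_smul, ← r_def, LinearMap.add_apply, LinearMap.smul_apply,
      End.one_apply] at h10
    have h11 := congrArg (r (s i) x' (polarBilin P x)) h10
    simp only [map_add, map_smul, r_r, polarBilin_apply_apply, hx'.hee, hx'.hef] at h11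
    have h12 : r (s i) x' (polarBilin P x) (y' v) = 0 := (smul_eq_zero.1 (by
      linear_combination (norm := module) h11 : (t⁻¹ - t) • r (s i) x' (polarBilin P x) (y' v) = 0)).resolve_left
        fun e => ht' (by rw [← mul_inv_cancel₀ ht, sub_eq_zero.1 e])
    have h13 : t - 1 ≠ 0 := fun e => ht' (by simp [sub_eq_zero.1 e])
    exact (Submodule.smul_mem_iff _ h13).1 ((by rw [h12] at h10; linear_combination (norm := module) -h10 :
      (t - 1) • y' v = (t - 1) • r (s i) x (polarBilin P x') (y' v)) ▸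
        Submodule.smul_mem _ _ (r_mem_L _ _ _))
  exact H.cpw M f.toPr2 (K.hX h7.1) h8 (h11 ▸ (nm_of_Cm h10).mul (nm_sh _ _)) h7.2

end OV

end CfsgLib.C7O
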