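import Mathlib
import Cfsg.Agent.Lib.C7O.Ov6

/-!
Overgroups of the stabiliser of a tensor square of a four-dimensional orthogonal space: flags in an
eigenspace of an involution of a factor.
-/

set_option autoImplicit false
set_option linter.unusedSectionVars false

namespace CfsgLib.C7O

open Module CfsgLib.ClMax CfsgLib.ClMax.Ten CfsgLib.OrthE CfsgLib.OMax QuadraticMap CfsgLib.C7

variable {F U V : Type*} [Field F] [AddCommGroup U] [Module F U] [AddCommGroup V] [Module F V]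
  {P : QuadraticForm F U} {Q : QuadraticForm F V} [FiniteDimensional F U] [FiniteDimensional F V]
  {X : Subgroup (V ≃ₗ[F] V)} {T : Type*} {s : T → End F U →ₐ[F] End F V} [Finite T] [Finite F]
  {H : OT s P Q} {i j l o : T} {a b c d x x' u w : U} {g k y z : V ≃ₗ[F] V} {v : V} {ρ : O P}

theorem CX.neg {s : End F U →ₐ[F] End F V} (hk : k ∈ CX X s ρ) (hv : s ρ.1 v = -v) :
    s ρ.1 (k v) = -k v := by
  rw [← sh_apply, ← LinearEquiv.mul_apply, hk.2.eq, LinearEquiv.mul_apply, sh_apply, hv, map_neg]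

theorem Cm_neg {s : End F U →ₐ[F] End F V} {E : End F V} (hE : E ∈ Cm s) (hv : s ρ.1 v = -v) :
    s ρ.1 (E v) = -E v := by
  rw [← End.mul_apply, mem_Cm.1 hE, End.mul_apply, hv, map_neg]

variable (s i l ρ x X P) in
/-- The elements acting trivially on the factors of a flag of an eigenspace. -/
def Fl : Subgroup (V ≃ₗ[F] V) where
  carrier := {y | y ∈ CX X (s i) ρ ∧ (∀ v, s i ρ.1 v = -v → v ∈ L (s l) x → y v = v) ∧
    ∀ v, s i ρ.1 v = -v → ee P (s l) x v = 0 → y v - v ∈ L (s l) x ∧ ee P (s l) x (y v) = 0 ∧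
      ee P (s l) x (y⁻¹ v) = 0}
  mul_mem' {y z} hy hz := ⟨mul_mem hy.1 hz.1, fun v h1 h2 => by simp [hy.2.1 v h1 h2, hz.2.1 v h1 h2],
    fun v h1 h2 => by
      have h3 := hy.2.2 _ (CX.neg hz.1 h1) (hz.2.2 v h1 h2).2.1
      exact ⟨by simpa using add_mem h3.1 (hz.2.2 v h1 h2).1, h3.2.1,
        (hz.2.2 _ (CX.neg (inv_mem hy.1) h1) (hy.2.2 v h1 h2).2.2).2.2⟩⟩
  one_mem' := ⟨one_mem _, fun _ _ _ => rfl, fun v _ h => ⟨by simp, h, h⟩⟩
  inv_mem' {y} hy := ⟨inv_mem hy.1, fun v h1 h2 => y.injective (by simp [hy.2.1 v h1 h2]),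
    fun v h1 h2 => ⟨by simpa using neg_mem (hy.2.2 _ (CX.neg (inv_mem hy.1) h1)
      (hy.2.2 v h1 h2).2.2).1, (hy.2.2 v h1 h2).2.2, (hy.2.2 v h1 h2).2.1⟩⟩

theorem OT.zero_of_neg (H : OT s P Q) (p : Pr2 P a b) (hv : s i (iv P a b).1 v = -v)
    (h : ∀ w, s i (iv P a b).1 w = -w → polar Q v w = 0) : v = 0 := H.nQ v fun w => by
  have h1 : ∀ w, s i (iv P a b).1 (s i (iv P a b).1 w) = w := fun w => by
    rw [← sh_apply, ← sh_apply, ← LinearEquiv.mul_apply, ← map_mul, ← Subgroup.coe_mul, p.iv_sq]; simp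
  have h2 := h (w - s i (iv P a b).1 w) (by simp [h1])
  have h3 := O_polar ⟨_, H.sh_mem i (iv P a b)⟩ v w
  simp only [sh_apply, hv, polar_neg_left, polar_sub_right] at h2 h3
  exact mul_left_cancel₀ H.h2 (by linear_combination h2 - h3)

namespace OV

variable (K : OV H X) (p : Pr2 P a b) (hil : i ≠ l)
include K p hil

theorem ker_of_perp (hv : s i (iv P a b).1 v = -v)
    (h : ∀ w, s i (iv P a b).1 w = -w → w ∈ L (s l) x → polar Q v w = 0) : ee P (s l) x v = 0 :=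
  H.zero_of_neg p (Cm_neg (H.r_mem hil _ _) hv) fun w hw => by
    rw [H.adj_r]; exact h _ (Cm_neg (H.r_mem hil _ _) hw) (r_mem_L _ _ _)

theorem L_of_perp (hv : s i (iv P a b).1 v = -v)
    (h : ∀ w, s i (iv P a b).1 w = -w → ee P (s l) x w = 0 → polar Q v w = 0) : v ∈ L (s l) x :=
  fun ψ h1 u => by
    obtain ⟨c, rfl⟩ := exists_polar_dual H.nP ψ
    exact H.zero_of_neg p (Cm_neg (H.r_mem hil _ _) hv) fun w hw => by
      rw [H.adj_r]; exact h _ (Cm_neg (H.r_mem hil _ _) hw) (by simp [pc h1])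

theorem fl_sub (hy : y ∈ CX X (s i) (iv P a b))
    (h : ∀ v, s i (iv P a b).1 v = -v → v ∈ L (s l) x → y v = v) (hv : s i (iv P a b).1 v = -v) :
    ee P (s l) x (y v - v) = 0 :=
  K.ker_of_perp p hil (by rw [map_sub, CX.neg hy hv, hv]; abel) fun w h1 h2 => by
    rw [polar_sub_left, ← O_polar ⟨y, K.hX hy.1⟩ v, h w h1 h2, sub_self]

theorem mem_Fl (hy : y ∈ CX X (s i) (iv P a b))
    (h : ∀ v, s i (iv P a b).1 v = -v → v ∈ L (s l) x → y v = v)
    (h' : ∀ v, s i (iv P a b).1 v = -v → ee P (s l) x v = 0 → y v - v ∈ L (s l) x) :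
    y ∈ Fl P X s i l x (iv P a b) :=
  ⟨hy, h, fun v h1 h2 => ⟨h' v h1 h2, by simpa [h2] using K.fl_sub p hil hy h h1, by
    simpa [h2] using K.fl_sub p hil (x := x) (inv_mem hy) (fun v h1 h2 => y.injective (by simp [h v h1 h2])) h1⟩⟩

theorem eich_Fl (hx : P x = 0) (hc : polar P x c = 0) :
    sh (s l) (eich P x c).1 ∈ Fl P X s i l x (iv P a b) := by
  have e : ∀ v, sh (s l) (eich P x c).1 v = v + r (s l) x (polarBilin P c) v -
      r (s l) c (polarBilin P x) v - P c • ee P (s l) x v := fun v => by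
    simpa [sub_eq_add_neg, add_assoc, sh_apply] using LinearMap.congr_fun (s_eich (s := s l) hx hc 1) v
  refine K.mem_Fl p hil (mem_CX (K.sh_mem l (eich_mem_E x c)) (H.comm hil _) _) (fun v _ h => ?_)
    fun v _ h => ?_
  · rw [e, h _ (pc hc), h _ (pself hx), h _ (pself hx)]; simp
  by_cases h0 : x = 0
  · simp [h0, eich_zero_left]
  obtain ⟨θ, hθ⟩ := exists_dual_one_of_ne (F := F) h0
  have := congrArg (r (s l) c θ) h
  rw [r_r, hθ, one_smul, map_zero] at this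
  simpa [e, this, h] using r_mem_L _ _ _

theorem conj_Fl (hg : g ∈ CX X (s i) (iv P a b))
    (h1 : ∀ v, s i (iv P a b).1 v = -v → v ∈ L (s l) x → g v ∈ L (s l) w)
    (h2 : ∀ v, s i (iv P a b).1 v = -v → v ∈ L (s l) w → g⁻¹ v ∈ L (s l) x)
    (hx : P x = 0) (hy : y ∈ Fl P X s i l x (iv P a b)) : g * y * g⁻¹ ∈ Fl P X s i l w (iv P a b) := by
  refine K.mem_Fl p hil (mul_mem (mul_mem hg hy.1) (inv_mem hg)) (fun v h3 h4 => by
    rw [LinearEquiv.mul_apply, LinearEquiv.mul_apply, hy.2.1 _ (CX.neg (inv_mem hg) h3) (h2 v h3 h4),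
      apply_inv_apply]) fun v h3 h4 => ?_
  have h5 := CX.neg (inv_mem hg) h3
  have h6 := K.ker_of_perp p hil (x := x) h5 fun u h6 h7 => by
    obtain ⟨u, rfl⟩ := g⁻¹.surjective u
    have h8 := h1 _ h6 h7
    rw [apply_inv_apply] at h8
    rw [O_polar ⟨g⁻¹, K.hX (inv_mem hg.1)⟩]
    by_cases h0 : w = 0
    · rw [← LinearMap.congr_fun (sum_r (s l)) u |>.trans (End.one_apply u)]
      simp [LinearMap.sum_apply, h8 _ (by simp [h0])]
    obtain ⟨u, rfl⟩ := exists_of_mem_L h0 (pb_ne H.nP h0) h8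
    rw [← H.adj_r, h4, polar_zero_left]
  simpa using h1 _ (by rw [map_sub, CX.neg hy.1 h5, h5]; abel) (hy.2.2 _ h5 h6).1

variable (hE : ¬ E Q ≤ X.subgroupOf (O Q)) (M : M4 P)
include hE M

theorem stab_of_neg (hx : P x = 0) (hx0 : x ≠ 0) (hy : y ∈ CX X (s i) (iv P a b))
    (h : ∀ c, polar P x c = 0 → ∀ v, s i (iv P a b).1 v = -v →
      y (sh (s l) (eich P x c).1 v) = sh (s l) (eich P x c).1 (y v)) :
    ∀ v ∈ L (s l) x, y v ∈ L (s l) x := fun v hv => by
  obtain ⟨W, τ, h', R, S, B⟩ := K.exists_oq hE l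
  obtain ⟨x', hx'⟩ := H.nP.exists_hyp hx hx0
  obtain ⟨d, h4, -, h6⟩ := hx'.exists_nonsingular H.nP H.h3
  have h1 := (K.eich_Fl p hil hx (pc h4)).1
  have h2 := K.eq_of_KV hE M p p.ha h1.1 (mul_mem (mul_mem hy h1) (inv_mem hy))
    (sh_eich_pow _ hx (pc h4)) (by rw [conj_pow, sh_eich_pow _ hx (pc h4)]; simp) (H.comm hil _)
    fun v hv => by
      rw [LinearEquiv.mul_apply, LinearEquiv.mul_apply, h d (pc h4) _ (CX.neg (inv_mem hy)
        ((apply_of_mem_L (ne_zero_of_Q p.ha) (t := -1) (by simp [p.iv_left]) hv).trans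
          (neg_one_smul ..))), apply_inv_apply]
  obtain ⟨u, rfl⟩ := S.mem_L hx0 hv
  obtain ⟨u', hu⟩ := stab_eich B.toTenO hx hx0 (pc h4) h6 (k := y)
    (S.rhom_sh _ ▸ mul_inv_eq_iff_eq_mul.1 h2) u
  exact hu ▸ S.tau_mem _ _

theorem stab_of_Fl (hx : P x = 0) (hx0 : x ≠ 0) (hy : y ∈ Fl P X s i l x (iv P a b)) :
    ∀ v ∈ L (s l) x, y v ∈ L (s l) x := by
  have hp : Fact (ringChar F).Prime := ⟨CharP.char_is_prime F _⟩
  have := finite_equiv (F := F) (V := V)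
  refine K.stab_of_neg p hil hE M hx hx0 hy.1 fun c hc => ?_
  have h1 := K.eich_Fl p hil hx hc
  generalize sh (s l) (eich P x c).1 = q at h1
  have h2 := mul_mem (inv_mem (mul_mem h1 hy)) (mul_mem hy h1)
  have h3 : ∀ v, s i (iv P a b).1 v = -v → ee P (s l) x v = 0 → ((q * y)⁻¹ * (y * q)) v = v :=
    fun v h3 h4 => (q * y).injective (by
      have k : ∀ {y q : V ≃ₗ[F] V}, y ∈ Fl P X s i l x (iv P a b) → q ∈ Fl P X s i l x (iv P a b) →
          y (q v) = y v + (q v - v) := fun hy hq => by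
        rw [← hy.2.1 _ (by rw [map_sub, CX.neg hq.1 h3, h3]; abel) (hq.2.2 v h3 h4).1]; simp
      simp only [LinearEquiv.mul_apply, mul_inv_rev, apply_inv_apply, k hy h1, k h1 hy]
      abel)
  suffices ∀ v, s i (iv P a b).1 v = -v → ((q * y)⁻¹ * (y * q)) v = v from fun v hv => by
    simpa using congrArg (q * y) (this v hv)
  generalize (q * y)⁻¹ * (y * q) = z at h2 h3
  have h4 : ∀ v, s i (iv P a b).1 v = -v → z v - v ∈ L (s l) x := fun v hv =>
    K.L_of_perp p hil (by rw [map_sub, CX.neg h2.1 hv, hv]; abel) fun w h4 h5 => by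
      rw [polar_sub_left, ← O_polar ⟨z, K.hX h2.1.1⟩ v, h3 w h4 h5, sub_self]
  have h5 : ∀ (m : ℕ) v, s i (iv P a b).1 v = -v → (z ^ m) v = v + (m : F) • (z v - v) :=
    fun m v hv => by
      induction m with
      | zero => simp
      | succ m ih =>
        rw [pow_succ', LinearEquiv.mul_apply, ih, map_add, map_smul, h2.2.1 _ (by
          rw [map_sub, CX.neg h2.1 hv, hv]; abel) (h4 v hv), Nat.cast_succ]
        module
  obtain ⟨m, n, hm, hn⟩ := exists_ppart (ringChar F) z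
  have h6 := K.eq_one hE M p hil p.ha hx hx0 (pow_mem h2.1 m) (K.stab_of_neg p hil hE M hx hx0
    (pow_mem h2.1 m) fun c hc v hv => by
      have h6 := K.eich_Fl p hil hx hc
      generalize sh (s l) (eich P x c).1 = q at h6
      have h7 := h3 _ (by rw [map_sub, CX.neg h6.1 hv, hv]; abel) (K.fl_sub p hil h6.1 h6.2.1 hv)
      rw [h5 m _ (CX.neg h6.1 hv), h5 m v hv, map_add, map_smul, h6.2.1 _ (by
        rw [map_sub, CX.neg h2.1 hv, hv]; abel) (h4 v hv), sub_eq_iff_eq_add.1 (map_sub z .. ▸ h7 :)]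
      module) (fun v hv h6 => by
        have h7 := (apply_of_mem_L (ne_zero_of_Q p.ha) (η := (iv P a b).1) (t := -1)
          (by simp [p.iv_left]) hv).trans (neg_one_smul ..)
        simp [h5 m v h7, h3 v h7 h6]) hn
  intro v hv
  have h7 := h5 m v hv
  rw [h6, LinearEquiv.coe_one, id, left_eq_add, smul_eq_zero, sub_eq_zero] at h7
  exact h7.resolve_left fun e => hm ((ringChar.spec F m).1 e)

theorem px (hT : ∀ m, m ≠ l → m = i) (hx : P x = 0) (hx0 : x ≠ 0) (hw : P w = 0) (hw0 : w ≠ 0)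
    (hg : g ∈ CX X (s i) (iv P a b))
    (h1 : ∀ v, s i (iv P a b).1 v = -v → v ∈ L (s l) x → g v ∈ L (s l) w)
    (h2 : ∀ v, s i (iv P a b).1 v = -v → v ∈ L (s l) w → g⁻¹ v ∈ L (s l) x) : Nm g (s i) (s i) := by
  have := H.nt
  have := H.ntU
  have k : ∀ {g : V ≃ₗ[F] V}, Nm g (s l) (s l) → Nm g (s i) (s i) := fun {g} h c => by
    obtain ⟨c', hc⟩ := H.mem_range (E := g * s i c * (g⁻¹ :)) (i := i) fun o ho => by
      obtain rfl : o = l := by_contra fun e => ho (hT o e)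
      exact h.conj_Cm (H.comm ho c) (by rw [mul_assoc, coe_inv_mul, mul_one])
    exact ⟨c', by rw [← hc, mul_assoc, coe_inv_mul, mul_one]⟩
  obtain ⟨W, τ, h', R, S, B⟩ := K.exists_oq hE l
  obtain ⟨x', hx'⟩ := H.nP.exists_hyp hx hx0
  obtain ⟨d, h4, -, h6⟩ := hx'.exists_nonsingular H.nP H.h3
  have h3 := K.conj_Fl p hil hg h1 h2 hx (K.eich_Fl p hil hx (pc h4))
  obtain ⟨c, h5, γ, h7, -, h8, h9, h10⟩ := K.pw hE M hw hw0 h3.1.1 (n := 1) (by
    rw [pow_one, conj_pow, sh_eich_pow _ hx (pc h4)]; simp) (K.stab_of_Fl p hil hE M hw hw0 h3)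
  obtain ⟨t, ht⟩ := H.scalar (E := γ) fun m => by
    by_cases e : m = l
    · exact e ▸ h8
    exact hT m e ▸ H.cpw M p (K.hX h7) h9 (k (nm_of_Cm h8))
      (eq_mul_inv_of_mul_eq h10.symm ▸ h3.1.2.mul_right (H.sh_comm hil _ _).inv_right)
  obtain rfl : t = 1 := eq_one_of_pow_char (n := 1) (smul_left_injective F (one_ne_zero' (End F V)) (by
    simpa [ht, coe_pow, smul_pow, ← End.one_eq_id] using congrArg LinearEquiv.toLinearMap h9))
  obtain rfl : γ = 1 := LinearEquiv.toLinearMap_injective (ht.trans (one_smul ..))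
  refine k (K.sv hE M hx hx0 hw hw0 hg.1 fun v hv => ?_)
  obtain ⟨u, rfl⟩ := S.mem_L hx0 hv
  have h11 := stab_of_comm B.toTenO hx hx0 (pc h4) h6 hw h5 (k := g) (by
    rw [S.rhom_sh, S.rhom_sh, ← one_mul (sh _ (eich P w c).1), ← h10]; simp) (τ u x')
  rw [cP_apply, hx'.hef, one_smul] at h11
  exact h11 ▸ S.tau_mem _ _

end OV

end CfsgLib.C7O
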