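import Mathlib
import Cfsg.Agent.Lib.C7O.Ov7

/-!
Overgroups of the stabiliser of a tensor square of a four-dimensional orthogonal space over the field
of three elements.
-/

set_option autoImplicit false
set_option linter.unusedSectionVars false

namespace CfsgLib.C7O

open Module CfsgLib.ClMax CfsgLib.ClMax.Ten CfsgLib.OrthE CfsgLib.OMax QuadraticMap CfsgLib.C7

variable {F U V : Type*} [Field F] [AddCommGroup U] [Module F U] [AddCommGroup V] [Module F V]
  {P : QuadraticForm F U} {Q : QuadraticForm F V} [FiniteDimensional F U] [FiniteDimensional F V]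
  {X : Subgroup (V ≃ₗ[F] V)} {T : Type*} {s : T → End F U →ₐ[F] End F V} [Finite T] [Finite F]
  {H : OT s P Q} {i j l o : T} {a b c d p p' x x' u w : U} {g k y z : V ≃ₗ[F] V} {v : V}

theorem M4.iso2 (M : M4 P) (h : P p ≠ 0) (p' : U) :
    (∃ x, x ≠ 0 ∧ P x = 0 ∧ polar P p x = 0 ∧ polar P p' x = 0) ∨
      ∃ s t : F, s • p' + t • p ≠ 0 ∧ P (s • p' + t • p) = 0 := by
  obtain ⟨r, w, rfl, h1⟩ : ∃ (r : F) (w : U), p' = w + r • p ∧ polar P p w = 0 :=
    ⟨polar P p p' / (2 * P p), p' - (polar P p p' / (2 * P p)) • p, by simp, by simp [M.h2, h]⟩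
  by_cases h2 : w = 0
  · obtain ⟨b, c, d, f⟩ := M.exists_fr1 h
    obtain ⟨c, d, f, e⟩ := M.exists_val f.toPr2 _ (neg_ne_zero.2 f.hb)
    exact .inl ⟨b + c, fun h3 => f.hb (by simpa [f.bc, M.h2] using congrArg (polar P b) h3),
      by simp [Q_add, e, f.bc], by simp [f.ab, f.ac], by simp [h2, f.ab, f.ac]⟩
  by_cases h3 : P w = 0
  · exact .inr ⟨1, -r, by simpa using h2, by simpa using h3⟩
  obtain ⟨c, d, f⟩ := M.exists_fr ⟨h, h3, h1⟩
  refine (M.iso f).symm.imp (fun ⟨x, h4, h5, h6, h7⟩ => ⟨x, h4, h5, h6, by simp [h6, h7]⟩)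
    fun ⟨x, h4, h5, h6, h7⟩ => ?_
  obtain ⟨s, t, rfl⟩ := M.plane f h6 h7
  have : t • (w + r • p) + (s - t * r) • p = s • p + t • w := by module
  exact ⟨t, s - t * r, this ▸ h4, this ▸ h5⟩

variable (s P Q i l) in
/-- Coordinates on a tensor square. -/
structure T2 (τ : U →ₗ[F] U →ₗ[F] V) (κ : F) : Prop where
  ne : κ ≠ 0
  left : ∀ α a p, s i α (τ a p) = τ (α a) p
  right : ∀ α a p, s l α (τ a p) = τ a (α p)
  eq : ∀ a p a' p', polar Q (τ a p) (τ a' p') = κ * polar P a a' * polar P p p'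
  ex : ∀ a φ v, ∃ p, r (s i) a φ v = τ a p

theorem OT.exists_t2 (H : OT s P Q) (hil : i ≠ l) (hT : ∀ m, m ≠ l → m = i) :
    ∃ τ κ, T2 P Q s i l τ κ := by
  have := H.ntU
  obtain ⟨n, hn⟩ := H.nP.exists_nonsingular
  obtain ⟨v, h0, hv⟩ := H.exists_pure (x := fun _ => n) fun _ => ne_zero_of_Q hn
  obtain ⟨τ, hτ⟩ : ∃ τ : U →ₗ[F] U →ₗ[F] V, ∀ a p,
      τ a p = r (s i) a (polarBilin P n) (r (s l) p (polarBilin P n) v) :=
    ⟨LinearMap.mk₂ F (fun a p => r (s i) a (polarBilin P n) (r (s l) p (polarBilin P n) v))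
      (by simp) (by simp) (by simp) (by simp), fun _ _ => rfl⟩
  have h1 : ∀ α a p, s i α (τ a p) = τ (α a) p := fun α a p => by
    rw [hτ, hτ, ← End.mul_apply, s_mul_r]
  have h2 : ∀ α a p, s l α (τ a p) = τ a (α p) := fun α a p => by
    rw [hτ, hτ, Cm_r_apply (H.comm hil _), ← End.mul_apply (s l α), s_mul_r]
  have h3 : τ n n ≠ 0 := by
    have k := fun m => apply_of_mem_L (η := (polarBilin P n).smulRight n) (ne_zero_of_Q hn) rfl (hv m)
    simp [hτ, r_def, k, h0, hn, H.h2]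
  have ind : ∀ Z : Submodule F V, (∀ a p, τ a p ∈ Z) → ∀ v, v ∈ Z := fun Z hZ v => by
    refine (Submodule.span_le.2 (by rintro _ ⟨a, p, rfl⟩; exact hZ a p) :
      Submodule.span F {v | ∃ a p, v = τ a p} ≤ Z) (H.eq_top
        (Z := Submodule.span F {v | ∃ a p, v = τ a p}) (fun m α => ?_)
        (Submodule.subset_span ⟨n, n, rfl⟩) h3 v)
    refine (Submodule.span_le (p := Submodule.comap (s m α) (Submodule.span F _))).2 ?_
    rintro _ ⟨a, p, rfl⟩
    refine Submodule.subset_span ?_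
    by_cases e : m = l
    · exact ⟨_, _, e ▸ h2 α a p⟩
    · exact ⟨_, _, hT m e ▸ h1 α a p⟩
  have h4 : ∀ a p a' p', polar Q (τ a p) (τ a' p') = polar Q v (ee P (s l) n (ee P (s i) n v)) *
      polar P a a' * polar P p p' := fun a p a' p' => by
    rw [hτ, hτ, H.adj_r, r_r, H.adj_r, ← Cm_r_apply (H.r_mem hil.symm _ _)]
    simp [Cm_r_apply (H.r_mem hil.symm _ _)]
    ring
  exact ⟨τ, _, fun e => h3 (H.nQ _ (ind (LinearMap.ker (polarBilin Q (τ n n))) fun a p => by
    simp [h4, e])), h1, h2, h4, fun a φ v => (ind ((LinearMap.range (τ a)).comap (r (s i) a φ))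
      (fun b p => ⟨φ b • p, by simp [r_def, h1]⟩) v).imp fun _ => Eq.symm⟩

variable {τ : U →ₗ[F] U →ₗ[F] V} {κ : F}

variable (P τ a b g p p') in
/-- A unitary reflection on an eigenspace. -/
def UR : Prop := P p + P p' ≠ 0 ∧ ∀ y y', g (τ a y + τ b y') = τ a y + τ b y' - (P p + P p')⁻¹ •
  ((polar P p y + polar P p' y') • (τ a p + τ b p') + (polar P p y' - polar P p' y) • (τ b p - τ a p'))

theorem UR.rot (h : UR P a b p p' g τ) {s t : F} (h1 : s * s + t * t ≠ 0) :
    UR P a b (s • p - t • p') (s • p' + t • p) g τ := by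
  have e : P (s • p - t • p') + P (s • p' + t • p) = (s * s + t * t) * (P p + P p') := by
    simp [Q_add, Q_sub, Q_smul, polar_comm P p']; ring
  have := h.1
  refine ⟨e ▸ mul_ne_zero h1 h.1, fun y y' => ?_⟩
  rw [h.2, e, mul_inv, ← mul_one (P p + P p')⁻¹, ← inv_mul_cancel₀ h1]
  simp only [map_add, map_sub, map_smul, polar_add_left, polar_sub_left, polar_smul_left, smul_eq_mul]
  rw [inv_mul_cancel₀ h1, ← sub_eq_zero]
  nth_rw 1 [← inv_mul_cancel₀ h1]
  module

namespace T2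

variable (t2 : T2 P Q s i l τ κ)
include t2

theorem neg (h2 : (2 : F) ≠ 0) (q : Pr2 P a b) (hv : s i (iv P a b).1 v = -v) :
    ∃ y y', v = τ a y + τ b y' := by
  obtain ⟨y, hy⟩ := t2.ex a ((2 * P a)⁻¹ • polarBilin P a) v
  obtain ⟨y', hy'⟩ := t2.ex b ((2 * P b)⁻¹ • polarBilin P b) v
  rw [s_iv h2 q] at hv
  refine ⟨y, y', smul_right_injective _ h2 ?_⟩
  simp only [LinearMap.sub_apply, LinearMap.smul_apply, LinearMap.add_apply, pj, hy, hy',
    End.one_apply] at hv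
  linear_combination (norm := module) hv

theorem neg' (q : Pr2 P a b) (y y' : U) :
    s i (iv P a b).1 (τ a y + τ b y') = -(τ a y + τ b y') := by
  simp [t2.left, q.iv_left, q.iv_right, add_comm]

theorem mem_L (a x : U) : τ a x ∈ L (s l) x := fun ψ h w => by simp [r_def, t2.right, h]

theorem mem_L' (a x : U) : τ a x ∈ L (s i) a := fun ψ h w => by simp [r_def, t2.left, h]

theorem zx (h2 : (2 : F) ≠ 0) (q : Pr2 P a b) (hx : x ≠ 0) (hv : s i (iv P a b).1 v = -v)
    (h : v ∈ L (s l) x) : ∃ c d : F, v = c • τ a x + d • τ b x := by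
  obtain ⟨y, y', rfl⟩ := t2.neg h2 q hv
  obtain ⟨θ, hθ⟩ := exists_dual_one_of_ne (F := F) hx
  exact ⟨θ y, θ y', by rw [← r_eq_of_mem_L hθ h]; simp [r_def, t2.right]⟩

end T2

namespace OV

variable (K : OV H X) (hE : ¬ E Q ≤ X.subgroupOf (O Q)) (M : M4 P) (hil : i ≠ l)
  (hT : ∀ m, m ≠ l → m = i) (t2 : T2 P Q s i l τ κ) (q : PI P a b) (h3 : ∀ t : F, t ≠ 0 → t * t = 1)
include K hE M hil hT t2 q

theorem ur_one (hg : g ∈ CX X (s i) (iv P a b)) (h : UR P a b p p' g τ) (hx : P x = 0) (hx0 : x ≠ 0)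
    (h1 : polar P p x = 0) (h2 : polar P p' x = 0) : Nm g (s i) (s i) := by
  have k : ∀ v, s i (iv P a b).1 v = -v → v ∈ L (s l) x → g v = v := fun v h4 h5 => by
    obtain ⟨c, d, rfl⟩ := t2.zx H.h2 q.toPr2 hx0 h4 h5
    simpa [h1, h2] using h.2 (c • x) (d • x)
  exact K.px q.toPr2 hil hE M hT hx hx0 hx hx0 hg (fun v h4 h5 => by rwa [k v h4 h5])
    fun v h4 h5 => by rwa [← k v h4 h5, inv_apply_apply]

include h3

theorem ur_two (hg : g ∈ CX X (s i) (iv P a b)) (h : UR P a b p x g τ) (hx : P x = 0)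
    (h1 : polar P p x ≠ 0) : False := by
  have := H.nt
  have := H.ntU
  have h4 : P p ≠ 0 := by simpa [hx] using h.1
  have h5 : (3 : F) = 0 := by linear_combination h3 2 H.h2
  have h6 := h3 _ h1
  have h7 := h3 _ h4
  obtain ⟨e, he, h8, h9⟩ := M.exists_ns2 p x
  have h10 : sh (s i) (refl P b).1 * sh (s l) (refl P e).1 ∈ CX X (s i) (iv P a b) :=
    ⟨K.two_refl M i l q.hb he, .mul_right ((((refl_comm q.ab).mul_left (.refl _)).map
      (O P).subtype).map (sh (s i))) (H.sh_comm hil _ _)⟩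
  have h11 : ∀ y y', (sh (s i) (refl P b).1 * sh (s l) (refl P e).1) (τ a y + τ b y') =
      τ a ((refl P e).1 y) + τ b (-(refl P e).1 y') := fun y y' => by
    simp [sh_apply, t2.left, t2.right, refl_apply_of_orth q.ab, refl_apply_self q.hb]
  generalize sh (s i) (refl P b).1 * sh (s l) (refl P e).1 = ρ at h10 h11
  have h12 := mul_mem (mul_mem h10 hg) (mul_mem h10 hg)
  obtain ⟨w, hw⟩ : ∃ w, w = (P p * polar P p x) • x - p := ⟨_, rfl⟩
  have h13 : ∀ c d : F, (ρ * g * (ρ * g)) (c • τ a x + d • τ b x) = -d • τ a w + c • τ b w :=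
    fun c d => by
      have g1 := h.2 p 0
      have g2 := h.2 x 0
      have g3 := h.2 0 p
      have g4 := h.2 0 x
      have r1 := h11 p 0
      have r2 := h11 x 0
      have r3 := h11 0 p
      have r4 := h11 0 x
      simp only [map_zero, add_zero, zero_add, hx, inv_eq_of_mul_eq_one_right h7, polar_self',
        polar_zero_right, polar_comm P x p, refl_apply_of_orth h8, refl_apply_of_orth h9, neg_zero,
        map_neg] at g1 g2 g3 g4 r1 r2 r3 r4
      simp only [LinearEquiv.mul_apply, map_add, map_sub, map_smul, map_neg, g1, g2, g3, g4, r1, r2,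
        r3, r4, hw]
      match_scalars <;> grind
  have h14 : (ρ * g * (ρ * g)) (τ a e) = τ a e := by
    have e1 : ρ (g (τ a e)) = -τ a e := by
      simpa [h8, h9] using (congrArg ρ (h.2 e 0)).trans (by
        simpa [h8, h9, refl_apply_self he] using h11 e 0)
    simp [e1]
  generalize ρ * g * (ρ * g) = k at *
  have n1 : ∀ {c y y'}, P c ≠ 0 → polar P y y' ≠ 0 → τ c y ≠ 0 := fun {c y y'} h1 h2 e => by
    simpa [e, t2.ne, h1, h2, H.h2] using t2.eq c y c y'
  have h15 : τ b w ≠ 0 := fun e => n1 q.ha (polar_comm P x p ▸ h1) (k.injective (by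
    simpa [e] using h13 1 0))
  have h16 : w ≠ 0 := by rintro rfl; simp at h15
  obtain ⟨α, hα⟩ := (K.px q.toPr2 hil hE M hT hx (by rintro rfl; simp at h1) (w := w) (by
    simp [hw, Q_sub, Q_smul, hx, polar_comm P x p]; grind) h16 h12 (fun v h17 h18 => by
      obtain ⟨c, d, rfl⟩ := t2.zx H.h2 q.toPr2 (by rintro rfl; simp at h1) h17 h18
      exact h13 c d ▸ add_mem (Submodule.smul_mem _ _ (t2.mem_L _ _))
        (Submodule.smul_mem _ _ (t2.mem_L _ _))) fun v h17 h18 => by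
      obtain ⟨c, d, rfl⟩ := t2.zx H.h2 q.toPr2 h16 h17 h18
      rw [← neg_neg c, ← h13, inv_apply_apply]
      exact add_mem (Submodule.smul_mem _ _ (t2.mem_L _ _))
        (Submodule.smul_mem _ _ (t2.mem_L _ _))).nma
  obtain ⟨c, hc⟩ := Submodule.mem_span_singleton.1 (by_contra fun e1 => n1 q.ha
    (polar_self_ne H.h2 he) (eq_zero_of_mem_L e1 (h14 ▸ hα.mem_L (t2.mem_L' a e)) (t2.mem_L' a e)))
  obtain ⟨d, hd⟩ := Submodule.mem_span_singleton.1 (by_contra fun e1 => h15 (eq_zero_of_mem_L e1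
    ((by simpa using h13 1 0 : k (τ a x) = τ b w) ▸ hα.mem_L (t2.mem_L' a x)) (t2.mem_L' b w)))
  have h17 := congrArg (polar P a) (hc.trans hd.symm)
  simp [q.ab, H.h2, q.ha] at h17
  exact ne_zero_of_Q q.ha (by simpa [h17] using hc.symm)

theorem ur_nm (hg : g ∈ CX X (s i) (iv P a b)) (h : UR P a b p p' g τ) : Nm g (s i) (s i) := by
  wlog hp : P p ≠ 0 generalizing p p'
  · refine this (h.rot (s := 0) (t := 1) (by simp)) ?_
    simpa [not_not.1 hp, Q_neg] using h.1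
  obtain ⟨x, h1, h2, h4, h5⟩ | ⟨c, d, h1, h2⟩ := M.iso2 hp p'
  · exact K.ur_one hE M hil hT t2 q hg h h2 h1 h4 h5
  have h4 := h.rot (s := c) (t := d) (by
    by_cases hc : c = 0 <;> by_cases hd : d = 0 <;> simp_all [one_add_one_eq_two, H.h2])
  exact K.ur_one hE M hil hT t2 q hg h4 h2 h1
    (by_contra (K.ur_two hE M hil hT t2 q h3 hg h4 h2)) (pself h2)

theorem exists_ur (hk : k ∈ CX X (s i) (iv P a b)) (hc : P c ≠ 0) :
    ∃ p p', UR P a b p p' (k * sh (s l) (refl P c).1 * k⁻¹) τ := by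
  obtain ⟨u, w, f⟩ := M.exists_fr q.toPr2
  have h1 := K.comm_N' hE M f (bb_fix f.ac f.bc) (bb_fix f.ad f.bd)
    (K.so_mem M i q.ha (q.sub H.h2)) hk (y := sh (s l) (refl P c).1) (H.comm hil _)
  have h2 := H.h2
  have ha := q.ha
  have hκ := t2.ne
  have o := O_polar ⟨k, K.hX hk.1⟩
  obtain ⟨p, p', h4⟩ := t2.neg h2 q.toPr2 (CX.neg hk (t2.neg' q.toPr2 c 0))
  rw [map_zero, add_zero] at h4
  have o' : ∀ y y' z z', polar Q (τ a y + τ b y') (τ a z + τ b z') =
      κ * (2 * P a) * (polar P y z + polar P y' z') := fun y y' z z' => by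
    simp [t2.eq, q.ab, pc q.ab, q.eq, mul_add]
  have n := mul_ne_zero hκ (mul_ne_zero h2 ha)
  have h5 : P p + P p' = P c := by
    have := o (τ a c) (τ a c)
    rw [h4, o', t2.eq, polar_self', polar_self', polar_self', polar_self', mul_right_inj' n] at this
    exact mul_left_cancel₀ h2 (by linear_combination this)
  obtain ⟨y, y', h6⟩ := t2.neg h2 q.toPr2 (CX.neg (inv_mem hk) (t2.neg' q.toPr2 (-p') p))
  replace h6 : k (τ a y + τ b y') = τ a (-p') + τ b p := by rw [← h6, apply_inv_apply]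
  have h7 := h1 (k (τ a c))
  have h8 : s i (bb P a b).1 (k (τ a c)) = k (τ a y + τ b y') := by
    rw [h6]; simp [h4, t2.left, q.bb_left h2, q.bb_right h2, add_comm]
  simp only [h8, LinearEquiv.mul_apply, inv_apply_apply, sh_apply, t2.right, LinearEquiv.coe_coe,
    refl_apply_self hc, map_neg, map_add (s l _), refl_ap c] at h7
  obtain ⟨r, t, h9⟩ : ∃ r t : F, τ a y + τ b y' = r • τ a c + t • τ b c :=
    ⟨(P c)⁻¹ * polar P c y / 2, (P c)⁻¹ * polar P c y' / 2, smul_right_injective _ h2 (by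
      have := k.injective ((map_neg k _).trans h7)
      simp only [map_sub, map_smul, smul_add, smul_smul, mul_div_cancel₀ _ h2] at this ⊢
      linear_combination (norm := module) -this)⟩
  obtain rfl : r = 0 := by
    have := o (τ a c) (τ a y + τ b y')
    rw [h4, h6, o', h9] at this
    simpa [t2.eq, q.ab, polar_comm P p', h2, ha, hκ, hc] using this
  rw [h9, zero_smul, zero_add, map_smul] at h6
  have h10 := h3 t fun e => by
    have := o' (-p') p (-p') p
    simp [← h6, e, h2, ha, hκ, Q_neg, ← mul_add, add_comm, h5, hc, -map_neg] at this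
  refine ⟨p, p', h5 ▸ hc, fun y y' => ?_⟩
  obtain ⟨z, z', h11⟩ := t2.neg h2 q.toPr2 (CX.neg (inv_mem hk) (t2.neg' q.toPr2 y y'))
  have h12 : k (τ a z + τ b z') = τ a y + τ b y' := by rw [← h11, apply_inv_apply]
  have h13 := o (τ a c) (τ a z + τ b z')
  have h14 := o (t • τ b c) (τ a z + τ b z')
  rw [h4, h12, o', ← add_zero (τ a c), ← (τ b).map_zero, o', mul_right_inj' n] at h13
  rw [map_smul, h6, h12, o', ← map_smul, ← zero_add (τ b _), ← (τ a).map_zero, o',
    mul_right_inj' n] at h14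
  simp only [polar_zero_left, polar_neg_left, polar_smul_left, smul_eq_mul] at h13 h14
  rw [LinearEquiv.mul_apply, LinearEquiv.mul_apply, h11, sh_apply, h5, ← h12, h13,
    sub_eq_neg_add (polar P p y'), h14, sub_eq_neg_add (τ b p), ← map_neg, ← h6, ← h4]
  simp only [map_add, t2.right, LinearEquiv.coe_coe, refl_ap, map_sub, map_smul]
  match_scalars <;> grind

omit t2 in
theorem r1C (hk : k ∈ CX X (s i) (iv P a b)) : Nm k (s i) (s i) :=
  H.nm_of_conj fun o ho x c hx hc => by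
  obtain rfl : o = l := by_contra fun e => ho (hT o e)
  obtain ⟨τ, κ, t2⟩ := H.exists_t2 hil hT
  by_cases h0 : P c = 0
  · by_cases h1 : x = 0
    · simp [h1, eich_zero_left, ← End.one_eq_id]
    obtain ⟨r, rfl⟩ := Submodule.mem_span_singleton.1 (M.an x c hx h1 h0 hc)
    simp [eich_smul_self, ← End.one_eq_id]
  obtain ⟨u, w, f⟩ := M.exists_fr q.toPr2
  have key : ∀ e, P e ≠ 0 → Nm (k * (sh (s i) (refl P u).1 * sh (s o) (refl P e).1) * k⁻¹) (s i) (s i) :=
    fun e he => by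
      obtain ⟨p, p', h⟩ := K.exists_ur hE M hil hT t2 q h3 hk he
      refine K.ur_nm hE M hil hT t2 q h3 (p := p) (p' := p') (mul_mem (mul_mem hk
        ⟨K.two_refl M i o f.hc he, .mul_right ((((refl_comm f.ac).mul_left (refl_comm f.bc)).map
          (O P).subtype).map (sh (s i))) (H.sh_comm hil _ _)⟩) (inv_mem hk)) ⟨h.1, fun y y' => ?_⟩
      rw [← h.2]
      obtain ⟨z, z', h1⟩ := t2.neg H.h2 q.toPr2 (CX.neg (inv_mem hk) (t2.neg' q.toPr2 y y'))
      simp only [LinearEquiv.mul_apply, h1]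
      simp only [sh_apply, map_add, t2.left, t2.right, LinearEquiv.coe_coe,
        refl_apply_of_orth f.ac, refl_apply_of_orth f.bc]
  have h4 := mul_mem (mul_mem hk (mem_CX (K.sh_mem o (eich_mem_E x c)) (H.comm hil _) (iv P a b)))
    (inv_mem hk)
  refine H.cpw M q.toPr2 (K.hX h4.1) (n := 1) (by
    rw [pow_one, conj_pow, sh_eich_pow _ hx hc]; simp) ?_ h4.2
  convert (key c h0).mul (key (c - P c • x) (by simpa [Q_sub, Q_smul, hx, pc hc] using h0)) using 1
  rw [conj_mul, (H.sh_comm hil _ _).symm.mul_mul_mul_comm, ← map_mul, ← map_mul, ← Subgroup.coe_mul,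
    refl_mul_self, eich_eq_refl_mul_refl hx hc h0]
  simp

end OV

namespace OV

variable (K : OV H X) (hE : ¬ E Q ≤ X.subgroupOf (O Q)) (M : M4 P)
include K hE M

theorem r1 (q : Pr2 P a b) (hk : k ∈ CX X (s i) (iv P a b)) : Nm k (s i) (s i) := by
  have := K.nt
  by_cases hT : ∀ i j : T, ∃ k, k ≠ i ∧ k ≠ j
  · exact K.r1A hE M q (fun _ => K.refl_mem M hT i) hk
  have sg : ∀ {ρ ρ' : O P} {t : F}, (ρ.1 : End F U) = t • ρ'.1 → k ∈ CX X (s i) ρ' → k ∈ CX X (s i) ρ :=
    fun {ρ ρ' t} e h => ⟨h.1, LinearEquiv.toLinearMap_injective (by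
      simp only [LinearEquiv.coe_toLinearMap_mul, sh_coe, e, map_smul, smul_mul_assoc, mul_smul_comm]
      exact congrArg (t • LinearEquiv.toLinearMap ·) h.2.eq)⟩
  by_cases h3 : ∀ t : F, t ≠ 0 → t * t = 1
  · obtain ⟨l, hl⟩ := two_slot hT i
    obtain ⟨u, w, p, t, h1, h2⟩ := M.sign q
    refine K.r1C hE M ?_ hl p h3 (sg (t := t) (by rw [h2, smul_smul, h1, one_smul]) hk)
    rintro rfl
    exact let ⟨k, hk⟩ := exists_ne i; hk (hl k hk)
  push Not at h3
  obtain ⟨t, ht, ht'⟩ := h3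
  obtain ⟨c, d, f⟩ := M.exists_fr q
  obtain ⟨x, h1, h2, h3, h4⟩ | ⟨x, h1, h2, h3, h4⟩ := M.iso f
  · exact K.r1B hE M ht ht' f h2 h1 h3 h4 hk
  · exact K.r1B hE M ht ht' f.swap h2 h1 h3 h4 (sg (t := -1) (by simp [M.iv_neg f]) hk)

end OV

end CfsgLib.C7O
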