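import Mathlib
import Cfsg.Agent.Lib.C7O.Ov8

/-!
Four-dimensional orthogonal spaces of Witt index one: orders of elements.
-/

set_option autoImplicit false
set_option linter.unusedSectionVars false

namespace CfsgLib.C7O

open Module CfsgLib.ClMax CfsgLib.ClMax.Ten CfsgLib.OrthE CfsgLib.OMax QuadraticMap CfsgLib.C7

variable {F U V : Type*} [Field F] [AddCommGroup U] [Module F U] [AddCommGroup V] [Module F V]
  {P : QuadraticForm F U} {Q : QuadraticForm F V} [FiniteDimensional F U] [FiniteDimensional F V]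
  [Finite F] {a b c d u w : U}

theorem pow_fix {Z : Submodule F U} (h2 : finrank F Z = 2) {η : U ≃ₗ[F] U}
    (h : ∀ v ∈ Z, (η : End F U) v ∈ Z) {v : U} (hv : v ∈ Z) :
    (η ^ Nat.card (GL (Fin 2) F)) v = v := by
  classical
  have h1 : IsUnit ((η : End F U).restrict h) := (LinearMap.isUnit_iff_ker_eq_bot _).2
    (LinearMap.ker_eq_bot'.2 fun z e => Subtype.ext (η.map_eq_zero_iff.1 (congrArg Subtype.val e)))
  obtain ⟨A, hA⟩ := h1.map (LinearMap.toMatrixAlgEquiv (finBasisOfFinrankEq F Z h2))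
  have h3 := congrArg Units.val (pow_card_eq_one' (x := A))
  rw [Units.val_pow_eq_pow_val, hA, ← map_pow, Units.val_one, map_eq_one_iff _ (AlgEquiv.injective _),
    End.pow_restrict] at h3
  simpa [← coe_pow] using congrArg Subtype.val (LinearMap.congr_fun h3 ⟨v, hv⟩)

theorem M4.pow_of_iv (M : M4 P) (p : Pr2 P u w) {η : U ≃ₗ[F] U}
    (h : (η : End F U) * (iv P u w).1 = (iv P u w).1 * η) : η ^ Nat.card (GL (Fin 2) F) = 1 := by
  have key : ∀ {u w}, Pr2 P u w → (η : End F U) * (iv P u w).1 = (iv P u w).1 * η →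
      ∀ v ∈ Submodule.span F (Set.range ![u, w]), (η ^ Nat.card (GL (Fin 2) F)) v = v :=
    fun {u w} p h v hv => by
    refine pow_fix (by
      rw [finrank_span_eq_card (LinearIndependent.pair_iff.2 fun s t e => ⟨by
        simpa [p.ab, M.h2, p.ha] using congrArg (polar P u) e, by
        simpa [pc p.ab, M.h2, p.hb] using congrArg (polar P w) e⟩)]; simp) (fun v hv => ?_) hv
    rw [Matrix.range_cons_cons_empty, Submodule.mem_span_pair] at hv ⊢
    obtain ⟨s, t, rfl⟩ := hv
    obtain ⟨s, t, e⟩ := p.span M.h2 (z := η (s • u + t • w)) (by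
      simpa [p.iv_left, p.iv_right, add_comm] using (LinearMap.congr_fun h (s • u + t • w)).symm)
    exact ⟨s, t, e.symm⟩
  obtain ⟨c, d, f⟩ := M.exists_fr p
  have h1 := key p h
  have h2 := key f.swap.toPr2 (by simp [M.iv_neg f, h])
  exact LinearEquiv.toLinearMap_injective (M.ext f (h1 _ (Submodule.subset_span ⟨0, rfl⟩))
    (h1 _ (Submodule.subset_span ⟨1, rfl⟩)) (h2 _ (Submodule.subset_span ⟨0, rfl⟩))
    (h2 _ (Submodule.subset_span ⟨1, rfl⟩)))

theorem M4.rot (M : M4 P) {α : End F U} {l : F} (h : SA P α l) (hl : ¬ IsSquare l) :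
    ∃ (ρ : O P) (m : ℕ), Odd m ∧ (Nat.card (GL (Fin 2) F)).Coprime m ∧ ρ ^ m = 1 ∧
      α * ρ.1 = ρ.1 * α ∧ ∃ s t : F, t ≠ 0 ∧ (ρ.1 : End F U) + (ρ⁻¹).1 = s • 1 + t • α := by
  classical
  have := Fintype.ofFinite F
  have h2 := M.h2
  have : Nontrivial U := nontrivial_of_finrank_pos (R := F) (by rw [M.h4]; omega)
  obtain ⟨u, w, y, y', -, -, -, -, s, t, ht, e⟩ := M.t3 h hl
  replace e := e _ rfl
  generalize iv P u w * iv P y y' * (iv P u w * iv P y y') = ρ at e
  have a1 : ∀ u w, polar P (ρ.1 u) w = polar P u ((ρ⁻¹).1 w) := fun u w => by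
    rw [← O_polar ρ u]; simp
  have a2 : ∀ u w, polar P ((ρ⁻¹).1 u) w = polar P u (ρ.1 w) := fun u w => by
    rw [polar_comm, ← a1, polar_comm]
  have r1 : (ρ.1 : End F U) * (ρ⁻¹).1 = 1 := coe_mul_inv _
  have r2 : ((ρ⁻¹).1 : End F U) * ρ.1 = 1 := coe_inv_mul _
  have r3 : ∀ n : ℕ, (ρ.1 : End F U) ^ n = (ρ⁻¹).1 → ρ ^ (n + 1) = 1 := fun n e => Subtype.ext
    (LinearEquiv.toLinearMap_injective (by
      rw [Subgroup.coe_pow, coe_pow, pow_succ, e, r2]; rfl))
  have r4 : ((ρ * ρ).1 : End F U) = ρ.1 * ρ.1 := rfl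
  have r5 : (((ρ * ρ)⁻¹).1 : End F U) = (ρ⁻¹).1 * (ρ⁻¹).1 := by rw [mul_inv_rev]; rfl
  simp only [← LinearEquiv.coe_coe ρ.1, ← LinearEquiv.coe_coe (ρ⁻¹).1] at a1 a2
  generalize (ρ.1 : End F U) = r, ((ρ⁻¹).1 : End F U) = r' at e a1 a2 r1 r2 r3 r4 r5
  have aa : α * α = l • 1 := LinearMap.ext h.sq
  have c1 : α * r = r * α := smul_right_injective _ ht (by
    have := congrArg (· * r) e
    have := congrArg (r * ·) e
    simp only [mul_add, add_mul, r1, r2, mul_smul_comm, smul_mul_assoc, mul_one, one_mul] at *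
    linear_combination (norm := module) this - ‹r * r + 1 = s • r + t • (α * r)›)
  have c2 : α * r' = r' * α := by
    rw [← one_mul (α * r'), ← r2, mul_assoc, ← mul_assoc r, ← c1, mul_assoc, r1, mul_one]
  have e2 : r * r + r' * r' = (s * s + t * t * l - 2) • 1 + (2 * s * t) • α := by
    have := congrArg₂ (· * ·) e e
    simp only [mul_add, add_mul, r1, r2, mul_smul_comm, smul_mul_assoc, mul_one, one_mul, aa] at this
    linear_combination (norm := module) this
  obtain ⟨D, hD⟩ : ∃ D, D = r - r' := ⟨_, rfl⟩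
  obtain ⟨x, hx⟩ : ∃ x, x = s * s + t * t * l - 4 := ⟨_, rfl⟩
  obtain ⟨y, hy⟩ : ∃ y, y = 2 * s * t := ⟨_, rfl⟩
  have d1 : D * D = x • 1 + y • α := by
    simp only [hD, hx, hy, mul_sub, sub_mul, r1, r2]
    linear_combination (norm := module) e2
  have d2 : α * D = D * α := by rw [hD, mul_sub, sub_mul, c1, c2]
  have d3 : ∀ u w, polar P (D u) w = -polar P u (D w) := fun u w => by simp [hD, a1, a2]
  have sc : ∀ {a b : F}, a • (1 : End F U) + b • α = 0 → b = 0 := fun {a b} e => by
    by_contra hb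
    obtain ⟨z, hz⟩ := exists_ne (0 : U)
    refine hz (h.no_ev hl (s := -(b⁻¹ * a)) (smul_right_injective _ hb ?_))
    have := LinearMap.congr_fun e z
    simp only [LinearMap.add_apply, LinearMap.smul_apply, End.one_apply, LinearMap.zero_apply,
      smul_smul, mul_neg, mul_inv_cancel_left₀ hb] at this ⊢
    linear_combination (norm := module) this
  have y0 : y ≠ 0 := fun y0 => by
    have h3 := M.skew d3 (t := x) fun u => by simpa [y0] using LinearMap.congr_fun d1 u
    obtain rfl : s = 0 := by simpa [hy, h2, ht] using y0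
    obtain rfl : x = 0 := by simpa [h3, y0] using d1.symm
    exact hl ⟨2 / t, by field_simp; linear_combination -hx⟩
  have n0 : ¬ IsSquare (x * x - l * y * y) := fun ⟨n, hn⟩ => by
    have h3 : D * ((x + n) • 1 - y • α) = 0 := M.skew (t := 2 * (x + n) * n * n) (fun u w => by
      simp [d3, h.adj, ← End.mul_apply α, d2]; ring) fun u => by
        have : D * ((x + n) • 1 - y • α) * (D * ((x + n) • 1 - y • α)) =
            (2 * (x + n) * n * n) • 1 := by
          simp only [mul_sub, sub_mul, mul_smul_comm, smul_mul_assoc, mul_one, mul_assoc, aa,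
            ← mul_assoc α D, d2]
          simp only [← mul_assoc D D, d1, add_mul, mul_smul_comm, smul_mul_assoc, one_mul, aa, mul_one]
          match_scalars <;> grind
        exact LinearMap.congr_fun this u
    have h4 : ((x + n) * (x + n) - l * y * y) • D = 0 := by
      have := congrArg (· * ((x + n) • 1 + y • α)) h3
      simp only [mul_sub, sub_mul, mul_add, mul_smul_comm, smul_mul_assoc, mul_one, mul_assoc, aa,
        zero_mul, one_mul] at this
      linear_combination (norm := module) this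
    rcases smul_eq_zero.1 h4 with h5 | h5
    · exact hl ⟨(x + n) / y, by field_simp; linear_combination -h5⟩
    · exact y0 (sc (by rw [← d1, h5, zero_mul]))
  have hF : ringChar F ≠ 2 := fun e => h2 (by exact_mod_cast e ▸ ringChar.Nat.cast_ringChar (R := F))
  obtain ⟨k, hk⟩ := FiniteField.odd_card_of_char_ne_two hF |> Nat.odd_iff.2
  have eu : ∀ {a : F}, ¬ IsSquare a → a ^ k = -1 := fun {a} ha => by
    have h0 : a ≠ 0 := by rintro rfl; exact ha IsSquare.zero
    have := (FiniteField.pow_dichotomy hF h0).resolve_left (mt (FiniteField.isSquare_iff hF h0).2 ha)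
    rwa [hk, show (2 * k + 1) / 2 = k by omega] at this
  obtain ⟨n, hp, hn⟩ := FiniteField.card F (ringChar F)
  have := Fact.mk hp
  have : CharP (End F U) (ringChar F) := charP_of_injective_algebraMap (algebraMap F _).injective _
  have f1 : ∀ {a b : End F U}, Commute a b → (a + b) ^ (2 * k + 1) = a ^ (2 * k + 1) + b ^ (2 * k + 1) :=
    fun h => by rw [← hk, hn, add_pow_char_pow_of_commute _ _ h]
  have f2 : ∀ (c : F) (a : End F U), (c • a) ^ (2 * k + 1) = c • a ^ (2 * k + 1) := fun c a => by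
    rw [smul_pow, ← hk, FiniteField.pow_card]
  have f3 : ∀ a b : F, (a • 1 + b • α) ^ (2 * k + 1) = a • 1 + -b • α := fun a b => by
    rw [f1 (by simp [Commute, SemiconjBy, smul_comm a]), f2, f2, one_pow, pow_succ, pow_mul, pow_two, aa,
      smul_pow, eu hl]
    simp
  have d4 : D ^ ((2 * k + 1) * (2 * k + 1)) = -D := by
    rw [show (2 * k + 1) * (2 * k + 1) = 2 * (2 * k + 1 + 1) * k + 1 by ring, pow_succ, pow_mul,
      pow_mul, pow_two, d1, pow_succ, f3, show (x • 1 + -y • α) * (x • 1 + y • α) =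
        (x * x - l * y * y) • 1 by
          simp only [mul_add, add_mul, mul_smul_comm, smul_mul_assoc, mul_one, one_mul, aa]; module,
      smul_pow, eu n0]
    simp
  have d5 : Commute (s • 1 + t • α) D := by
    simp [Commute, SemiconjBy, mul_add, add_mul, d2]
  have d6 : r ^ ((2 * k + 1) * (2 * k + 1)) = r' := smul_right_injective _ h2 (by
    have := f1 (d5.pow_pow (2 * k + 1) (2 * k + 1))
    rw [← f1 d5, ← pow_mul D, d4, f3, f3, neg_neg, ← e, hD, show r + r' + (r - r') = (2 : F) • r by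
      module, f2, f2, ← pow_mul] at this
    linear_combination (norm := module) this)
  refine ⟨ρ * ρ, 2 * (k * (k + 1)) + 1, odd_two_mul_add_one _, ?_, ?_, by
    rw [r4, ← mul_assoc, c1, mul_assoc, c1, mul_assoc], _, _, hy ▸ y0, by rw [r4, r5, e2]⟩
  · have g1 : (2 * (k * (k + 1))).Coprime (2 * (k * (k + 1)) + 1) := by simp
    have g2 : (2 * k + 1).Coprime (2 * (2 * (k * (k + 1)) + 1)) := by
      rw [show 2 * (2 * (k * (k + 1)) + 1) = (2 * k + 1) * (2 * k + 1) + 1 by ring]; simp
    rw [Matrix.card_GL_field, Fin.prod_univ_two, hk]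
    refine Nat.Coprime.coprime_dvd_left ?_ (((g1.mul_left g1).mul_left g1).mul_left
      (Nat.Coprime.coprime_mul_left_right g2))
    exact ⟨k * (k + 1) * (k + 1), by
      rw [Fin.val_zero, Fin.val_one, Nat.sub_eq_of_eq_add (c := 4 * (k * (k + 1))) (by ring),
        Nat.sub_eq_of_eq_add (c := 2 * k * (2 * k + 1)) (by ring)]
      ring⟩
  · rw [← pow_two, ← pow_mul, ← r3 _ d6]; congr 1; ring

end CfsgLib.C7O
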