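import Mathlib
import Cfsg.Agent.Lib.C7O.Ov9

/-!
Overgroups of the stabiliser of a tensor power of `O₄⁻`: recognition of involutions.
-/

set_option autoImplicit false
set_option linter.unusedSectionVars false

namespace CfsgLib.C7O

open Module CfsgLib.ClMax CfsgLib.ClMax.Ten CfsgLib.OrthE CfsgLib.OMax QuadraticMap CfsgLib.C7

variable {F U V : Type*} [Field F] [AddCommGroup U] [Module F U] [AddCommGroup V] [Module F V]
  {P : QuadraticForm F U} {Q : QuadraticForm F V} [FiniteDimensional F U] [FiniteDimensional F V]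
  {X : Subgroup (V ≃ₗ[F] V)} [Finite F] {a b c d u w x x' : U} {g k z : V ≃ₗ[F] V} {α : U ≃ₗ[F] U}

section One

variable {s s' : End F U →ₐ[F] End F V}

theorem nma_sh (h : Nma g s s' α) (β : U ≃ₗ[F] U) : g * sh s β * g⁻¹ = sh s' (α * β * α⁻¹) :=
  mul_inv_eq_iff_eq_mul.2 (LinearEquiv.toLinearMap_injective (nma_s h β))

theorem sh_inj [Nontrivial V] : Function.Injective (sh s) := fun _ _ e =>
  LinearEquiv.toLinearMap_injective (s_inj (congrArg LinearEquiv.toLinearMap e))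

theorem nma_comm [Nontrivial V] (h : Nma g s s α) {β : U ≃ₗ[F] U} :
    Commute (sh s β) g ↔ (α : End F U) * β = β * α := by
  rw [commute_iff_eq, eq_comm, ← mul_inv_eq_iff_eq_mul, nma_sh h, sh_inj.eq_iff, mul_inv_eq_iff_eq_mul,
    ← LinearEquiv.toLinearMap_inj]
  rfl

theorem nma_mul {s'' : End F U →ₐ[F] End F V} {β : U ≃ₗ[F] U} (h : Nma g s' s'' α)
    (h' : Nma k s s' β) : Nma (g * k) s s'' (α * β) := fun u φ => by
  rw [LinearEquiv.coe_toLinearMap_mul, mul_assoc, h', ← mul_assoc, h, mul_assoc]; rfl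

theorem nma_pow (h : Nma g s s α) (n : ℕ) : Nma (g ^ n) s s (α ^ n) := by
  induction n with
  | zero => exact fun u φ => (one_mul _).trans (mul_one _).symm
  | succ n ih => rw [pow_succ, pow_succ]; exact nma_mul ih h

theorem scalar_of_nma [Nontrivial V] (h : Nma g s s α) (hg : (g : End F V) ∈ Cm s) :
    ∃ c : F, ∀ v, α v = c • v := scalar_of_forall_mem_span (f := (α : End F U)) fun v => by
  by_cases hv : v = 0
  · simp [hv]
  obtain ⟨θ, hθ⟩ := exists_dual_one_of_ne (F := F) hv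
  have := LinearMap.congr_fun (s_inj (s := s) (show r s v θ = r s _ _ by
    simpa only [mul_assoc, coe_mul_inv, mul_one] using congrArg (· * ((g⁻¹ :) : End F V))
      ((Cm_r hg v θ).symm.trans (h v θ)))) (α v)
  exact Submodule.mem_span_singleton.2 ⟨θ (α v), by simpa [hθ] using this⟩

theorem cow [Nontrivial V] (M : M4 P) (p : Pr2 P u w) (h : Nm k s s)
    (hc : Commute (sh s (iv P u w).1) k) {m : ℕ} (hm : (Nat.card (GL (Fin 2) F)).Coprime m)
    (e : k ^ m = 1) : (k : End F V) ∈ Cm s := by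
  have : Nontrivial U := nontrivial_of_ne _ _ (ne_zero_of_Q p.ha)
  obtain ⟨α, hα⟩ := h.nma
  have h1 := nma_pow hα (Nat.card (GL (Fin 2) F))
  rw [M.pow_of_iv p ((nma_comm hα).1 hc)] at h1
  exact (Subgroup.zpowers_le (H := CU s)).2 (mem_Cm.2 fun a => (nma_one h1 a).symm)
    (mem_zpowers_pow_iff.2 (hm.coprime_dvd_right (orderOf_dvd_of_pow_eq_one e)))

theorem co_eq {θ : Dual F U} (hθ : θ x = 1) {y f : End F V} (h1 : ∀ v, f v ∈ L s x)
    (h2 : ∀ v, y (f v) ∈ L s x) : co s y θ x * f = y * f := LinearMap.ext fun v => by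
  have := LinearMap.congr_fun (r_co (s := s) y θ θ x x) (f v)
  rwa [← Cm_r (co_mem _ _ _), End.mul_apply, End.mul_apply, End.mul_apply,
    r_eq_of_mem_L hθ (h1 v), r_eq_of_mem_L hθ (h2 v), eq_comm] at this

end One

variable {T : Type*} {s : T → End F U →ₐ[F] End F V} [Finite T] {H : OT s P Q} {i j l : T}

theorem OT.sa_of_nma (H : OT s P Q) (M : M4 P) (hz : z ∈ O Q) (h1 : z * z = 1)
    (h : Nma z (s l) (s l) α) : ∃ t, SA P α t := by
  have := H.nt
  obtain ⟨μ, hμ, h2⟩ := H.sim_of_nma hz h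
  obtain ⟨c, hc⟩ := scalar_of_nma (nma_mul h h) (h1 ▸ one_mem _)
  exact ⟨c, M.sa_of h2 hμ hc⟩

namespace OV

variable (K : OV H X) (M : M4 P)
include K M

theorem orbit {B : Subalgebra F (End F V)} (hz : z ∈ X) (h1 : z * z = 1)
    (hB : ∀ k ∈ X, Commute z k → k ^ ringChar F = 1 → (k : End F V) ∈ B)
    (hα : Nma z (s i) (s j) α) (hij : i ≠ j) (hx : Hyp P x x') :
    ee P (s i) x * r (s j) (α x) (polarBilin P x ∘ₗ α.symm) ∈ B := by
  obtain ⟨c, d, p, h2, -, h3, -⟩ := M.exists_pr2 hx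
  obtain ⟨n, hn⟩ : ∃ n : U →ₗ[F] End F V, ∀ c, polar P x c = 0 →
      (sh (s i) (eich P x c).1 : End F V) = 1 + n c - P c • ee P (s i) x :=
    ⟨r (s i) x ∘ₗ polarBilin P - (r (s i)).flip (polarBilin P x), fun c hc => by
      simpa [sh_coe, sub_eq_add_neg] using s_eich (s := s i) hx.he hc 1⟩
  have k : ∀ c, polar P x c = 0 → (1 + n c - P c • ee P (s i) x) *
      (z * (1 + n c - P c • ee P (s i) x) * (z⁻¹ : V ≃ₗ[F] V)) ∈ B := fun c hc => by
    have h14 : Commute (sh (s i) (eich P x c).1) (z * sh (s i) (eich P x c).1 * z⁻¹) :=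
      nma_sh hα _ ▸ H.sh_comm hij _ _
    have h15 := sh_eich_pow (s i) hx.he hc
    have h16 := K.sh_mem i (eich_mem_E x c)
    rw [← hn c hc]
    generalize sh (s i) (eich P x c).1 = y at *
    exact hB (y * (z * y * z⁻¹)) (mul_mem h16 (mul_mem (mul_mem hz h16) (inv_mem hz)))
      (by rw [Commute, SemiconjBy]; nth_rw 2 [h14.eq]
          simp only [inv_eq_of_mul_eq_one_right h1, mul_assoc, ← mul_assoc z z, h1, one_mul, mul_one])
      (by rw [h14.mul_pow, conj_pow, h15]; simp)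
  have k1 := add_mem (add_mem (k (c + d) (by simp [*])) (k (-(c + d)) (by simp [*])))
    (add_mem (k (c - d) (by simp [*])) (k (-(c - d)) (by simp [*])))
  have k2 := add_mem (add_mem (k c h2) (k (-c) (by simp [*]))) (add_mem (k d h3) (k (-d) (by simp [*])))
  have k3 := add_mem (sub_mem k1 (B.smul_mem k2 2)) (B.smul_mem B.one_mem 4)
  have h8 : (8 : F) ≠ 0 := by have := pow_ne_zero 3 H.h2; norm_num at this; exact this
  simp only [Q_neg, Q_add, Q_sub, p.ab, map_neg, map_add, map_sub, mul_add, add_mul, mul_sub, sub_mul,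
    mul_one, one_mul, coe_mul_inv, mul_smul_comm, smul_mul_assoc, hα.conj x, mul_neg, neg_mul] at k3
  convert B.smul_mem k3 (8 * P c * P d)⁻¹ using 1
  rw [eq_inv_smul_iff₀ (by simp [h8, p.ha, p.hb])]
  module

theorem ns {B : Subalgebra F (End F V)} (hz : z ∈ X) (hW : z ∈ H.Wr) (h1 : z * z = 1)
    (hB : ∀ k ∈ X, Commute z k → k ^ ringChar F = 1 → (k : End F V) ∈ B)
    (hf : ∀ l α, Nma z (s l) (s l) α → s l α ∈ B) : ∃ N ∈ B, N ≠ 0 ∧ z * N ∈ B := by
  classical
  have := Fintype.ofFinite T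
  have := H.nt
  have := H.ntU
  have sy : ∀ {l m α}, Nma z (s l) (s m) α → Nma z (s m) (s l) α.symm := fun h =>
    inv_eq_of_mul_eq_one_right h1 ▸ h.symm
  have key : ∀ S₀ : Finset T, ∃ S : Set T, (∀ l ∈ S₀, l ∈ S) ∧
      (∀ l ∈ S, ∀ m, Nm z (s l) (s m) → m ∈ S) ∧ ∃ N ∈ B, ∃ N' ∈ B, ∃ y : End F V, N ≠ 0 ∧
        z * N = y * N' ∧ (∀ l ∈ S, y ∈ Cm (s l)) ∧ ∀ l ∉ S, N ∈ Cm (s l) ∧ N' ∈ Cm (s l) ∧
          ∀ m α, Nma z (s l) (s m) α → ∀ u φ,
            y * r (s l) u φ = r (s m) (α u) (φ ∘ₗ α.symm) * y := fun S₀ => by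
    induction S₀ using Finset.induction_on with
    | empty => exact ⟨∅, by simp, by simp, 1, one_mem _, 1, one_mem _, z, one_ne_zero, rfl, by simp,
        fun _ _ => ⟨one_mem _, one_mem _, fun _ _ h => h⟩⟩
    | insert l S₀ hl ih =>
      obtain ⟨S, h4, h5, N, h6, N', h6', y, h7, h8, h9, h10⟩ := ih
      by_cases h11 : l ∈ S
      · exact ⟨S, by simpa [h11] using h4, h5, N, h6, N', h6', y, h7, h8, h9, h10⟩
      obtain ⟨j, hj⟩ := hW l
      obtain ⟨α, hα⟩ := hj.nma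
      have h12 : j ∉ S := fun h => h11 (h5 _ h _ (sy hα).nm)
      have n1 : ∀ {a m}, a ∉ S → m ∈ S → m ≠ a := fun h h' e => h (e ▸ h')
      refine ⟨insert l (insert j S), by simp +contextual [h4], ?_, ?_⟩
      · rintro m (rfl | rfl | hm) o ho
        · simp [H.nm_unique ho hj]
        · simp [H.nm_unique ho (sy hα).nm]
        · simp [h5 m hm o ho]
      simp only [Set.mem_insert_iff, not_or, forall_eq_or_imp]
      obtain ⟨l1, l2, l3⟩ := h10 l h11
      by_cases e : l = j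
      · subst e
        have e1 : y * s l α.symm ∈ Cm (s l) := mem_Cm_of_r fun u φ => by
          have := congrArg (· * s l α.symm) (l3 l α hα (α.symm u) (φ ∘ₗ α))
          simp only [mul_assoc, r_mul_s, s_mul_r, LinearMap.comp_assoc, LinearEquiv.comp_symm,
            LinearMap.comp_id, α.apply_symm_apply] at this ⊢
          exact this.symm
        refine ⟨N, h6, s l α * N', mul_mem (hf l α hα) h6', y * s l α.symm, h7, by
          rw [h8, mul_assoc, ← mul_assoc (s l _), ← map_mul, show (α.symm : End F U) * α = 1 from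
            coe_inv_mul α, map_one, one_mul], ⟨e1, e1, fun m hm => mul_mem (h9 m hm) (H.comm (n1 h11 hm) _)⟩,
          fun m hm => ⟨(h10 m hm.2.2).1, mul_mem (H.comm hm.1 _) (h10 m hm.2.2).2.1,
            fun o β hβ u φ => by
              rw [mul_assoc, Cm_r (H.comm hm.1 _), ← mul_assoc, (h10 m hm.2.2).2.2 o β hβ, mul_assoc]⟩⟩
      obtain ⟨j1, j2, j3⟩ := h10 j h12
      obtain ⟨x, x', hx⟩ := H.nP.exists_hyp_of_three H.h3
      have a1 := pb_ne H.nP hx.e_ne
      have a2 : α x ≠ 0 := by simpa using hx.e_ne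
      have a3 : polarBilin P x ∘ₗ (α.symm : End F U) ≠ 0 := fun e =>
        a1 (LinearMap.ext fun v => by simpa using LinearMap.congr_fun e (α v))
      have a4 := H.r_mem e (α x) (polarBilin P x ∘ₗ (α.symm : End F U))
      have a5 := K.orbit M hz h1 hB hα e hx
      obtain ⟨θ, hθ⟩ := exists_dual_one_of_ne (F := F) hx.e_ne
      obtain ⟨θ', hθ'⟩ := exists_dual_one_of_ne (F := F) a2
      have a6 : ∀ m, m ≠ l → m ≠ j → ee P (s l) x * r (s j) (α x) (polarBilin P x ∘ₗ α.symm) ∈ Cm (s m) :=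
        fun m h h' => mul_mem (H.r_mem h _ _) (H.r_mem h' _ _)
      have a7 : ∀ {E}, E ∈ Cm (s l) → E ∈ Cm (s j) → E * (ee P (s l) x * r (s j) (α x)
          (polarBilin P x ∘ₗ α.symm)) = ee P (s l) x * r (s j) (α x) (polarBilin P x ∘ₗ α.symm) * E :=
        fun h h' => by rw [Cm_r' h, Cm_r h', mul_assoc]
      have a8 := co_eq (s := s l) hθ (y := y) (f := ee P (s l) x * r (s j) (α x)
        (polarBilin P x ∘ₗ α.symm)) (fun v => r_mem_L _ _ _) fun v => by
          rw [← Cm_r a4, ← End.mul_apply, ← mul_assoc, j3 l _ (sy hα), α.symm_apply_apply]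
          exact r_mem_L _ _ _
      have a9 := co_eq (s := s j) hθ' (y := co (s l) y θ x) (f := ee P (s l) x * r (s j) (α x)
        (polarBilin P x ∘ₗ α.symm)) (fun v => Cm_r a4 _ _ ▸ r_mem_L _ _ _) fun v => by
          rw [← End.mul_apply, a8, ← mul_assoc, l3 j _ hα]
          exact r_mem_L _ _ _
      refine ⟨_, mul_mem a5 h6, _, mul_mem a5 h6', co (s j) (co (s l) y θ x) θ' (α x), fun h =>
        h7 (r_mul_eq_zero a2 a3 j1 (r_mul_eq_zero hx.e_ne a1 (mul_mem a4 l1) (mul_assoc _ _ N ▸ h))), by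
          rw [← a7 l1 j1, ← mul_assoc, h8, mul_assoc, a7 l2 j2, ← mul_assoc _ _ N', ← mul_assoc _ _ N',
            a9, a8], ⟨co_mem_Cm (H.comm (Ne.symm e)) (co_mem _ _ _) _ _, co_mem _ _ _, fun m hm =>
          co_mem_Cm (H.comm (n1 h12 hm).symm) (co_mem_Cm (H.comm (n1 h11 hm).symm) (h9 m hm) _ _) _ _⟩,
        fun m hm => ⟨mul_mem (a6 m hm.1 hm.2.1) (h10 m hm.2.2).1,
          mul_mem (a6 m hm.1 hm.2.1) (h10 m hm.2.2).2.1, fun o β hβ u φ => ?_⟩⟩
      have o1 : l ≠ o := fun e => hm.2.1 (H.nm_inj (e ▸ hβ.nm) (sy hα).nm)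
      have o2 : j ≠ o := fun e => hm.1 (H.nm_inj (e ▸ hβ.nm) hj)
      rw [← co_mul_Cm (H.r_mem (Ne.symm hm.2.1) _ _), ← co_mul_Cm (H.r_mem (Ne.symm hm.1) _ _),
        (h10 m hm.2.2).2.2 o β hβ, co_Cm_mul (H.r_mem o1 _ _), co_Cm_mul (H.r_mem o2 _ _)]
  obtain ⟨S, h4, -, N, h6, N', h6', y, h7, h8, h9, -⟩ := key Finset.univ
  obtain ⟨c, rfl⟩ := H.scalar fun l => h9 l (h4 l (Finset.mem_univ l))
  exact ⟨N, h6, h7, h8 ▸ mul_mem (B.smul_mem (one_mem _) c) h6'⟩

end OV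

end CfsgLib.C7O
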