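import Mathlib
import Cfsg.Agent.Lib.C7O.Ov10

/-!
Overgroups of the stabiliser of a tensor power of `O₄⁻`: rigidity of involutions.
-/

set_option autoImplicit false
set_option linter.unusedSectionVars false

namespace CfsgLib.C7O

open Module CfsgLib.ClMax CfsgLib.ClMax.Ten CfsgLib.OrthE CfsgLib.OMax QuadraticMap CfsgLib.C7

variable {F U V : Type*} [Field F] [AddCommGroup U] [Module F U] [AddCommGroup V] [Module F V]
  {P : QuadraticForm F U} {Q : QuadraticForm F V} [FiniteDimensional F U] [FiniteDimensional F V]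
  {X : Subgroup (V ≃ₗ[F] V)} [Finite F] {a b c d u w x x' : U} {g k z : V ≃ₗ[F] V} {α : U ≃ₗ[F] U}
  {T : Type*} {s : T → End F U →ₐ[F] End F V} [Finite T] {H : OT s P Q} {i j l : T}

theorem not_mul_mem [Nontrivial V] (M : M4 P) (p : Pr2 P u w) {s : End F U →ₐ[F] End F V}
    {N : End F V} (h : N ∈ Cm s) (h0 : N ≠ 0) : s (iv P u w).1 * N ∉ Cm s := fun h1 =>
  iv_not_mem (s := s) M p (mem_Cm.2 fun a => by
    rw [← map_mul, ← map_mul]
    refine congrArg s (by_contra fun e => h0 (s_mul_eq_zero (sub_ne_zero.2 e) h ?_))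
    rw [map_sub, map_mul, map_mul, sub_mul, mul_assoc, mem_Cm.1 h1, mul_assoc, mul_assoc,
      mem_Cm.1 h, sub_self])

theorem Fr.iv_mul (f : Fr P a b c d) : iv P a b * iv P a c = iv P b c := by
  rw [← f.toPr2.iv_comm, iv, iv, iv, mul_assoc, ← mul_assoc (refl P a), refl_mul_self, one_mul]

namespace OV

variable (K : OV H X) (hE : ¬ E Q ≤ X.subgroupOf (O Q)) (M : M4 P)
include K hE M

theorem bb_inv (p : PI P u w) (hk : k ∈ CX X (s i) (iv P u w)) :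
    k * sh (s i) (bb P u w).1 * k⁻¹ = sh (s i) (bb P u w).1 ∨
      k * sh (s i) (bb P u w).1 * k⁻¹ = (sh (s i) (bb P u w).1)⁻¹ := by
  have := H.nt
  have := H.ntU
  obtain ⟨κ, hκ⟩ := (K.r1 hE M p.toPr2 hk).nma
  obtain ⟨μ, hμ, h1⟩ := H.sim_of_nma (K.hX hk.1) hκ
  have h2 : κ * (iv P u w).1 = (iv P u w).1 * κ :=
    LinearEquiv.toLinearMap_injective ((nma_comm hκ).1 hk.2)
  have h3 : κ * (bb P u w).1 * κ⁻¹ = (iv P (κ u) (κ (u - w))).1 := h1.conj_iv H.h2 hμ u (u - w)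
  rw [nma_sh hκ, h3, ← map_inv, ← Subgroup.coe_inv]
  refine (M.eq_bb p (g := iv P (κ u) (κ (u - w))) (Subtype.ext ?_) fun z h4 h5 => ?_).imp
    (fun e => by rw [e]) fun e => by rw [e]
  · rw [Subgroup.coe_mul, ← h3, conj_mul, ← Subgroup.coe_mul, M.bb_sq p, h2, mul_inv_cancel_right]
  · obtain ⟨h6, h7⟩ := p.toPr2.orth H.h2 (z := κ⁻¹ z) (κ.injective (by
      rw [← LinearEquiv.mul_apply, h2, LinearEquiv.mul_apply, apply_inv_apply, iv_fix h4 h5]))
    rw [← h3, LinearEquiv.mul_apply, LinearEquiv.mul_apply, bb_fix h6 h7, apply_inv_apply]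

variable (p : PI P u w) (hg : g ∈ X) (hz : z = g * sh (s i) (iv P u w).1 * g⁻¹)
include p hg hz

omit hE M p K in
theorem mem_CX' (hk : k ∈ X) (hc : Commute z k) : g⁻¹ * k * g ∈ CX X (s i) (iv P u w) :=
  ⟨mul_mem (mul_mem (inv_mem hg) hk) hg, by simpa [hz, mul_assoc] using hc.conj g⁻¹⟩

theorem cm_of_pow (hk : k ∈ X) (hc : Commute z k) (h : k ^ ringChar F = 1) :
    ((g⁻¹ * k * g :) : End F V) ∈ Cm (s i) :=
  have h1 := mem_CX' hg hz hk hc
  H.cpw M p.toPr2 (K.hX h1.1) (n := 1) (by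
    simpa [h] using conj_pow (a := g⁻¹) (b := k) (i := ringChar F)) (K.r1 hE M p.toPr2 h1) h1.2

theorem nm_of_range {β : End F U} (h : (z : End F V) = s l β) : Nm g (s i) (s l) := by
  have := H.nt
  have := H.ntU
  exact inv_inv g ▸ (H.nm_of_conj fun m hm x c hx hc => by
    rw [inv_inv]
    exact K.cm_of_pow hE M p hg hz (K.sh_mem m (eich_mem_E x c)) (LinearEquiv.toLinearMap_injective
      (show (z : End F V) * _ = _ * z from h ▸ mem_Cm.1 (H.comm hm.symm _) _)) (sh_eich_pow _ hx hc)).symm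

theorem loc (hα : Nma z (s l) (s l) α) {t : F} (h : SA P α (t * t)) :
    (∃ β, (z : End F V) = s l β) ∨ (z : End F V) ∈ Cm (s l) := by
  have := H.nt
  have := H.ntU
  have ht : t ≠ 0 := left_ne_zero_of_mul h.ne
  obtain ⟨a, b, c, d, f, ⟨t₁, h1⟩, ⟨t₂, h2⟩, t₃, h3⟩ := M.exists_ev (α := t⁻¹ • (α : End F U))
    ⟨fun u w => by simpa using .inl (h.adj u w), fun u => by
      simp [show α (α u) = _ from h.sq u, smul_smul, ht], one_ne_zero⟩
  rw [LinearMap.smul_apply, inv_smul_eq_iff₀ ht, smul_smul] at h1 h2 h3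
  have c1 := (nma_comm hα).2 (f.toPr2.comm h.adj h1 h2)
  have c2 := (nma_comm hα).2 (f.mid.toPr2.comm h.adj h1 h3)
  have m1 : sh (s l) (iv P a b).1 ∈ X := K.so_mem M l f.ha f.hb
  have m2 : sh (s l) (iv P a c).1 ∈ X := K.so_mem M l f.ha f.hc
  obtain ⟨y, hy⟩ : ∃ y, y = g * sh (s i) (bb P u w).1 * g⁻¹ := ⟨_, rfl⟩
  have y1 : y ∈ X := hy ▸ mul_mem (mul_mem hg (K.so_mem M i p.ha (p.sub H.h2))) (inv_mem hg)
  have y2 : y * y = z := by rw [hy, hz, conj_mul, ← map_mul, ← Subgroup.coe_mul, M.bb_sq p]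
  have y3 : ∀ k ∈ X, Commute k z → k * y * k⁻¹ = y ∨ k * y * k⁻¹ = y⁻¹ := fun k hk hc =>
    (K.bb_inv hE M p (mem_CX' hg hz hk hc.symm)).imp
      (fun e => by rw [hy]; nth_rw 2 [← e]; group) fun e => by rw [hy, conj_inv, ← e]; group
  have y4 : ∀ {a b}, Pr2 P a b → sh (s l) (iv P a b).1 * y * (sh (s l) (iv P a b).1)⁻¹ = y →
      Nm y (s l) (s l) := fun q e => K.r1 hE M q ⟨y1, mul_inv_eq_iff_eq_mul.1 e⟩
  obtain ⟨β, hβ⟩ : ∃ β, Nma y (s l) (s l) β := Nm.nma <| by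
    rcases y3 _ m1 c1 with e1 | e1
    · exact y4 f.toPr2 e1
    rcases y3 _ m2 c2 with e2 | e2
    · exact y4 f.mid.toPr2 e2
    refine y4 f.rot.toPr2 ?_
    rw [← f.iv_mul, Subgroup.coe_mul, map_mul, mul_inv_rev, mul_assoc _ _ y, mul_assoc, ← mul_assoc _ _⁻¹,
      e2, ← mul_assoc, ← conj_inv, e1, inv_inv]
  have y5 : ∀ {ρ}, sh (s l) ρ * y * (sh (s l) ρ)⁻¹ = y⁻¹ → ∃ β, (z : End F V) = s l β := fun {ρ} e =>
    ⟨_, (congrArg LinearEquiv.toLinearMap (show z = sh (s l) (β * ρ * β⁻¹ * ρ⁻¹) by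
      rw [map_mul, ← nma_sh hβ, map_inv, mul_assoc, mul_assoc, ← mul_assoc _ y⁻¹, ← conj_inv, e,
        inv_inv, y2])).trans (sh_coe _ _)⟩
  rcases y3 _ m1 c1 with e1 | e1
  swap; · exact .inl (y5 e1)
  rcases y3 _ m2 c2 with e2 | e2
  swap; · exact .inl (y5 e2)
  obtain ⟨μ, -, h4⟩ := H.sim_of_nma (K.hX y1) hβ
  have h5 := M.diag f h4 ((nma_comm hβ).1 (mul_inv_eq_iff_eq_mul.1 e1))
    ((nma_comm hβ).1 (mul_inv_eq_iff_eq_mul.1 e2))
  exact .inr (H.Cm_of_scalar (y2 ▸ nma_mul hβ hβ) fun v => Submodule.mem_span_singleton.2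
    ⟨μ, (LinearMap.congr_fun h5 v).symm⟩)

theorem rig_nm (hW : z ∈ H.Wr) : ∃ l, Nm g (s i) (s l) := by
  have := H.nt
  have := H.ntU
  by_contra! h0
  have h1 : z ∈ X := hz ▸ mul_mem (mul_mem hg (K.so_mem M i p.ha p.hb)) (inv_mem hg)
  have h2 : z * z = 1 := by
    rw [hz, conj_mul, ← map_mul, ← Subgroup.coe_mul, p.toPr2.iv_sq]; simp
  let B := (Cm (s i)).comap (g.symm.conjAlgEquiv F : End F V →ₐ[F] End F V)
  have hB : ∀ k ∈ X, Commute z k → k ^ ringChar F = 1 → (k : End F V) ∈ B :=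
    fun k => K.cm_of_pow hE M p hg hz
  obtain ⟨N, h3, h4, h5⟩ := K.ns M h1 hW h2 hB fun l α hα => by
    obtain ⟨t, ht⟩ := H.sa_of_nma M (K.hX h1) h2 hα
    by_cases h3 : IsSquare t
    · obtain ⟨t, rfl⟩ := h3
      obtain ⟨β, h3⟩ | h3 := K.loc hE M p hg hz hα ht
      · exact absurd (K.nm_of_range hE M p hg hz h3) (h0 l)
      obtain ⟨c, hc⟩ := scalar_of_nma hα h3
      rw [show (α : End F U) = c • 1 from LinearMap.ext hc, map_smul, map_one]
      exact B.smul_mem (one_mem _) c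
    obtain ⟨ρ, m, m1, m2, m3, m4, a, b, m5, m6⟩ := M.rot ht h3
    have m7 : sh (s l) ρ.1 ^ m = 1 := by rw [← map_pow, ← Subgroup.coe_pow, m3]; simp
    have m8 := mem_CX' hg hz (K.mem_odd (H.sh_mem l ρ) (H.mem_Wr_of_eq (sh_coe _ _)) m1 m7)
      ((nma_comm hα).2 m4).symm
    have m9 : g⁻¹ * sh (s l) ρ.1 * g ∈ CU (s i) := cow M p.toPr2 (K.r1 hE M p.toPr2 m8) m8.2 m2 (by
      simpa [m7] using conj_pow (a := g⁻¹) (b := sh (s l) ρ.1) (i := m))
    have m10 : s l (ρ⁻¹).1 ∈ B := by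
      have := inv_mem m9
      rwa [mul_inv_rev, mul_inv_rev, inv_inv, ← mul_assoc, ← map_inv] at this
    have m11 := sub_mem (add_mem (show s l ρ.1 ∈ B from m9) m10) (B.smul_mem (one_mem _) a)
    rw [← map_add, m6, map_add, map_smul, map_one, add_sub_cancel_left, map_smul] at m11
    simpa [m5] using B.smul_mem m11 b⁻¹
  refine not_mul_mem M p.toPr2 h3 (by simpa using h4) ?_
  convert (Subalgebra.mem_comap ..).1 h5 using 1
  ext v
  simp [hz, LinearEquiv.conjAlgEquiv_apply, sh_apply]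

end OV

end CfsgLib.C7O
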