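import Mathlib
import Cfsg.Agent.Lib.C7O.Ov11

/-!
Overgroups of the stabiliser of a tensor power of `O₄⁻`: conclusion.
-/

set_option autoImplicit false
set_option linter.unusedSectionVars false

namespace CfsgLib.C7O

open Module CfsgLib.ClMax CfsgLib.ClMax.Ten CfsgLib.OrthE CfsgLib.OMax QuadraticMap CfsgLib.C7

variable {F U V : Type*} [Field F] [AddCommGroup U] [Module F U] [AddCommGroup V] [Module F V]
  {P : QuadraticForm F U} {Q : QuadraticForm F V} [FiniteDimensional F U] [FiniteDimensional F V]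
  {X : Subgroup (V ≃ₗ[F] V)} [Finite F] {a b g k x y z : V ≃ₗ[F] V}
  {T : Type*} {s : T → End F U →ₐ[F] End F V} [Finite T] {H : OT s P Q} {i j l : T}

variable (P) in
/-- The involutions of `Ω` of a factor. -/
def RI (s : End F U →ₐ[F] End F V) (x : V ≃ₗ[F] V) : Prop :=
  ∃ u w, PI P u w ∧ x = sh s (iv P u w).1

namespace RI

variable {s s' : End F U →ₐ[F] End F V} (h : RI P s x)
include h

theorem sq : x * x = 1 := by
  obtain ⟨u, w, p, rfl⟩ := h
  rw [← map_mul, ← Subgroup.coe_mul, p.toPr2.iv_sq]; simp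

theorem range : ∃ c, (x : End F V) = s c := let ⟨_, _, _, e⟩ := h; ⟨_, e ▸ sh_coe _ _⟩

theorem not_mem [Nontrivial V] (M : M4 P) : (x : End F V) ∉ Cm s :=
  let ⟨_, _, p, e⟩ := h; e ▸ iv_not_mem M p.toPr2

theorem mul [Nontrivial V] (M : M4 P) (hy : RI P s y) (hne : x ≠ y) (hc : Commute x y) :
    RI P s (x * y) := by
  obtain ⟨u, w, p, rfl⟩ := h
  obtain ⟨u', w', q, rfl⟩ := hy
  obtain ⟨a, b, h1, h2⟩ := M.pi_mul p q (fun e => hne (by rw [e])) (Subtype.ext (sh_inj (s := s) (by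
    simpa only [Subgroup.coe_mul, map_mul] using hc.eq)))
  exact ⟨a, b, h1, by rw [← h2, Subgroup.coe_mul, map_mul]⟩

end RI

theorem RI.conj (h : RI P (s i) x) (H : OT s P Q) (hg : g ∈ O Q) (h1 : Nm g (s i) (s j)) :
    RI P (s j) (g * x * g⁻¹) := by
  have := H.nt
  have := H.ntU
  obtain ⟨u, w, p, rfl⟩ := h
  obtain ⟨α, hα⟩ := h1.nma
  obtain ⟨μ, hμ, h2⟩ := H.sim_of_nma hg hα
  have k := h2.Q H.h2
  exact ⟨α u, α w, ⟨⟨(k u).trans_ne (mul_ne_zero hμ p.ha), (k w).trans_ne (mul_ne_zero hμ p.hb),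
    (h2 u w).trans (by simp [p.ab])⟩, (k w).trans (p.eq ▸ (k u).symm)⟩, by
      rw [nma_sh hα, h2.conj_iv H.h2 hμ]⟩

theorem RI.cm (h : RI P (s j) x) (H : OT s P Q) (hij : i ≠ j) : (x : End F V) ∈ Cm (s i) :=
  let ⟨_, e⟩ := h.range; e ▸ H.comm hij _

namespace OV

variable (K : OV H X) (M : M4 P)
include K M

theorem ri_mem (h : RI P (s i) x) : x ∈ X := let ⟨_, _, p, e⟩ := h; e ▸ K.so_mem M i p.ha p.hb

theorem exists_ri (i : T) : ∃ t ∈ X, RI P (s i) t :=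
  let ⟨a, b, _, _, f, e⟩ := M.exists_pi
  ⟨_, K.so_mem M i f.ha f.hb, a, b, ⟨f.toPr2, e⟩, rfl⟩

theorem exists_comm (hk : k ∈ X) (h : Nm k (s i) (s i)) (h1 : k * k = 1) :
    ∃ t, RI P (s i) t ∧ Commute t k := by
  have := H.nt
  have := H.ntU
  obtain ⟨α, hα⟩ := h.nma
  obtain ⟨t, ht⟩ := H.sa_of_nma M (K.hX hk) h1 hα
  obtain ⟨u, w, p, h2⟩ := M.exists_comm ht
  obtain ⟨y, y', q, c, h3, h4⟩ := M.sign p
  refine ⟨_, ⟨y, y', q, rfl⟩, (nma_comm hα).2 (smul_right_injective _ (left_ne_zero_of_mul_eq_one h3) ?_)⟩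
  simpa only [h4, mul_smul_comm, smul_mul_assoc] using h2

theorem mv (ha : RI P (s i) a) : ∃ e ∈ X, (∃ b, (e : End F V) = s i b) ∧
    RI P (s i) (e * a * e⁻¹) ∧ a ≠ e * a * e⁻¹ ∧ Commute a (e * a * e⁻¹) := by
  have := H.nt
  obtain ⟨u, w, p, rfl⟩ := ha
  obtain ⟨c, d, f, h1⟩ := M.exists_val p.toPr2 _ p.hb
  have q : PI P w c := ⟨f.rot.toPr2, h1⟩
  have h2 : sh (s i) (bb P w c).1 * sh (s i) (iv P u w).1 * (sh (s i) (bb P w c).1)⁻¹ =
      sh (s i) (iv P u c).1 := by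
    rw [← map_inv, ← map_mul, ← map_mul, ← Subgroup.coe_inv, ← Subgroup.coe_mul, ← Subgroup.coe_mul,
      conj_iv, q.bb_left H.h2, bb_fix (pc f.ab) (pc f.ac)]
  refine ⟨_, K.so_mem M i p.hb (q.sub H.h2), ⟨_, sh_coe _ _⟩, h2 ▸ ⟨⟨u, c, ⟨f.mid.toPr2,
    h1.trans p.eq⟩, rfl⟩, fun e => ?_, (((((Commute.refl _).mul_right (refl_comm f.ac)).mul_left
      ((refl_comm (pc f.ab)).mul_right (refl_comm f.bc))).map (O P).subtype).map (sh (s i)))⟩⟩
  have h3 := LinearEquiv.congr_fun (sh_inj e) w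
  rw [p.toPr2.iv_right, iv_fix f.ab (pc f.bc), neg_eq_iff_add_eq_zero, ← two_smul F] at h3
  exact smul_ne_zero H.h2 (ne_zero_of_Q p.hb) h3

variable (hE : ¬ E Q ≤ X.subgroupOf (O Q))
include hE

theorem rig (ha : RI P (s i) a) (hg : g ∈ X) (h : g * a * g⁻¹ ∈ H.Wr) : g ∈ H.Wr :=
  have k : ∀ {l t}, RI P (s l) t → g * t * g⁻¹ ∈ H.Wr → ∃ m, Nm g (s l) (s m) :=
    fun ⟨_, _, p, e⟩ h => K.rig_nm hE M p hg (e ▸ rfl) h
  let ⟨_, hj⟩ := k ha h
  K.mem_of_nm hE hg hj fun l => let ⟨t, ht, h⟩ := K.exists_ri M l; ⟨t, ht, h.range, k h⟩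

theorem dh : DH (H.Wr.subgroupOf X) fun i x => RI P (s i) x.1 := by
  have := H.nt
  have := H.ntU
  have sq : ∀ {i} {x : X}, RI P (s i) x.1 → x * x = 1 := fun hx => Subtype.ext hx.sq
  have rig : ∀ {i} {x g : X}, RI P (s i) x.1 → g * x * g⁻¹ ∈ H.Wr.subgroupOf X →
      g ∈ H.Wr.subgroupOf X := fun {_ x g} hx h => K.rig M hE hx g.2 h
  have mem : ∀ {i} {x : X}, RI P (s i) x.1 → x ∈ H.Wr.subgroupOf X := fun h =>
    H.mem_Wr_of_eq h.range.choose_spec
  have cm : ∀ {i j} {x y : X}, i ≠ j → RI P (s i) x.1 → RI P (s j) y.1 → Commute x y :=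
    fun hij hx hy => comm_of_Cm hx.range.choose_spec (hy.cm H hij)
  refine ⟨mem, sq, fun {i x g} hx hg => ?_, fun {i x y} hx hy => ?_, rig, cm,
    fun {i x y k} hx hy hne hc _ h1 h2 => ?_, fun {i j l l' x y a b} hij hx hy ha hb e => ?_,
    fun {i x} hx => ?_⟩
  · exact let ⟨j, hj⟩ := hg i; ⟨j, hx.conj H (K.hX g.2) hj⟩
  · nth_rw 2 [← inv_eq_of_mul_eq_one_right (sq hy)]
    exact hx.conj H (K.hX y.2) (let ⟨_, _, _, e⟩ := hy; e ▸ nm_sh _ _)
  · have h4 := hx.mul M hy (fun e => hne (Subtype.ext e)) (congrArg Subtype.val hc.eq)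
    have h5 : k * x = x * k⁻¹ := by rw [← h1, ← mul_assoc, ← mul_assoc, sq hx, one_mul]
    have h6 : k⁻¹ * y = y * k := by rw [← h2, mul_assoc, sq hy, mul_one]
    refine rig (x := x * y) h4 ?_
    rw [← mul_assoc, h5, mul_assoc x, h6, ← mul_assoc, mul_inv_cancel_right]
    exact mem (x := x * y) h4
  · have key : ∀ {i j} {x y : X}, i ≠ j → RI P (s i) x.1 → RI P (s j) y.1 → a * b = x * y →
        l' ≠ j → b = x := fun {i j x y} hij hx hy e h1 => by
      have h2 : ∀ {m}, m ≠ l → m ≠ l' → ((x * y : X).1 : End F V) ∈ Cm (s m) := fun h h' =>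
        e ▸ mul_mem (ha.cm H h) (hb.cm H h')
      obtain rfl : l = j := by
        by_contra h4
        refine hy.not_mem M ?_
        simpa [← mul_assoc, coe_inv_mul] using
          mul_mem (inv_mem_Cm (hx.cm H hij.symm)) (h2 (Ne.symm h4) h1.symm)
      obtain rfl : l' = i := by
        by_contra h4
        refine hx.not_mem M ?_
        simpa [mul_assoc, coe_mul_inv] using
          mul_mem (h2 hij (Ne.symm h4)) (inv_mem_Cm (hy.cm H hij))
      have h4 : x * b = y * a := by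
        rw [← mul_one (x * b), ← sq ha, ← mul_assoc, mul_assoc x, (cm hij hb ha).eq, e, ← mul_assoc,
          sq hx, one_mul]
      have h5 : ((x * b : X).1 : End F V) ∈ Cm (s l') := h4 ▸ mul_mem (hy.cm H hij) (ha.cm H hij)
      by_contra h6
      refine (hx.mul M hb (fun e => h6 (Subtype.ext e.symm)) (congrArg Subtype.val (?_ : x * b = b * x))).not_mem M h5
      have h7 := comm_of_Cm hx.range.choose_spec h5
      rw [← mul_left_cancel_iff (a := x), h7.eq, mul_assoc]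
    by_cases h : l' = j
    · exact .inr (key hij.symm hy hx (e.trans (cm hij hx hy)) (h ▸ hij.symm))
    · exact .inl (key hij hx hy e h)
  · obtain ⟨e, he, -, h1, h2, h4⟩ := K.mv M hx
    exact ⟨⟨e, he⟩ * x * ⟨e, he⟩⁻¹, h1, fun e => h2 (congrArg Subtype.val e).symm,
      Subtype.ext h4.symm.eq⟩

theorem le_four : X ≤ H.Wr := by
  have := H.nt
  have := K.nt
  have := finite_equiv (F := F) (V := V)
  have : Fact (ringChar F).Prime := ⟨CharP.char_is_prime F _⟩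
  have D := K.dh M hE
  have disj : ∀ {i j} {x : X}, RI P (s i) x.1 → RI P (s j) x.1 → i = j :=
    fun h h' => by_contra fun e => h.not_mem M (h'.cm H e)
  obtain ⟨i, j, hij⟩ := exists_pair_ne T
  obtain ⟨a, ha, ha'⟩ := K.exists_ri M i
  obtain ⟨b, hb, hb'⟩ := K.exists_ri M j
  refine Subgroup.subgroupOf_eq_top.1 (dh_top D disj (fun h e => h.not_mem M (e ▸ one_mem _))
    (fun {_ x y} hx hy h1 h2 => hx.mul M hy (fun e => h1 (Subtype.ext e))
      (congrArg Subtype.val h2.eq)) (fun {i j a b g} hij ha hb h => ?_) (fun {i a} ha => ?_)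
    hij (a := ⟨a, ha⟩) (b := ⟨b, hb⟩) ha' hb')
  · have h1 : g⁻¹ * (a * b) * g * (g⁻¹ * (a * b) * g) = 1 := by
      rw [mul_assoc _ g, ← mul_assoc g, ← mul_assoc g, mul_inv_cancel, one_mul, ← mul_assoc,
        mul_assoc g⁻¹, (D.comm hij ha hb).symm.mul_mul_mul_comm, D.sq ha, D.sq hb]; simp
    have h2 : ∀ {k : X}, Commute (g⁻¹ * (a * b) * g) k → Commute (a * b) (g * k * g⁻¹) :=
      fun h4 => by simpa [mul_assoc] using h4.conj g
    by_contra h4
    obtain ⟨u, w, p, e⟩ := id ha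
    obtain ⟨N, h3, h5, h6⟩ := K.ns M
      (B := (Cm (s i)).comap (g.1.conjAlgEquiv F : End F V →ₐ[F] End F V))
      (g⁻¹ * (a * b) * g).2 h (congrArg Subtype.val h1) (fun k hk h5 h6 => by
        have h7 : (g * ⟨k, hk⟩ * g⁻¹) ^ ringChar F = 1 := by
          rw [conj_pow, show (⟨k, hk⟩ : X) ^ ringChar F = 1 from Subtype.ext h6]; simp
        have h8 : Commute (sh (s i) (iv P u w).1) (g * ⟨k, hk⟩ * g⁻¹ : X).1 := e ▸ congrArg Subtype.val
          (dh_comm D disj hij ha hb (h2 (Subtype.ext h5.eq)) (odd_char H.h2 _) h7).eq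
        exact H.cpw M p.toPr2 (K.hX (g * ⟨k, hk⟩ * g⁻¹).2) (n := 1) (by
          rw [pow_one]; exact congrArg Subtype.val h7) (K.r1 hE M p.toPr2 ⟨Subtype.prop _, h8⟩) h8)
      fun l α hl => absurd (by
        obtain ⟨t, h5, h6⟩ := K.exists_comm M (g⁻¹ * (a * b) * g).2 hl.nm (congrArg Subtype.val h1)
        exact D.rig (x := ⟨t, K.ri_mem M h5⟩) h5
          (dh_cent D disj hij ha hb (h2 (Subtype.ext h6.symm.eq)))) h4
    refine not_mul_mem M p.toPr2 (mul_mem (hb.cm H hij) h3) (fun e => h5 ?_) ?_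
    · simpa [← mul_assoc, coe_inv_mul] using congrArg (((b.1⁻¹ :) : End F V) * ·) e
    · convert (Subalgebra.mem_comap ..).1 h6 using 1
      ext v
      simp [e, LinearEquiv.conjAlgEquiv_apply, sh_apply]
  · obtain ⟨e, he, ⟨c, hc⟩, h1, h2, h4⟩ := K.mv M ha
    exact ⟨⟨e, he⟩, fun l d hl hd => comm_of_Cm hc (hd.cm H hl.symm), ha.mul M h1 h2 h4⟩

end OV

universe u v

theorem le_or' (hq : M4 P ∨ 5 ≤ finrank F U) (n : ℕ) :
    ∀ {V : Type u} [AddCommGroup V] [Module F V] [FiniteDimensional F V] {T : Type v} [Finite T]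
      {s : T → End F U →ₐ[F] End F V} {Q : QuadraticForm F V} (H : OT s P Q)
      (X : Subgroup (V ≃ₗ[F] V)), Nat.card T = n → X ≤ O Q →
      (∀ g ∈ commutator (O Q), g.1 ∈ H.Wr → g.1 ∈ X) → X ≤ H.Wr ∨ E Q ≤ X.subgroupOf (O Q) := by
  induction n using Nat.strong_induction_on with
  | _ n ih =>
  intro V _ _ _ T _ s Q H X hn hX hW
  rcases subsingleton_or_nontrivial T with hT | hT
  · refine .inl fun g _ i => ?_
    obtain ⟨a, ha⟩ := H.mem_range (E := g) (i := i) fun l hl => absurd (Subsingleton.elim _ _) hl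
    exact H.mem_Wr_of_eq ha i
  have := H.ntU
  have : Fact (ringChar F).Prime := ⟨CharP.char_is_prime F _⟩
  have K : OV H X := ⟨hT, hq, hX, hW, fun j Γ hΓ => by
    obtain ⟨W, τ, h, R, s', S, H', e⟩ := H.split j
    let φ := (O Q).subtype.comp S.flip.rhom
    have hφ : ∀ α, (φ α : End F V) = lf h α.1 := S.lhom_eq
    have h1 : ∀ α, (φ α : End F V) ∈ Cm (s j) := fun α => hφ α ▸ S.lf_mem _
    have h2 : ∀ α : O R, α.1 ∈ H'.Wr → φ α ∈ H.Wr := fun α hα l => by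
      by_cases hl : l = j
      · exact ⟨l, nm_of_Cm (hl ▸ h1 α)⟩
      obtain ⟨m, hm⟩ := hα ⟨l, hl⟩
      refine ⟨m, fun a => let ⟨b, hb⟩ := hm a; ⟨b, ?_⟩⟩
      rw [hφ, e ⟨l, hl⟩, e m, ← map_mul, hb, map_mul]
    refine (ih _ (hn ▸ Finite.card_subtype_lt (x := j) (by simp)) H'
      ((Γ.comap φ).map (O R).subtype) rfl
      (Subgroup.map_subtype_le _) fun g hg hg' => ⟨g, hΓ _ (hW _ ?_ (h2 g hg')) (h1 g), rfl⟩).imp
      (fun h3 β h4 h5 h6 => ?_) fun h3 β h4 h5 h6 => ?_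
    · exact Subgroup.commutator_mono le_top le_top (Subgroup.map_commutator ⊤ ⊤ S.flip.rhom ▸
        Subgroup.mem_map_of_mem _ hg)
    · obtain ⟨α, rfl⟩ := S.eq_lhom h4 h5
      exact h2 α (h3 ⟨α, h6, rfl⟩)
    · obtain ⟨α, rfl⟩ := S.eq_lhom h4 h5
      obtain ⟨l, hl⟩ := exists_ne j
      obtain ⟨γ, h7, h8⟩ := h3 (comm_le_E H'.nQ (H'.three ⟨l, hl⟩) (mem_comm_of_odd H'.nQ H.h2
        (H'.three ⟨l, hl⟩) (g := α) (odd_char H.h2 (ringChar F)) (Subtype.ext
          (LinearEquiv.toLinearMap_injective (lf_inj h (by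
            rw [← hφ, ← hφ, map_pow, map_one]; exact congrArg _ h6))))))
      exact Subtype.ext h8 ▸ h7⟩
  exact or_iff_not_imp_right.2 fun hE => hq.elim (K.le_four · hE) (K.le_big hE)

open Cfsg Cfsg.Geo in
/-- The stabiliser of a tensor power of an orthogonal space is maximal in `Ω`. -/
theorem isMaximalIn_omega_pow' {F : Type*} [Field F] [Fintype F] (hodd : Odd (Fintype.card F))
    {k t : ℕ} (ht : 2 ≤ t) {ι : Type} [Fintype ι] [DecidableEq ι]
    {Q : QuadraticForm F (ι → F)} (hQ : Nondeg Q) {e : ι ≃ (Fin t → Fin k)} {P : GL ι F}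
    {f₁ : (Fin k → F) → (Fin k → F) → F} (hf₁ : IsSymmetricForm f₁)
    (hk : 5 ≤ k ∨ k = 4 ∧ ¬ IsPlusTypeOn (fun v => f₁ v v) ⊤)
    (hT : IsTensorPowerFormStructure id (polar Q) f₁ e P) :
    IsMaximalIn (omegaGL ⇑Q) (tensorWreathSubgroup k t e P ⊓ omegaGL ⇑Q) := by
  have h2 := two_ne_zero_of_odd hodd
  have h3 : 3 ≤ k := by omega
  obtain ⟨c, hc, hτ⟩ := C7.form_pvc (σ := RingHom.id F) (Asch.isSesq0_of_bilin hf₁.bilinear) hT
  have hv := pv_sl e P
  have H : OT (sl e P) (NonMax.diagQF hf₁.bilinear) Q := ⟨tp_sl e P (by omega), h2,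
    (nondeg_iff _).2 (NonMax.diagQF_nd h2 hf₁), hQ, by simpa, fun i a a' ha v w => by
      have key : ∀ xs ys, polar Q (sl e P i a (pvc e P xs)) (pvc e P ys) =
          polar Q (pvc e P xs) (sl e P i a' (pvc e P ys)) := fun xs ys => by
        have h1 := ha (xs i) (ys i)
        rw [NonMax.polar_diagQF hf₁, NonMax.polar_diagQF hf₁] at h1
        rw [hv.act, hv.act, hτ, hτ, ← Finset.mul_prod_erase _ _ (Finset.mem_univ i),
          ← Finset.mul_prod_erase _ _ (Finset.mem_univ i), Function.update_self,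
          Function.update_self, mul_left_cancel₀ h2 h1]
        congr 2
        exact Finset.prod_congr rfl fun j hj => by simp [Finset.ne_of_mem_erase hj]
      exact hv.ind (Z := LinearMap.eqLocus (polarBilin Q (sl e P i a v))
        (polarBilin Q v ∘ₗ sl e P i a')) (fun ys => hv.ind (Z := LinearMap.eqLocus
          ((polarBilin Q).flip (pvc e P ys) ∘ₗ sl e P i a)
          ((polarBilin Q).flip (sl e P i a' (pvc e P ys)))) (key · ys) v) w⟩
  have hc : Fintype.card ι = k ^ t := by simp [Fintype.card_congr e]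
  refine isMaximalIn_omega hQ (hc ▸ le_trans (by nlinarith) (Nat.pow_le_pow_right (by omega) ht)) _
    (fun g => g.1 ∈ H.Wr) (fun g k hk => by rw [mem_Wr_sl e P (by omega) (by omega), hk])
    (H.not_le (i := ⟨0, by omega⟩) (j := ⟨1, by omega⟩) (by simp)) fun X _ hX g hg hg' => ?_
  refine ((le_or' ?_ _ H (X.map (O Q).subtype) rfl (Subgroup.map_subtype_le _)
    fun g h1 h2 => ⟨g, hX g h1 h2, rfl⟩).resolve_left fun h => hg' (h ⟨g, hg, rfl⟩)).trans
    fun g ⟨_, h1, h2⟩ => Subtype.ext h2 ▸ h1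
  exact hk.symm.imp (fun ⟨e, h4⟩ => ⟨H.nP, h2, by simpa, an_of fun S h5 h6 =>
    h4 ⟨S, le_top, h5, by simp [h6, e]⟩⟩) (by simp)

end CfsgLib.C7O
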